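import Groth.Agent.Lib.Perfect.Triangle
import Groth.Agent.Lib.CohBasics.Closure
import Groth.Agent.Lib.TensorMod.QCohInv
import Groth.Agent.Lib.TensorMod.TensorQCoh
import Groth.Agent.Lib.Modules.Free
import Groth.Agent.Lib.KRes.CohP
import Mathlib.Algebra.Homology.DerivedCategory.HomologySequence
import Mathlib.Algebra.Homology.DerivedCategory.TStructure

/-!
# Perfect objects on Noetherian schemes have bounded coherent cohomology
-/

set_option autoImplicit false
set_option linter.style.haveILetI false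

universe u

open CategoryTheory Limits AlgebraicGeometry TopologicalSpace

namespace Groth.Agent.Lib.Perfect.Coherent

open Groth.Agent.Lib Groth.Agent.Lib.Perfect.Basic

attribute [local instance] HasDerivedCategory.standard

variable {X U : Scheme.{u}}

/-- Coherence is local. -/
theorem isCoh_of_cover {M : X.Modules}
    (h : ∀ x : X, ∃ (U : Scheme.{u}) (j : U ⟶ X) (_ : IsOpenImmersion j) (y : U),
      j y = x ∧ Coh.IsCoh (M.restrict j)) : Coh.IsCoh M := by
  have key : ∀ x : X, ∃ W : X.Opens, IsAffineOpen W ∧ x ∈ W ∧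
      (∀ f : Γ(X, W), QCoh.Localizing.Localizes M f) ∧ Module.Finite Γ(X, W) Γ(M, W) := by
    intro x
    obtain ⟨U, j, _, y, rfl, hM⟩ := h x
    haveI := hM.1
    obtain ⟨W, hW, hyW, -⟩ :=
      exists_isAffineOpen_mem_and_subset (X := U) (x := y) (U := ⊤) trivial
    have hV : IsAffineOpen (j ''ᵁ W) := hW.image_of_isOpenImmersion j
    refine ⟨j ''ᵁ W, hV, ⟨y, hyW, rfl⟩, ?_,
      (TensorMod.TensorQCoh.finite_restrict_iff j M W).1 (CohBasics.Closure.finite_sections hM hW)⟩
    have hrange : Set.range hV.fromSpec ⊆ Set.range j := by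
      rw [hV.range_fromSpec]
      exact Set.image_subset_range _ _
    let k := IsOpenImmersion.lift j hV.fromSpec hrange
    haveI : IsOpenImmersion (k ≫ j) := by
      rw [IsOpenImmersion.lift_fac]; infer_instance
    haveI : IsOpenImmersion k := IsOpenImmersion.of_comp k j
    apply (QCoh.Localizing.isQCoh_restrict_fromSpec_iff hV).1
    haveI : Coh.IsQCoh
        ((Scheme.Modules.restrictFunctor j ⋙ Scheme.Modules.restrictFunctor k).obj M) :=
      inferInstanceAs (((M.restrict j).restrict k).IsQuasicoherent)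
    exact CohBasics.Closure.isQCoh_of_iso
      (((Scheme.Modules.restrictFunctorCongr (IsOpenImmersion.lift_fac j hV.fromSpec hrange).symm).app M ≪≫
        (Scheme.Modules.restrictFunctorComp k j).app M).symm)
  haveI : M.IsQuasicoherent := QCoh.Localizing.isQCoh_of_forall_exists_localizes fun x => by
    obtain ⟨W, hW, hx, hl, -⟩ := key x
    exact ⟨W, hW, hx, hl⟩
  refine ⟨‹_›, CohBasics.Affine.isFiniteType_of_finite_sections fun x => ?_⟩
  obtain ⟨W, hW, hx, -, hf⟩ := key x
  exact ⟨W, hW, hx, hf⟩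

/-- Finite free modules are coherent. -/
theorem isCoh_freeMod (X : Scheme.{u}) (n : ℕ) : Coh.IsCoh (FlatMod.freeMod X n) := by
  haveI := TensorMod.QCohInv.isQCoh_freeMod X n
  refine CohBasics.Closure.isCoh_of_finite_sections fun W hW => ⟨?_⟩
  let t : Fin n → Γ(FlatMod.freeMod X n, W) := fun i =>
    (FlatMod.freeMod X n).presheaf.map (homOfLE le_top).op (Modules.Free.gen X i)
  rw [← CohBasics.Affine.span_eq_top_of_germ hW (Set.range t) fun x hx => ?_]
  · exact Submodule.fg_span (Set.finite_range t)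
  · rw [← Set.range_comp, ← Modules.Free.span_germ_gen (n := n) x]
    congr 2
    funext i
    exact TopCat.Presheaf.germ_res_apply _ _ x hx _

/-- Finite locally free modules are coherent. -/
theorem isCoh_of_isFinLocFree {M : X.Modules} (hM : FlatMod.IsFinLocFree M) : Coh.IsCoh M :=
  isCoh_of_cover fun x => by
    obtain ⟨V, n, hx, ⟨e⟩⟩ := hM x
    exact ⟨V, V.ι, inferInstance, ⟨x, hx⟩, rfl,
      CohBasics.Closure.isCoh_of_iso e.symm (isCoh_freeMod _ n)⟩

/-- The homology of a complex with coherent terms is coherent. -/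
theorem isCoh_homology [IsLocallyNoetherian X] (S : ShortComplex X.Modules) (h₁ : Coh.IsQCoh S.X₁)
    (h₂ : Coh.IsCoh S.X₂) (h₃ : Coh.IsQCoh S.X₃) : Coh.IsCoh S.homology := by
  have hZ : Coh.IsCoh S.cycles := CohBasics.Closure.isCoh_of_iso S.cyclesIsoKernel.symm
    (CohBasics.Closure.isCoh_kernel S.g h₂ h₃)
  exact CohBasics.Closure.isCoh_of_iso
    ((cokernelIsCokernel S.toCycles).coconePointUniqueUpToIso S.homologyIsCokernel)
    (CohBasics.Closure.isCoh_cokernel S.toCycles h₁ hZ)

/-- Homology commutes with restriction. -/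
noncomputable def homologyIso (j : U ⟶ X) [IsOpenImmersion j] (K : DCoh.D X) (i : ℤ) :
    DCoh.HD ((RD j).obj K) i ≅ (DCoh.HD K i).restrict j :=
  let e := DerivedCategory.Q.objObjPreimageIso K
  (DerivedCategory.homologyFunctor U.Modules i).mapIso ((RD j).mapIso e.symm ≪≫ RDQ j _) ≪≫
    (DerivedCategory.homologyFunctorFactors U.Modules i).app _ ≪≫
    ((DerivedCategory.Q.objPreimage K).sc i).mapHomologyIso (Scheme.Modules.restrictFunctor j) ≪≫
    (Scheme.Modules.restrictFunctor j).mapIso
      (((DerivedCategory.homologyFunctorFactors X.Modules i).app _).symm ≪≫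
        (DerivedCategory.homologyFunctor X.Modules i).mapIso e)

/-- Perfect objects have coherent cohomology on a locally Noetherian scheme. -/
theorem isCohD_of_isPerfect [IsLocallyNoetherian X] {K : DCoh.D X} (hK : DCoh.IsPerfect K) :
    DCoh.IsCohD K := fun i => isCoh_of_cover fun x => by
  obtain ⟨U, j, _, y, E, hy, ⟨-, hlf⟩, ⟨e⟩⟩ := (Triangle.isPerfect_iff K).1 hK x
  haveI := isLocallyNoetherian_of_isOpenImmersion j
  exact ⟨U, j, inferInstance, y, hy, CohBasics.Closure.isCoh_of_iso
    (((DerivedCategory.homologyFunctorFactors U.Modules i).app E).symm ≪≫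
      (DerivedCategory.homologyFunctor U.Modules i).mapIso e.symm ≪≫ homologyIso j K i)
    (isCoh_homology _ (isCoh_of_isFinLocFree (hlf _)).1 (isCoh_of_isFinLocFree (hlf _))
      (isCoh_of_isFinLocFree (hlf _)).1)⟩

/-- Near every point, the cohomology of a perfect object vanishes in almost all degrees. -/
theorem exists_bounds {K : DCoh.D X} (hK : DCoh.IsPerfect K) (x : X) :
    ∃ (V : X.Opens) (a b : ℤ), x ∈ V ∧
      ∀ i : ℤ, i < a ∨ b < i → IsZero ((DCoh.HD K i).restrict V.ι) := by
  obtain ⟨V, hx, hV⟩ := hK x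
  let e := DerivedCategory.Q.objObjPreimageIso K
  obtain ⟨E, ⟨⟨a, b, hv⟩, -⟩, ⟨i⟩⟩ := hV _ ⟨e⟩
  refine ⟨V, a, b, hx, fun n hn => ?_⟩
  refine IsZero.of_iso ?_ ((homologyIso V.ι K n).symm ≪≫
    (DerivedCategory.homologyFunctor _ n).mapIso ((RD V.ι).mapIso e.symm ≪≫ RDQ _ _ ≪≫ i) ≪≫
    (DerivedCategory.homologyFunctorFactors _ n).app E)
  exact HomologicalComplex.ExactAt.isZero_homology
    (HomologicalComplex.ExactAt.of_isZero (hv n hn))

/-- Perfect objects on a quasi-compact scheme are bounded. -/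
theorem bounded_of_isPerfect [CompactSpace X] {K : DCoh.D X} (hK : DCoh.IsPerfect K) :
    ∃ a b : ℤ, K.IsGE a ∧ K.IsLE b := by
  choose V a b hx hz using exists_bounds hK
  obtain ⟨t, ht⟩ := CompactSpace.isCompact_univ.elim_finite_subcover (fun x => (V x : Set X))
    (fun x => (V x).2) (fun x _ => Set.mem_iUnion.2 ⟨x, hx x⟩)
  obtain ⟨A, hA⟩ := (t.finite_toSet.image a).bddBelow
  obtain ⟨B, hB⟩ := (t.finite_toSet.image b).bddAbove
  have key : ∀ i, i < A ∨ B < i → IsZero (DCoh.HD K i) := fun i hi => by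
    refine Modules.Local.isZero_of_restrict (fun x : t => V x.1) ?_ fun x => hz x.1 i ?_
    · refine eq_top_iff.2 fun z _ => ?_
      obtain ⟨x, hxt, hzx⟩ := Set.mem_iUnion₂.1 (ht (Set.mem_univ z))
      exact Opens.mem_iSup.2 ⟨⟨x, hxt⟩, hzx⟩
    · have h1 := hA ⟨x.1, x.2, rfl⟩
      have h2 := hB ⟨x.1, x.2, rfl⟩
      omega
  exact ⟨A, B, (DerivedCategory.isGE_iff K A).2 fun i hi => key i (Or.inl hi),
    (DerivedCategory.isLE_iff K B).2 fun i hi => key i (Or.inr hi)⟩

end Groth.Agent.Lib.Perfect.Coherent
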