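import Groth.Prelude.Def_CohB1
import Groth.Agent.Lib.CohBasics.Affine
import Groth.Agent.Lib.QCoh.Tilde

/-!
# `M~` is of finite type iff `M` is finite
-/

set_option autoImplicit false
set_option linter.style.haveILetI false

universe u

open CategoryTheory AlgebraicGeometry

namespace Groth.Agent.Lib.Perfect.TildeFT

variable {R : CommRingCat.{u}} (M : ModuleCat.{u} R)

/-- `M ≅ Γ(M~, ⊤)` -/
noncomputable def topEquiv : M ≃+ Γ(tilde M, ⊤) := (tilde.isoTop M).toLinearEquiv.toAddEquiv

theorem topEquiv_smul (r : R) (x : M) :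
    topEquiv M (r • x) = (Scheme.ΓSpecIso R).symm.commRingCatIsoToRingEquiv r • topEquiv M x := by
  refine ((tilde.isoTop M).toLinearEquiv.map_smul r x).trans ?_
  refine (Scheme.Modules.smul_Spec_def _ _).trans ?_
  rw [show (⊤ : (Spec R).Opens).leTop.op = 𝟙 _ from rfl, CategoryTheory.Functor.map_id]
  rfl

theorem finite_of_isFT (h : CohB1.IsFT (tilde M)) : Module.Finite R M := by
  haveI : SheafOfModules.IsFiniteType (R := (Spec R).ringCatSheaf) (tilde M) := h
  haveI : (tilde M).IsQuasicoherent := inferInstance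
  have := CohBasics.Affine.finite_sections (M := tilde M) (isAffineOpen_top (Spec R))
  let i : Γ(Spec R, ⊤) →+* R := (Scheme.ΓSpecIso R).symm.commRingCatIsoToRingEquiv.symm.toRingHom
  haveI : RingHomSurjective i :=
    ⟨(Scheme.ΓSpecIso R).symm.commRingCatIsoToRingEquiv.symm.surjective⟩
  let g : Γ(tilde M, ⊤) →ₛₗ[i] M :=
    { (topEquiv M).symm.toAddMonoidHom with
      map_smul' := fun r x => by
        apply (topEquiv M).injective
        change topEquiv M ((topEquiv M).symm (r • x)) = topEquiv M (i r • (topEquiv M).symm x)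
        rw [topEquiv_smul, AddEquiv.apply_symm_apply, AddEquiv.apply_symm_apply]
        exact congrArg (· • x)
          ((Scheme.ΓSpecIso R).symm.commRingCatIsoToRingEquiv.apply_symm_apply r).symm }
  exact Module.Finite.of_surjective g (topEquiv M).symm.surjective

theorem isFT_of_finite [Module.Finite R M] : CohB1.IsFT (tilde M) := by
  haveI : (tilde M).IsQuasicoherent := inferInstance
  refine CohBasics.Affine.isFiniteType_of_finite_sections fun x =>
    ⟨⊤, isAffineOpen_top _, trivial, ?_⟩
  let i : R →+* Γ(Spec R, ⊤) := (Scheme.ΓSpecIso R).symm.commRingCatIsoToRingEquiv.toRingHom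
  haveI : RingHomSurjective i := ⟨(Scheme.ΓSpecIso R).symm.commRingCatIsoToRingEquiv.surjective⟩
  let g : M →ₛₗ[i] Γ(tilde M, ⊤) :=
    { (topEquiv M).toAddMonoidHom with map_smul' := fun r x => topEquiv_smul M r x }
  exact Module.Finite.of_surjective g (topEquiv M).surjective

end Groth.Agent.Lib.Perfect.TildeFT
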