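import Groth.Agent.Lib.Kaehler.LocalPres
import Groth.Agent.Lib.Kaehler.LocFree
import Groth.Agent.Lib.Modules.Free

/-!
# A module which is locally a cokernel of free modules is finitely presented
-/

set_option autoImplicit false
set_option linter.style.haveILetI false

universe u

open CategoryTheory Limits AlgebraicGeometry

namespace Groth.Agent.Lib.Perfect.LocPres

/-- A cokernel of a map of finite free modules on an affine scheme is the sheaf of a finitely
presented module. -/
theorem exists_tilde_iso (R : CommRingCat.{u}) {m n : ℕ}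
    (φ : FlatMod.freeMod (Spec R) n ⟶ FlatMod.freeMod (Spec R) m) :
    ∃ N : ModuleCat.{u} R, Module.FinitePresentation R N ∧ Nonempty (cokernel φ ≅ tilde N) := by
  let F : ∀ k : ℕ, tilde (ModuleCat.of R (Fin k → R)) ≅ FlatMod.freeMod (Spec R) k := fun k =>
    Kaehler.LocFree.tildeFreeIso (M := ModuleCat.of R (Fin k → R)) (Pi.basisFun R (Fin k))
  let ψ := (tilde.fullyFaithfulFunctor (R := R)).preimage ((F n).hom ≫ φ ≫ (F m).inv)
  have hψ : (tilde.functor R).map ψ = (F n).hom ≫ φ ≫ (F m).inv :=
    (tilde.fullyFaithfulFunctor (R := R)).map_preimage _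
  haveI : PreservesColimitsOfSize.{0, 0} (tilde.functor R) :=
    tilde.adjunction.leftAdjoint_preservesColimits
  refine ⟨ModuleCat.of R ((Fin m → R) ⧸ LinearMap.range ψ.hom), ?_, ⟨?_⟩⟩
  · exact Module.finitePresentation_of_surjective _ (Submodule.mkQ_surjective _)
      (by rw [Submodule.ker_mkQ, LinearMap.range_eq_map]; exact Module.Finite.fg_top.map _)
  · exact cokernel.mapIso φ ((tilde.functor R).map ψ) (F n).symm (F m).symm (by rw [hψ]; exact ((F n).inv_hom_id_assoc _).symm) ≪≫
      (PreservesCokernel.iso (tilde.functor R) ψ).symm ≪≫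
      (tilde.functor R).mapIso (ModuleCat.cokernelIsoRangeQuotient ψ)

/-- A module which is locally a cokernel of finite free modules is finitely presented. -/
theorem isFP_of_locPres {X : Scheme.{u}} {M : X.Modules}
    (h : ∀ x : X, ∃ (U : Scheme.{u}) (j : U ⟶ X) (_ : IsOpenImmersion j) (y : U) (m n : ℕ)
      (φ : FlatMod.freeMod U n ⟶ FlatMod.freeMod U m),
      j y = x ∧ Nonempty (M.restrict j ≅ cokernel φ)) : CohB1.IsFP M := by
  refine Kaehler.LocalPres.isFP_of_cover fun x => ?_
  obtain ⟨U, j, _, y, m, n, φ, hy, ⟨e⟩⟩ := h x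
  obtain ⟨W, hW, hxW, hWj⟩ :=
    exists_isAffineOpen_mem_and_subset (X := X) (x := x) (U := j.opensRange) ⟨y, hy⟩
  have hrange : Set.range hW.fromSpec ⊆ Set.range j := by rw [hW.range_fromSpec]; exact hWj
  let k := IsOpenImmersion.lift j hW.fromSpec hrange
  haveI : IsOpenImmersion (k ≫ j) := by rw [IsOpenImmersion.lift_fac]; infer_instance
  haveI : IsOpenImmersion k := IsOpenImmersion.of_comp k j
  let R := Scheme.Modules.restrictFunctor k
  haveI : PreservesColimitsOfSize.{0, 0} R :=
    (Scheme.Modules.restrictAdjunction k).leftAdjoint_preservesColimits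
  let φ' := (Modules.Free.restrictFreeIso k n).inv ≫ R.map φ ≫ (Modules.Free.restrictFreeIso k m).hom
  obtain ⟨N, hN, ⟨i⟩⟩ := exists_tilde_iso _ φ'
  refine ⟨W, hW, hxW, N, hN, ⟨?_ ≪≫ i⟩⟩
  exact ((Scheme.Modules.restrictFunctorCongr (IsOpenImmersion.lift_fac j hW.fromSpec hrange).symm).app M ≪≫
    (Scheme.Modules.restrictFunctorComp k j).app M) ≪≫ R.mapIso e ≪≫
    PreservesCokernel.iso R φ ≪≫
    cokernel.mapIso (R.map φ) φ' (Modules.Free.restrictFreeIso k n) (Modules.Free.restrictFreeIso k m)
      (by simp [φ'])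

end Groth.Agent.Lib.Perfect.LocPres
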