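import Groth.Agent.Lib.Perfect.Coherent
import Groth.Agent.Lib.KRes.KTr
import Mathlib.CategoryTheory.Triangulated.Functor

/-!
# Perfect objects have quasi-coherent cohomology; transport of `K₀` along fully faithful functors
-/

set_option autoImplicit false
set_option linter.style.haveILetI false
set_option linter.unusedSectionVars false

universe v v' u

open CategoryTheory Limits AlgebraicGeometry TopologicalSpace

namespace Groth.Agent.Lib.Perfect.QCohD

open Groth.Agent.Lib Groth.Agent.Lib.Perfect.Basic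

attribute [local instance] HasDerivedCategory.standard

variable {X : Scheme.{u}}

/-- Quasi-coherence is local. -/
theorem isQCoh_of_cover {M : X.Modules}
    (h : ∀ x : X, ∃ (U : Scheme.{u}) (j : U ⟶ X) (_ : IsOpenImmersion j) (y : U),
      j y = x ∧ Coh.IsQCoh (M.restrict j)) : Coh.IsQCoh M := by
  refine QCoh.Localizing.isQCoh_of_forall_exists_localizes fun x => ?_
  obtain ⟨U, j, _, y, rfl, hM⟩ := h x
  haveI := hM
  obtain ⟨W, hW, hyW, -⟩ :=
    exists_isAffineOpen_mem_and_subset (X := U) (x := y) (U := ⊤) trivial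
  have hV : IsAffineOpen (j ''ᵁ W) := hW.image_of_isOpenImmersion j
  refine ⟨j ''ᵁ W, hV, ⟨y, hyW, rfl⟩, ?_⟩
  have hrange : Set.range hV.fromSpec ⊆ Set.range j := by
    rw [hV.range_fromSpec]
    exact Set.image_subset_range _ _
  let k := IsOpenImmersion.lift j hV.fromSpec hrange
  haveI : IsOpenImmersion (k ≫ j) := by
    rw [IsOpenImmersion.lift_fac]; infer_instance
  haveI : IsOpenImmersion k := IsOpenImmersion.of_comp k j
  apply (QCoh.Localizing.isQCoh_restrict_fromSpec_iff hV).1
  haveI : Coh.IsQCoh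
      ((Scheme.Modules.restrictFunctor j ⋙ Scheme.Modules.restrictFunctor k).obj M) :=
    inferInstanceAs (((M.restrict j).restrict k).IsQuasicoherent)
  exact CohBasics.Closure.isQCoh_of_iso
    (((Scheme.Modules.restrictFunctorCongr (IsOpenImmersion.lift_fac j hV.fromSpec hrange).symm).app M ≪≫
      (Scheme.Modules.restrictFunctorComp k j).app M).symm)

/-- Perfect objects have quasi-coherent cohomology. -/
theorem isQCohD_of_isPerfect {K : DCoh.D X} (hK : DCoh.IsPerfect K) : DCoh.IsQCohD K := fun i =>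
  isQCoh_of_cover fun x => by
    obtain ⟨U, j, _, y, E, hy, ⟨-, hlf⟩, ⟨e⟩⟩ := (Triangle.isPerfect_iff K).1 hK x
    haveI : ∀ n, (E.X n).IsQuasicoherent := fun n => TensorMod.QCohInv.isQCoh_of_isFinLocFree (hlf n)
    have h1 : (E.cycles i).IsQuasicoherent := by
      haveI := QCoh.Closure.isQCoh_kernel (E.d i ((ComplexShape.up ℤ).next i))
      exact @CohBasics.Closure.isQCoh_of_iso _ _ _
        ((E.cyclesIsKernel i _ rfl).conePointUniqueUpToIso (kernelIsKernel _)).symm ‹_›
    have h2 : (E.homology i).IsQuasicoherent := by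
      haveI := h1
      haveI := QCoh.Closure.isQCoh_cokernel (E.toCycles ((ComplexShape.up ℤ).prev i) i)
      exact @CohBasics.Closure.isQCoh_of_iso _ _ _
        ((E.homologyIsCokernel _ i rfl).coconePointUniqueUpToIso (cokernelIsCokernel _)).symm ‹_›
    haveI := h2
    exact ⟨U, j, inferInstance, y, hy, @CohBasics.Closure.isQCoh_of_iso _ _ _
      (((DerivedCategory.homologyFunctorFactors U.Modules i).app E).symm ≪≫
        (DerivedCategory.homologyFunctor U.Modules i).mapIso e.symm ≪≫ Coherent.homologyIso j K i) h2⟩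

section Transport

open Pretriangulated Groth.Agent.Lib.KRes
open scoped ZeroObject

variable {D : Type*} [Category.{v} D] [Preadditive D] [HasZeroObject D] [HasShift D ℤ]
  [∀ n : ℤ, (shiftFunctor D n).Additive] [Pretriangulated D]
  {D' : Type*} [Category.{v'} D'] [Preadditive D'] [HasZeroObject D'] [HasShift D' ℤ]
  [∀ n : ℤ, (shiftFunctor D' n).Additive] [Pretriangulated D']
  (F : D ⥤ D') [F.CommShift ℤ] [F.IsTriangulated] [F.Full] [F.Faithful]
  (P : ObjectProperty D) (P' : ObjectProperty D')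

/-- `K₀` is invariant under fully faithful functors hitting every object. -/
theorem exists_K0tr_equiv [P.IsClosedUnderIsomorphisms] [P'.IsClosedUnderIsomorphisms] (h0 : P (0 : D))
    (hP : ∀ K, P K ↔ P' (F.obj K)) (hess : ∀ L, P' L → ∃ K, Nonempty (F.obj K ≅ L)) :
    ∃ φ : KZero.K0tr P ≃+ KZero.K0tr P',
      ∀ K, P K → φ (KZero.clTr P K) = KZero.clTr P' (F.obj K) := by
  let a : KZero.K0tr P →+ KZero.K0tr P' :=
    KTr.lift (fun K => KZero.clTr P' (F.obj K)) fun T hT h₁ h₂ h₃ =>
      KTr.rel (F.map_distinguished T hT) ((hP _).1 h₁) ((hP _).1 h₂) ((hP _).1 h₃)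
  classical
  let pre : D' → D := fun L => if h : P' L then (hess L h).choose else 0
  have hpre : ∀ L (h : P' L), Nonempty (F.obj (pre L) ≅ L) := fun L h => by
    simp only [pre, dif_pos h]
    exact (hess L h).choose_spec
  have hp : ∀ L, P' L → P (pre L) := fun L h => (hP _).2 (P'.prop_of_iso (hpre L h).some.symm h)
  have h0' : P' (F.obj 0) := (hP _).1 h0
  let b : KZero.K0tr P' →+ KZero.K0tr P :=
    KTr.lift (fun L => KZero.clTr P (pre L)) fun T hT h₁ h₂ h₃ => by
      let e₁ := (hpre _ h₁).some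
      let e₂ := (hpre _ h₂).some
      let e₃ := (hpre _ h₃).some
      let f := F.preimage (e₁.hom ≫ T.mor₁ ≫ e₂.inv)
      let g := F.preimage (e₂.hom ≫ T.mor₂ ≫ e₃.inv)
      let δ : pre T.obj₃ ⟶ (pre T.obj₁)⟦(1 : ℤ)⟧ := F.preimage
        (e₃.hom ≫ T.mor₃ ≫ e₁.inv⟦(1 : ℤ)⟧' ≫ (F.commShiftIso (1 : ℤ)).inv.app (pre T.obj₁))
      have hd : Triangle.mk f g δ ∈ distTriang D := by
        rw [← F.map_distinguished_iff]
        refine isomorphic_distinguished _ hT _ (Triangle.isoMk _ _ e₁ e₂ e₃ ?_ ?_ ?_)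
        · change F.map f ≫ e₂.hom = e₁.hom ≫ T.mor₁
          simp [f]
        · change F.map g ≫ e₃.hom = e₂.hom ≫ T.mor₂
          simp [g]
        · change (F.map δ ≫ (F.commShiftIso (1 : ℤ)).hom.app (pre T.obj₁)) ≫ e₁.hom⟦(1 : ℤ)⟧' =
            e₃.hom ≫ T.mor₃
          simp [δ, ← Functor.map_comp]
      exact KTr.rel hd (hp _ h₁) (hp _ h₂) (hp _ h₃)
  refine ⟨AddMonoidHom.toAddEquiv a b ?_ ?_, fun K hK => ?_⟩
  · refine KTr.hom_ext fun K hK => ?_
    have h' : P' (F.obj K) := (hP K).1 hK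
    rw [AddMonoidHom.comp_apply, KTr.lift_cl _ _ hK, KTr.lift_cl _ _ h', AddMonoidHom.id_apply]
    exact KTr.clTr_congr (F.preimageIso (hpre _ h').some.symm) (isZero_zero _) h0 hK
  · refine KTr.hom_ext fun L hL => ?_
    rw [AddMonoidHom.comp_apply, KTr.lift_cl _ _ hL, KTr.lift_cl _ _ (hp L hL), AddMonoidHom.id_apply]
    exact (KTr.clTr_congr (hpre L hL).some (F.map_isZero (isZero_zero D)) h0' ((hP _).1 (hp L hL))).symm
  · change a (KZero.clTr P K) = _
    exact KTr.lift_cl _ _ hK

end Transport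

end Groth.Agent.Lib.Perfect.QCohD
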