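import Groth.Agent.Lib.Perfect.Top
import Groth.Agent.Lib.Perfect.Coherent
import Groth.Agent.Lib.QCoh.Closure
import Groth.Agent.Lib.RefHull.LocFree
import Mathlib.RingTheory.Finiteness.Finsupp

/-!
# Pseudo-coherence on locally Noetherian schemes through coherence of cohomology
-/

set_option autoImplicit false
set_option linter.style.haveILetI false

universe u

open CategoryTheory CategoryTheory.Limits CategoryTheory.Pretriangulated AlgebraicGeometry

attribute [local instance] HasDerivedCategory.standard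

namespace Groth.Agent.Lib.Perfect.PCCoh

open Groth.Agent.Lib Groth.Agent.Lib.Perfect.Basic Groth.Agent.Lib.Perfect.PseudoCoh
open Groth.Agent.Lib.Perfect.Ascent

/-- Coherent modules are closed under extensions. -/
theorem isCoh_of_extension {X : Scheme.{u}} {S : ShortComplex X.Modules} (hS : S.ShortExact)
    (h₁ : Coh.IsCoh S.X₁) (h₃ : Coh.IsCoh S.X₃) : Coh.IsCoh S.X₂ := by
  haveI := h₁.1
  haveI := h₃.1
  haveI := hS.mono_f
  haveI := QCoh.Closure.isQCoh_of_extension hS
  refine CohBasics.Closure.isCoh_of_finite_sections fun W hW => ?_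
  have f₁ := CohBasics.Closure.finite_sections h₁ hW
  have f₃ := CohBasics.Closure.finite_sections h₃ hW
  let f := CohBasics.Affine.secₗ S.f W
  let g := CohBasics.Affine.secₗ S.g W
  have hg : Function.Surjective g := QCoh.Closure.sections_surjective hS hW
  have hker : LinearMap.ker g = LinearMap.range f := le_antisymm
    (fun x hx => QCoh.Closure.sections_exact hS.exact W x hx)
    (by rintro _ ⟨y, rfl⟩; exact QCoh.Closure.sections_comp W y)
  refine ⟨Submodule.fg_of_fg_map_of_fg_inf_ker g ?_ ?_⟩
  · rw [Submodule.map_top, LinearMap.range_eq_top.2 hg]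
    exact f₃.1
  · rw [top_inf_eq, hker, LinearMap.range_eq_map]
    exact f₁.1.map _

/-- Coherent modules are locally quotients of finite free modules. -/
theorem exists_epi_free {X : Scheme.{u}} [IsLocallyNoetherian X] {M : X.Modules} (hM : Coh.IsCoh M)
    (x : X) : ∃ (V : X.Opens) (n : ℕ) (q : FlatMod.freeMod (V : Scheme.{u}) n ⟶ M.restrict V.ι),
      x ∈ V ∧ Epi q := by
  obtain ⟨V, hV, hxV, -⟩ := exists_isAffineOpen_mem_and_subset (X := X) (x := x) (U := ⊤) trivial
  have hMV := RefHull.LocFree.isCoh_restrict hM V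
  haveI := hMV.1
  haveI : IsAffine (V : Scheme.{u}) := hV
  have hfin := CohBasics.Closure.finite_sections hMV (isAffineOpen_top (V : Scheme.{u}))
  obtain ⟨n, t, ht⟩ := @Module.Finite.exists_fin Γ((V : Scheme.{u}), ⊤) Γ(M.restrict V.ι, ⊤) _ _ _ hfin
  refine ⟨V, n, Modules.Free.freeHom t, hxV,
    (Modules.Stalk.epi_iff_stalk_surjective _).2 fun y => ?_⟩
  suffices hr : LinearMap.range (Modules.StalkModule.stalkMapₗ (Modules.Free.freeHom t) y) = ⊤ from
    LinearMap.range_eq_top.1 hr
  rw [eq_top_iff, ← CohBasics.Affine.germ_span_eq_top (isAffineOpen_top (V : Scheme.{u})) _ ht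
    (x := y) trivial, Submodule.span_le]
  rintro _ ⟨_, ⟨i, rfl⟩, rfl⟩
  exact ⟨_, Modules.Free.freeHom_stalk_germ t y i⟩

/-- A locally free module mapping onto the top cohomology, locally. -/
theorem exists_top_map {X : Scheme.{u}} [IsLocallyNoetherian X] {K : DCoh.D X} (b : ℤ)
    (hb : K.IsLE b) (hH : Coh.IsCoh (DCoh.HD K b)) (x : X) :
    ∃ (U : Scheme.{u}) (j : U ⟶ X) (_ : IsOpenImmersion j) (y : U)
      (E : CochainComplex U.Modules ℤ) (α : DerivedCategory.Q.obj E ⟶ (RD j).obj K),
      j y = x ∧ DCoh.IsStrictlyPerfect E ∧ (∀ i, i ≠ b → IsZero (E.X i)) ∧ Good b α := by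
  obtain ⟨F, hF, ⟨eF⟩⟩ := K.exists_iso_Q_obj_of_isLE b
  let eH : F.homology b ≅ DCoh.HD K b :=
    ((DerivedCategory.homologyFunctorFactors X.Modules b).app F).symm ≪≫
      (DerivedCategory.homologyFunctor X.Modules b).mapIso eF.symm
  have hz : ∀ i, b < i → IsZero (F.X i) := fun i hi => F.isZero_of_isStrictlyLE b i hi
  haveI : IsIso (F.iCycles b) :=
    F.isIso_iCycles b (b + 1) (by simp) ((hz (b + 1) (by omega)).eq_of_tgt _ _)
  let p : F.X b ⟶ DCoh.HD K b := inv (F.iCycles b) ≫ F.homologyπ b ≫ eH.hom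
  haveI : Epi p := epi_comp' inferInstance (epi_comp' inferInstance inferInstance)
  have hp0 : F.d (b - 1) b ≫ p = 0 := by
    simp only [p]
    rw [← F.toCycles_i (b - 1) b, Category.assoc, IsIso.hom_inv_id_assoc,
      HomologicalComplex.toCycles_comp_homologyπ_assoc, zero_comp]
  have hSp : (ShortComplex.mk (F.d (b - 1) b) p hp0).Exact := by
    refine ShortComplex.exact_of_iso (S₁ := ShortComplex.mk (F.toCycles (b - 1) b) (F.homologyπ b)
        (F.toCycles_comp_homologyπ (b - 1) b))
      (ShortComplex.isoMk (Iso.refl _) (asIso (F.iCycles b)) eH ?_ ?_)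
      ((ShortComplex.mk (F.toCycles (b - 1) b) (F.homologyπ b)
        (F.toCycles_comp_homologyπ (b - 1) b)).exact_of_g_is_cokernel
          (F.homologyIsCokernel (b - 1) b (by simp)))
    · simp
    · simp [p]
  obtain ⟨V, n, q, hxV, hq⟩ := exists_epi_free hH x
  let R := Scheme.Modules.restrictFunctor V.ι
  haveI : PreservesColimitsOfSize.{0, 0} R :=
    (Scheme.Modules.restrictAdjunction V.ι).leftAdjoint_preservesColimits
  obtain ⟨W, hyW, hW⟩ := Modules.Free.exists_lift (R.map p) q ⟨x, hxV⟩
  let R' := Scheme.Modules.restrictFunctor W.ι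
  haveI : PreservesColimitsOfSize.{0, 0} R' :=
    (Scheme.Modules.restrictAdjunction W.ι).leftAdjoint_preservesColimits
  obtain ⟨ψ, hψ⟩ := hW W.ι (by simp)
  let L := R'.obj (FlatMod.freeMod (V : Scheme.{u}) n)
  let E := (HomologicalComplex.single (W : Scheme.{u}).Modules (ComplexShape.up ℤ) b).obj L
  let G := (rC W.ι).obj ((rC V.ι).obj F)
  let φ : E ⟶ G := HomologicalComplex.mkHomFromSingle ψ (fun i hi =>
    (R'.map_isZero (R.map_isZero (hz i (by simp at hi; omega)))).eq_of_tgt _ _)
  have hL : FlatMod.IsFinLocFree L := TensorMod.LocFree.isFinLocFree_restrict _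
    (TensorMod.LocFree.of_rank (TensorMod.LocFree.isFinLocFree_freeMod _ n))
  refine ⟨W, W.ι ≫ V.ι, inferInstance, ⟨⟨x, hxV⟩, hyW⟩, E,
    DerivedCategory.Q.map φ ≫ (RDQ W.ι _).inv ≫ (RD W.ι).map ((RDQ V.ι F).inv ≫ (RD V.ι).map eF.inv) ≫
      (Triangle.RDComp W.ι V.ι K).inv, rfl, ⟨⟨b, b, fun i hi => ?_⟩, fun i => ?_⟩, fun i hi => ?_, ?_⟩
  · exact HomologicalComplex.isZero_single_obj_X _ _ _ _ (by omega)
  · by_cases hi : i = b
    · subst hi
      exact TensorMod.LocFree.of_iso (HomologicalComplex.singleObjXSelf _ _ _).symm hL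
    · exact Stupid.isFinLocFree_isZero (HomologicalComplex.isZero_single_obj_X _ _ _ _ hi)
  · exact HomologicalComplex.isZero_single_obj_X _ _ _ _ hi
  have hG : ∀ i, b < i → IsZero (G.X i) := fun i hi => R'.map_isZero (R.map_isZero (hz i hi))
  let π : G.X b ⟶ R'.obj (R.obj (DCoh.HD K b)) := R'.map (R.map p)
  have hSG : (ShortComplex.mk (G.d (b - 1) b) π (by
      change R'.map (R.map (F.d (b - 1) b)) ≫ R'.map (R.map p) = 0
      rw [← Functor.map_comp, ← Functor.map_comp, hp0, Functor.map_zero, Functor.map_zero])).Exact :=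
    (hSp.map R).map R'
  haveI : Epi π := inferInstanceAs (Epi (R'.map (R.map p)))
  have hgood : Good b (DerivedCategory.Q.map φ) := by
    refine ⟨fun i hi => (NatIso.isIso_map_iff (DerivedCategory.homologyFunctorFactors _ i) φ).2
      ⟨⟨0, (HomologicalComplex.ExactAt.of_isZero (HomologicalComplex.isZero_single_obj_X _ _ _ _
        (by omega))).isZero_homology.eq_of_src _ _,
        (HomologicalComplex.ExactAt.of_isZero (hG i hi)).isZero_homology.eq_of_src _ _⟩⟩, ?_⟩
    refine ((MorphismProperty.epimorphisms _).arrow_mk_iso_iff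
      (((Functor.mapArrowFunctor _ _).mapIso (DerivedCategory.homologyFunctorFactors _ b)).app
        (Arrow.mk φ))).2 ?_
    change Epi (HomologicalComplex.homologyMap φ b)
    haveI : IsIso (G.homologyι b) :=
      G.isIso_homologyι b (b + 1) (by simp) ((hG (b + 1) (by omega)).eq_of_tgt _ _)
    haveI : IsIso (E.homologyι b) :=
      E.isIso_homologyι b (b + 1) (by simp)
        ((HomologicalComplex.isZero_single_obj_X _ _ _ _ (by omega)).eq_of_tgt _ _)
    haveI : Epi (φ.f b ≫ π) := by
      have h1 : φ.f b = (HomologicalComplex.singleObjXSelf (ComplexShape.up ℤ) b L).hom ≫ ψ := by simp [φ]; rfl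
      have : φ.f b ≫ π = (HomologicalComplex.singleObjXSelf (ComplexShape.up ℤ) b L).hom ≫ R'.map q :=
        (congrArg (· ≫ π) h1).trans ((Category.assoc _ _ _).trans (congrArg _ hψ))
      rw [this]
      exact epi_comp' inferInstance inferInstance
    obtain ⟨d, hd⟩ := CokernelCofork.IsColimit.desc' hSG.gIsCokernel (G.pOpcycles b) (G.d_pOpcycles _ _)
    change π ≫ d = G.pOpcycles b at hd
    haveI : Epi (π ≫ d) := by rw [hd]; infer_instance
    haveI : Epi d := epi_of_epi π d
    haveI : Epi (E.pOpcycles b ≫ HomologicalComplex.opcyclesMap φ b) := by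
      rw [HomologicalComplex.p_opcyclesMap, ← hd, ← Category.assoc]
      exact epi_comp _ _
    haveI : Epi (HomologicalComplex.opcyclesMap φ b) := epi_of_epi (E.pOpcycles b) _
    have hn : HomologicalComplex.homologyMap φ b =
        E.homologyι b ≫ HomologicalComplex.opcyclesMap φ b ≫ inv (G.homologyι b) := by
      rw [← HomologicalComplex.homologyι_naturality_assoc, IsIso.hom_inv_id, Category.comp_id]
    rw [hn]
    exact epi_comp' inferInstance (epi_comp' inferInstance inferInstance)
  exact hgood.comp (Good.of_isIso b _)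

/-- Coherent cohomology in degrees `≥ m` and bounded above gives `m`-pseudo-coherence. -/
theorem pcAt_of_coh (m : ℤ) : ∀ (k : ℕ) {X : Scheme.{u}} [IsLocallyNoetherian X] (K : DCoh.D X)
    (b : ℤ), b + 1 ≤ m + k → K.IsLE b → (∀ i, m ≤ i → i ≤ b → Coh.IsCoh (DCoh.HD K i)) →
    ∀ x : X, PCAt m K x := by
  intro k
  induction k with
  | zero =>
    intro X _ K b hk hb _ x
    exact pcAt_of_vanish (fun i hi => DerivedCategory.isZero_of_isLE K b i (by omega)) x
  | succ k ih =>
    intro X _ K b hk hb hH x
    by_cases hbm : b < m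
    · exact pcAt_of_vanish (fun i hi => DerivedCategory.isZero_of_isLE K b i (by omega)) x
    obtain ⟨U, j, _, y, E, α, hy, hE, hEb, hα⟩ := exists_top_map b hb (hH b (by omega) le_rfl) x
    haveI := isLocallyNoetherian_of_isOpenImmersion j
    obtain ⟨Z, g, δ, hd⟩ := distinguished_cocone_triangle α
    let H := DerivedCategory.homologyFunctor U.Modules
    have hlt : ∀ i, i ≠ b → IsZero ((H i).obj (DerivedCategory.Q.obj E)) := fun i hi =>
      ((HomologicalComplex.ExactAt.of_isZero (hEb i hi)).isZero_homology).of_iso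
        ((DerivedCategory.homologyFunctorFactors U.Modules i).app E)
    have hZb : Z.IsLE (b - 1) := (DerivedCategory.isLE_iff Z (b - 1)).2 fun i hi =>
      (good_iff b _ hd).1 hα i (by omega)
    have hK : ∀ i, m ≤ i → i ≤ b → Coh.IsCoh ((H i).obj ((RD j).obj K)) := fun i h1 h2 => by
      refine CohBasics.Closure.isCoh_of_iso (Coherent.homologyIso j K i).symm ?_
      have hM := hH i h1 h2
      haveI := hM.1
      haveI : Coh.IsQCoh ((DCoh.HD K i).restrict j) := inferInstance
      refine CohBasics.Closure.isCoh_of_finite_sections fun V hV => ?_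
      exact (TensorMod.TensorQCoh.finite_restrict_iff j _ V).2
        (CohBasics.Closure.finite_sections hM (hV.image_of_isOpenImmersion j))
    have hHZ : ∀ i, m ≤ i → i ≤ b - 1 → Coh.IsCoh ((H i).obj Z) := fun i h1 h2 => by
      have hKi := hK i h1 (by omega)
      by_cases hib : i + 1 = b
      · subst hib
        have hEc : Coh.IsCoh ((H (i + 1)).obj (DerivedCategory.Q.obj E)) :=
          CohBasics.Closure.isCoh_of_iso ((DerivedCategory.homologyFunctorFactors U.Modules _).app E).symm
            (Coherent.isCoh_homology _ (Coherent.isCoh_of_isFinLocFree (hE.2 _)).1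
              (Coherent.isCoh_of_isFinLocFree (hE.2 _)) (Coherent.isCoh_of_isFinLocFree (hE.2 _)).1)
        let T := Triangle.mk α g δ
        let δ' := DerivedCategory.HomologySequence.δ T i (i + 1) rfl
        let f : (H (i + 1)).obj (DerivedCategory.Q.obj E) ⟶ (H (i + 1)).obj ((RD j).obj K) :=
          (H (i + 1)).map α
        have h0 : δ' ≫ f = 0 := DerivedCategory.HomologySequence.δ_comp T hd i (i + 1) rfl
        let S := ShortComplex.mk ((H i).map g) (kernel.lift f δ' h0) (by
          rw [← cancel_mono (kernel.ι f), Category.assoc, kernel.lift_ι, zero_comp]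
          exact DerivedCategory.HomologySequence.comp_δ T hd i (i + 1) rfl)
        haveI : Mono ((H i).map g) :=
          (DerivedCategory.HomologySequence.mono_homologyMap_mor₂_iff T hd i).2
            ((hlt i (by omega)).eq_of_src _ _)
        haveI : Epi (kernel.lift f δ' h0) := (ShortComplex.exact_iff_epi_kernel_lift _).1
          (DerivedCategory.HomologySequence.exact₁ T hd i (i + 1) rfl)
        have hex : S.Exact := by
          let φ : S ⟶ ShortComplex.mk ((H i).map g) δ'
              (DerivedCategory.HomologySequence.comp_δ T hd i (i + 1) rfl) :=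
            { τ₁ := 𝟙 _, τ₂ := 𝟙 _, τ₃ := kernel.ι f, comm₁₂ := (Category.id_comp _).trans (Category.comp_id _).symm,
              comm₂₃ := (Category.id_comp _).trans (kernel.lift_ι f δ' h0).symm }
          haveI : Epi φ.τ₁ := inferInstanceAs (Epi (𝟙 ((H i).obj ((RD j).obj K))))
          haveI : IsIso φ.τ₂ := inferInstanceAs (IsIso (𝟙 ((H i).obj Z)))
          haveI : Mono φ.τ₃ := inferInstanceAs (Mono (kernel.ι f))
          exact (ShortComplex.exact_iff_of_epi_of_isIso_of_mono φ).2
            (DerivedCategory.HomologySequence.exact₃ T hd i (i + 1) rfl)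
        haveI : Epi S.g := inferInstanceAs (Epi (kernel.lift f δ' h0))
        exact isCoh_of_extension (ShortComplex.ShortExact.mk' hex inferInstance inferInstance)
          hKi (CohBasics.Closure.isCoh_kernel f hEc (hK (i + 1) (by omega) le_rfl).1)
      · haveI : Mono ((H i).map g) :=
          (DerivedCategory.HomologySequence.mono_homologyMap_mor₂_iff (Triangle.mk α g δ) hd i).2
            ((hlt i (by omega)).eq_of_src _ _)
        haveI : Epi ((H i).map g) :=
          (DerivedCategory.HomologySequence.epi_homologyMap_mor₂_iff (Triangle.mk α g δ) hd i (i + 1) rfl).2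
            ((hlt (i + 1) hib).eq_of_tgt _ _)
        haveI : IsIso ((H i).map g) := isIso_of_mono_of_epi _
        exact CohBasics.Closure.isCoh_of_iso (asIso ((H i).map g)) hKi
    have hE' : PCAt m (DerivedCategory.Q.obj E) y :=
      ⟨U, 𝟙 U, inferInstance, y, (rC (𝟙 U)).obj E, (RDQ (𝟙 U) E).inv, rfl,
        isStrictlyPerfect_map _ hE, Good.of_isIso _ _⟩
    exact PCAt.of_restrict (j := j) hy
      (pcAt₂ hd hE' (ih Z (b - 1) (by omega) hZb hHZ y))

/-- `m`-pseudo-coherence on a Noetherian scheme. -/
theorem isPseudoCoherentD_iff_coh {X : Scheme.{u}} [IsNoetherian X] (K : DCoh.D X)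
    (hQ : DCoh.IsQCohD K) (m : ℤ) :
    DCoh.IsPseudoCoherentD m K ↔
      (∀ i : ℤ, m ≤ i → Coh.IsCoh (DCoh.HD K i)) ∧ ∃ b : ℤ, K.IsLE b := by
  constructor
  · intro h
    have hpc := (iff_forall m K).1 h
    refine ⟨fun i hi => ?_, ?_⟩
    · refine Coherent.isCoh_of_cover fun x => ?_
      obtain ⟨U, j, _, y, E, α, hy, hE, hα⟩ := hpc x
      haveI := isLocallyNoetherian_of_isOpenImmersion j
      have hcE : Coh.IsCoh ((DerivedCategory.homologyFunctor U.Modules i).obj (DerivedCategory.Q.obj E)) :=
        CohBasics.Closure.isCoh_of_iso ((DerivedCategory.homologyFunctorFactors U.Modules i).app E).symm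
          (Coherent.isCoh_homology _ (Coherent.isCoh_of_isFinLocFree (hE.2 _)).1
            (Coherent.isCoh_of_isFinLocFree (hE.2 _)) (Coherent.isCoh_of_isFinLocFree (hE.2 _)).1)
      haveI := hα.epi hi
      haveI : (DCoh.HD K i).IsQuasicoherent := hQ i
      haveI : ((DCoh.HD K i).restrict j).IsQuasicoherent := inferInstance
      haveI : Epi ((DerivedCategory.homologyFunctor U.Modules i).map α ≫ (Coherent.homologyIso j K i).hom) :=
        epi_comp' ‹_› inferInstance
      exact ⟨U, j, inferInstance, y, hy, CohBasics.Closure.isCoh_of_epi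
        ((DerivedCategory.homologyFunctor U.Modules i).map α ≫ (Coherent.homologyIso j K i).hom) hcE⟩
    · have h' : ∀ x : X, ∃ (V : X.Opens) (b : ℤ), x ∈ V ∧
          ∀ i, b < i → IsZero ((DCoh.HD K i).restrict V.ι) := fun x => by
        obtain ⟨U, j, _, y, E, α, hy, ⟨⟨a, b, hv⟩, -⟩, hα⟩ := hpc x
        refine ⟨j.opensRange, max b m, ⟨y, hy⟩, fun i hi => ?_⟩
        have := hα.1 i (lt_of_le_of_lt (le_max_right _ _) hi)
        have hz : IsZero (DCoh.HD ((RD j).obj K) i) :=
          IsZero.of_iso (((HomologicalComplex.ExactAt.of_isZero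
            (hv i (Or.inr (lt_of_le_of_lt (le_max_left _ _) hi)))).isZero_homology).of_iso
            ((DerivedCategory.homologyFunctorFactors U.Modules i).app E))
            (asIso ((DerivedCategory.homologyFunctor U.Modules i).map α)).symm
        exact ((Scheme.Modules.restrictFunctor j.isoOpensRange.inv).map_isZero
          (hz.of_iso (Coherent.homologyIso j K i).symm)).of_iso
          (((Scheme.Modules.restrictFunctorCongr (Scheme.Hom.isoOpensRange_inv_comp j)).app _).symm ≪≫
            (Scheme.Modules.restrictFunctorComp j.isoOpensRange.inv j).app _)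
      choose V b hx hz using h'
      obtain ⟨t, ht⟩ := CompactSpace.isCompact_univ.elim_finite_subcover (fun x => (V x : Set X))
        (fun x => (V x).2) (fun x _ => Set.mem_iUnion.2 ⟨x, hx x⟩)
      obtain ⟨B, hB⟩ := (t.finite_toSet.image b).bddAbove
      refine ⟨B, (DerivedCategory.isLE_iff K B).2 fun i hi => ?_⟩
      refine Modules.Local.isZero_of_restrict (fun x : t => V x.1) ?_ fun x => hz x.1 i ?_
      · refine eq_top_iff.2 fun z _ => ?_
        obtain ⟨x, hxt, hzx⟩ := Set.mem_iUnion₂.1 (ht (Set.mem_univ z))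
        exact TopologicalSpace.Opens.mem_iSup.2 ⟨⟨x, hxt⟩, hzx⟩
      · have := hB ⟨x.1, x.2, rfl⟩
        omega
  · rintro ⟨hc, b, hb⟩
    exact (iff_forall m K).2 fun x =>
      pcAt_of_coh m (b + 1 - m).toNat K b (by omega) hb (fun i hi _ => hc i hi) x

end Groth.Agent.Lib.Perfect.PCCoh
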