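import Groth.Agent.Lib.Perfect.Triangle
import Groth.Agent.Lib.DerivedOX.LeftExists
import Groth.Agent.Lib.DerivedOX.PullbackStalk
import Groth.Agent.Lib.TensorMod.LocFree
import Mathlib.Algebra.Category.ModuleCat.EpiMono

/-!
# `Lf^*` is computed by cofibrant complexes and preserves perfect objects
-/

set_option autoImplicit false
set_option linter.style.haveILetI false

universe u

open CategoryTheory Limits AlgebraicGeometry HomologicalComplex

namespace Groth.Agent.Lib.Perfect.Pullback

open Groth.Agent.Lib.DerivedOX Groth.Agent.Lib.Modules StalkModule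
open Groth.Agent.Lib.Perfect.Basic Groth.Agent.Lib.Perfect.Triangle

attribute [local instance] HasDerivedCategory.standard

variable {X Y V : Scheme.{u}}

/-- Termwise pullback of complexes. -/
noncomputable abbrev pC (f : X ⟶ Y) :
    CochainComplex Y.Modules ℤ ⥤ CochainComplex X.Modules ℤ :=
  (Scheme.Modules.pullback f).mapHomologicalComplex (ComplexShape.up ℤ)

/-- Composition of pullbacks of complexes. -/
noncomputable def pCComp (h : V ⟶ X) (f : X ⟶ Y) : pC f ⋙ pC h ≅ pC (h ≫ f) :=
  NatIso.ofComponents (fun F => HomologicalComplex.Hom.isoOfComponents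
      (fun i => (Scheme.Modules.pullbackComp h f).app (F.X i))
      (fun i k _ => ((Scheme.Modules.pullbackComp h f).hom.naturality (F.d i k)).symm))
    fun φ => HomologicalComplex.hom_ext _ _ fun i =>
      (Scheme.Modules.pullbackComp h f).hom.naturality (φ.f i)

/-- Restriction of complexes is pullback. -/
noncomputable def rCIso (j : V ⟶ X) [IsOpenImmersion j] : rC j ≅ pC j :=
  NatIso.ofComponents (fun F => HomologicalComplex.Hom.isoOfComponents
      (fun i => (Scheme.Modules.restrictFunctorIsoPullback j).app (F.X i))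
      (fun i k _ => ((Scheme.Modules.restrictFunctorIsoPullback j).hom.naturality (F.d i k)).symm))
    fun φ => HomologicalComplex.hom_ext _ _ fun i =>
      (Scheme.Modules.restrictFunctorIsoPullback j).hom.naturality (φ.f i)

lemma isStrictlyPerfect_pC (f : X ⟶ Y) {E : CochainComplex Y.Modules ℤ}
    (hE : DCoh.IsStrictlyPerfect E) : DCoh.IsStrictlyPerfect ((pC f).obj E) := by
  obtain ⟨⟨a, b, h⟩, hlf⟩ := hE
  exact ⟨⟨a, b, fun i hi => (Scheme.Modules.pullback f).map_isZero (h i hi)⟩,
    fun i => TensorMod.LocFree.isFinLocFree_pullback f (hlf i)⟩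

/-- A complex with K-projective stalks. -/
def StalkKProj (P : CochainComplex X.Modules ℤ) : Prop :=
  ∀ x : X, CochainComplex.IsKProjective
    (((stalkModFunctor X x).mapHomologicalComplex (.up ℤ)).obj P)

/-- Pullbacks of cofibrant complexes have K-projective stalks. -/
theorem stalkKProj_pC_of_cof (f : X ⟶ Y) {P : CochainComplex Y.Modules ℤ}
    (hP : LeftExists.IsCof P) : StalkKProj ((pC f).obj P) := fun x => by
  let F : Y.Modules ⥤ ModuleCat.{u} (X.presheaf.stalk x) :=
    Scheme.Modules.pullback f ⋙ stalkModFunctor X x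
  haveI : PreservesColimitsOfSize.{u, u} (Scheme.Modules.pullback f) :=
    (Scheme.Modules.pullbackPushforwardAdjunction f).leftAdjoint_preservesColimits
  haveI : F.Additive := inferInstanceAs (Scheme.Modules.pullback f ⋙ stalkModFunctor X x).Additive
  haveI : PreservesColimitsOfSize.{u, u} F :=
    inferInstanceAs (PreservesColimitsOfSize.{u, u} (Scheme.Modules.pullback f ⋙ stalkModFunctor X x))
  have hgen : ∀ U, Projective (F.obj (KFlat.G Y U)) := fun U => by
    haveI := LeftExists.projective_stalk_gen (f.base x) U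
    exact Projective.of_iso ((PullbackStalk.pullbackStalkIso f x).app _)
      ((ModuleCat.extendRestrictScalarsAdj.{u} (f.stalkMap x).hom).map_projective _ inferInstance)
  exact CofProj.isKProjective_map_of_cof F (KFlat.G Y) hgen hP

/-- Strictly perfect complexes have K-projective stalks. -/
theorem stalkKProj_of_isStrictlyPerfect {E : CochainComplex X.Modules ℤ}
    (hE : DCoh.IsStrictlyPerfect E) : StalkKProj E := fun x => by
  obtain ⟨⟨a, b, hv⟩, hlf⟩ := hE
  haveI : CochainComplex.IsStrictlyLE
      (((stalkModFunctor X x).mapHomologicalComplex (.up ℤ)).obj E) b :=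
    (CochainComplex.isStrictlyLE_iff _ b).2 fun i hi =>
      (stalkModFunctor X x).map_isZero (hv i (Or.inr hi))
  haveI : ∀ i, Projective ((((stalkModFunctor X x).mapHomologicalComplex (.up ℤ)).obj E).X i) :=
    fun i => by
    obtain ⟨U, n, hx, ⟨e⟩⟩ := hlf i x
    let y : (U : Scheme.{u}) := ⟨x, hx⟩
    haveI : Module.Free ((U : Scheme.{u}).presheaf.stalk y)
        ((FlatMod.freeMod (↑U) n).presheaf.stalk y) :=
      Module.Free.of_basis (FreeStalk.stalkBasis _ n y)
    have h1 : Projective ((stalkModFunctor (↑U) y).obj ((E.X i).restrict U.ι)) :=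
      Projective.of_iso ((stalkModFunctor (↑U) y).mapIso e.symm)
        ((IsProjective.iff_projective (R := (U : Scheme.{u}).presheaf.stalk y)
          ((FlatMod.freeMod (↑U) n).presheaf.stalk y)).1 inferInstance)
    have h2 : Projective ((ModuleCat.extendScalars.{u, u, u} (U.ι.stalkMap y).hom).obj
        ((stalkModFunctor X (U.ι y)).obj (E.X i))) :=
      Projective.of_iso ((stalkModFunctor (↑U) y).mapIso
        ((Scheme.Modules.restrictFunctorIsoPullback U.ι).app (E.X i)) ≪≫
          ((PullbackStalk.pullbackStalkIso U.ι y).app (E.X i)).symm) h1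
    let g : X.presheaf.stalk (U.ι y) ≃+* (U : Scheme.{u}).presheaf.stalk y :=
      (asIso (U.ι.stalkMap y)).commRingCatIsoToRingEquiv
    haveI : (ModuleCat.extendScalars.{u, u, u} (U.ι.stalkMap y).hom).IsEquivalence := by
      haveI := ModuleCat.restrictScalars_isEquivalence_of_ringEquiv g
      haveI : (ModuleCat.restrictScalars.{u} (U.ι.stalkMap y).hom).IsEquivalence :=
        inferInstanceAs (ModuleCat.restrictScalars.{u} g.toRingHom).IsEquivalence
      exact (ModuleCat.extendRestrictScalarsAdj.{u} (U.ι.stalkMap y).hom).isEquivalence_left_of_isEquivalence_right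
    exact Functor.projective_of_map_projective
      (ModuleCat.extendScalars.{u, u, u} (U.ι.stalkMap y).hom) h2
  exact CochainComplex.isKProjective_of_projective _ b

/-- Pullback preserves quasi-isomorphisms between complexes with K-projective stalks. -/
theorem quasiIso_pC (f : X ⟶ Y) {P Q : CochainComplex Y.Modules ℤ} (hP : StalkKProj P)
    (hQ : StalkKProj Q) (g : P ⟶ Q) [QuasiIso g] : QuasiIso ((pC f).map g) := by
  rw [Qis.quasiIso_iff_forall_stalk]
  intro x
  haveI := hP (f.base x)
  haveI := hQ (f.base x)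
  haveI := (Qis.quasiIso_iff_forall_stalk g).1 inferInstance (f.base x)
  let T := ModuleCat.extendScalars.{u, u, u} (f.stalkMap x).hom
  haveI : T.Additive := (ModuleCat.extendRestrictScalarsAdj.{u} (f.stalkMap x).hom).left_adjoint_additive
  have hT := CofProj.quasiIso_map_of_isKProjective T
    (((stalkModFunctor Y (f.base x)).mapHomologicalComplex (.up ℤ)).map g)
  let ψ : (Scheme.Modules.pullback f ⋙ stalkModFunctor X x).mapHomologicalComplex
      (ComplexShape.up ℤ) ≅
      (stalkModFunctor Y (f.base x) ⋙ T).mapHomologicalComplex (ComplexShape.up ℤ) :=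
    NatIso.mapHomologicalComplex (PullbackStalk.pullbackStalkIso f x).symm (ComplexShape.up ℤ)
  have h2 : QuasiIso (((stalkModFunctor Y (f.base x) ⋙ T).mapHomologicalComplex (.up ℤ)).map g) := hT
  haveI : QuasiIso (((Scheme.Modules.pullback f ⋙ stalkModFunctor X x).mapHomologicalComplex
      (.up ℤ)).map g) :=
    (quasiIso_iff_of_arrow_mk_iso _ _ (Arrow.isoMk (ψ.app P) (ψ.app Q) (ψ.hom.naturality g).symm)).2 h2
  exact this

/-- `Lf^*` is computed by cofibrant resolutions. -/
theorem exists_Lpull_iso (f : X ⟶ Y) [DCoh.HasLpull f] (K : DCoh.D Y) :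
    ∃ (P : CochainComplex Y.Modules ℤ), LeftExists.IsCof P ∧
      Nonempty (DerivedCategory.Q.obj P ≅ K) ∧
      Nonempty ((DCoh.Lpull f).obj K ≅ DerivedCategory.Q.obj ((pC f).obj P)) := by
  let F := Scheme.Modules.pullback f
  let E := HomotopyCategory.quotient Y.Modules (ComplexShape.up ℤ)
  let G := DCoh.pullKh f
  haveI : (E ⋙ DerivedCategory.Qh).IsLocalization (quasiIso Y.Modules (.up ℤ)) :=
    Functor.IsLocalization.of_iso _ (DerivedCategory.quotientCompQhIso Y.Modules).symm
  let hA := LeftExists.isAdapted_onCx F fun hP hQ g _ => LeftExists.quasiIso_pullback f hP hQ g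
  let LF := LeftDerived.functor hA (E ⋙ DerivedCategory.Qh)
  let α₀ := LeftDerived.counit hA (E ⋙ DerivedCategory.Qh)
  let α : DerivedCategory.Qh ⋙ LF ⟶ G :=
    CategoryTheory.Quotient.natTransLift _ ((Functor.associator _ _ _).inv ≫ α₀)
  haveI : LF.IsLeftDerivedFunctor (L := E ⋙ DerivedCategory.Qh) (F := E ⋙ G)
      ((Functor.associator E DerivedCategory.Qh LF).hom ≫ Functor.whiskerLeft E α)
      (quasiIso Y.Modules (.up ℤ)) := by
    convert LeftDerived.isLeftDerivedFunctor hA (E ⋙ DerivedCategory.Qh) using 1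
    ext K
    simp [α, E]
    exact (CategoryTheory.Quotient.natTransLift_app _ _ _ _ K).trans (Category.id_comp _)
  haveI := LeftDerived.isLeftDerivedFunctor_of_precomp (F := G) (W := HomotopyCategory.quasiIso _ _)
    DerivedCategory.Qh E (homotopyEquivalences Y.Modules (.up ℤ)) (quasiIso Y.Modules (.up ℤ)) LF α
  let e : DCoh.Lpull f ≅ LF := Functor.leftDerivedNatIso _ _
    (G.totalLeftDerivedCounit DerivedCategory.Qh (HomotopyCategory.quasiIso Y.Modules (.up ℤ))) α
    (HomotopyCategory.quasiIso Y.Modules (.up ℤ)) (Iso.refl _)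
  let K₀ := DerivedCategory.Q.objPreimage K
  let eK := DerivedCategory.Q.objObjPreimageIso K
  refine ⟨(KFlat.res Y).obj K₀, LeftExists.isCof_res K₀,
    ⟨asIso (DerivedCategory.Q.map ((KFlat.aug Y).app K₀)) ≪≫ eK⟩, ⟨?_⟩⟩
  exact (DCoh.Lpull f).mapIso
      (eK.symm ≪≫ ((DerivedCategory.quotientCompQhIso Y.Modules).app K₀).symm) ≪≫
    e.app _ ≪≫ (Localization.fac (KFlat.res Y ⋙ LeftExists.onCx F) hA.inverts
      (E ⋙ DerivedCategory.Qh)).app K₀ ≪≫ (LeftExists.onCxIso F).app ((KFlat.res Y).obj K₀)

/-- `Lf^*` of a perfect object is perfect. -/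
theorem isPerfect_Lpull (f : X ⟶ Y) [DCoh.HasLpull f] {K : DCoh.D Y} (hK : DCoh.IsPerfect K) :
    DCoh.IsPerfect ((DCoh.Lpull f).obj K) := by
  obtain ⟨P, hP, ⟨eP⟩, ⟨eL⟩⟩ := exists_Lpull_iso f K
  refine isPerfect_of_iso eL.symm ((isPerfect_iff _).2 fun x => ?_)
  obtain ⟨V, j, _, v, E, hv, hE, ⟨i⟩⟩ :=
    (isPerfect_iff _).1 (isPerfect_of_iso eP.symm hK) (f.base x)
  let i' : DerivedCategory.Q.obj E ≅ DerivedCategory.Q.obj ((pC j).obj P) :=
    i.symm ≪≫ RDQ j P ≪≫ DerivedCategory.Q.mapIso ((rCIso j).app P)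
  obtain ⟨V', k, _, v', φ, hv', hφ⟩ := Lift.exists_map hE i'.hom v
  haveI : IsIso (DerivedCategory.Q.map φ) := by
    have : DerivedCategory.Q.map φ =
        (RDQ k E).inv ≫ (RD k).map i'.hom ≫ (RDQ k ((pC j).obj P)).hom := by
      rw [hφ]; simp
    rw [this]; infer_instance
  haveI : QuasiIso φ := (DerivedCategory.isIso_Q_map_iff_quasiIso _ φ).1 inferInstance
  let J := k ≫ j
  let E' := (rC k).obj E
  let ψ : E' ⟶ (pC J).obj P :=
    φ ≫ (rCIso k).hom.app ((pC j).obj P) ≫ (pCComp k j).hom.app P
  haveI : QuasiIso ψ := inferInstance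
  obtain ⟨w, hw1, hw2⟩ := Scheme.Pullback.exists_preimage_pullback (f := f) (g := J) x v'
    (by simp [J, hv', hv])
  let l := pullback.fst f J
  let h := pullback.snd f J
  haveI : IsOpenImmersion l := inferInstance
  haveI : QuasiIso ((pC h).map ψ) := quasiIso_pC h
    (stalkKProj_of_isStrictlyPerfect (isStrictlyPerfect_map k hE)) (stalkKProj_pC_of_cof J hP) ψ
  refine ⟨_, l, inferInstance, w, (pC h).obj E', hw1,
    isStrictlyPerfect_pC h (isStrictlyPerfect_map k hE), ⟨?_⟩⟩
  exact RDQ l ((pC f).obj P) ≪≫ DerivedCategory.Q.mapIso ((rCIso l).app _ ≪≫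
      (pCComp l f).app P ≪≫ eqToIso (congrArg (fun g => (pC g).obj P) pullback.condition) ≪≫
      ((pCComp h J).app P).symm) ≪≫ (asIso (DerivedCategory.Q.map ((pC h).map ψ))).symm

end Groth.Agent.Lib.Perfect.Pullback
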