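import Groth.Agent.Lib.Perfect.Lift

/-!
# Perfect objects of `D(O_X)`: locality and two out of three
-/

set_option autoImplicit false
set_option linter.style.haveILetI false

universe u

open CategoryTheory Limits AlgebraicGeometry CategoryTheory.Pretriangulated

namespace Groth.Agent.Lib.Perfect.Triangle

open Groth.Agent.Lib.Perfect.Basic

attribute [local instance] HasDerivedCategory.standard

variable {X U V : Scheme.{u}}

/-- Composition of derived restrictions, on objects. -/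
noncomputable def RDComp (j' : V ⟶ U) (j : U ⟶ X) [IsOpenImmersion j'] [IsOpenImmersion j]
    (K : DCoh.D X) : (RD (j' ≫ j)).obj K ≅ (RD j').obj ((RD j).obj K) :=
  let e := DerivedCategory.Q.objObjPreimageIso K
  (RD (j' ≫ j)).mapIso e.symm ≪≫ RDQ _ _ ≪≫ DerivedCategory.Q.mapIso ((rCComp j' j).app _) ≪≫
    (RDQ j' _).symm ≪≫ (RD j').mapIso ((RDQ j _).symm ≪≫ (RD j).mapIso e)

/-- Derived restrictions along equal morphisms, on objects. -/
noncomputable def RDCongr {j j' : U ⟶ X} [IsOpenImmersion j] [IsOpenImmersion j'] (h : j = j')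
    (K : DCoh.D X) : (RD j).obj K ≅ (RD j').obj K :=
  let e := DerivedCategory.Q.objObjPreimageIso K
  (RD j).mapIso e.symm ≪≫ RDQ _ _ ≪≫ DerivedCategory.Q.mapIso ((rCCongr h).app _) ≪≫
    (RDQ j' _).symm ≪≫ (RD j').mapIso e

/-- `K` is perfect near `x`. -/
def PerfAt (K : DCoh.D X) (x : X) : Prop :=
  ∃ (U : Scheme.{u}) (j : U ⟶ X) (_ : IsOpenImmersion j) (y : U)
    (E : CochainComplex U.Modules ℤ),
    j y = x ∧ DCoh.IsStrictlyPerfect E ∧ Nonempty ((RD j).obj K ≅ DerivedCategory.Q.obj E)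

lemma PerfAt.of_iso {K L : DCoh.D X} (e : K ≅ L) {x : X} (h : PerfAt K x) : PerfAt L x := by
  obtain ⟨U, j, _, y, E, hy, hE, ⟨i⟩⟩ := h
  exact ⟨U, j, inferInstance, y, E, hy, hE, ⟨(RD j).mapIso e.symm ≪≫ i⟩⟩

lemma PerfAt.of_restrict {j : U ⟶ X} [IsOpenImmersion j] {K : DCoh.D X} {y : U} {x : X}
    (hy : j y = x) (h : PerfAt ((RD j).obj K) y) : PerfAt K x := by
  obtain ⟨V, k, _, z, E, hz, hE, ⟨i⟩⟩ := h
  exact ⟨V, k ≫ j, inferInstance, z, E, by simp [hz, hy], hE, ⟨RDComp k j K ≪≫ i⟩⟩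

lemma PerfAt.restrict (j : U ⟶ X) [IsOpenImmersion j] {K : DCoh.D X} (y : U)
    (h : PerfAt K (j y)) : PerfAt ((RD j).obj K) y := by
  obtain ⟨V, k, _, z, E, hz, hE, ⟨i⟩⟩ := h
  obtain ⟨w, hw1, hw2⟩ := Scheme.Pullback.exists_preimage_pullback y z hz.symm
  refine ⟨_, pullback.fst j k, inferInstance, w, (rC (pullback.snd j k)).obj E, hw1,
    isStrictlyPerfect_map _ hE, ⟨?_⟩⟩
  exact (RDComp _ j K).symm ≪≫ RDCongr pullback.condition K ≪≫ RDComp _ k K ≪≫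
    (RD (pullback.snd j k)).mapIso i ≪≫ RDQ _ _

theorem isPerfect_iff (K : DCoh.D X) : DCoh.IsPerfect K ↔ ∀ x : X, PerfAt K x := by
  constructor
  · intro h x
    obtain ⟨V, hx, hV⟩ := h x
    let e := DerivedCategory.Q.objObjPreimageIso K
    obtain ⟨E, hE, ⟨i⟩⟩ := hV _ ⟨e⟩
    exact ⟨V, V.ι, inferInstance, ⟨x, hx⟩, E, rfl, hE,
      ⟨(RD V.ι).mapIso e.symm ≪≫ RDQ _ _ ≪≫ i⟩⟩
  · intro h x
    obtain ⟨U, j, _, y, E, hy, hE, ⟨i⟩⟩ := h x
    refine ⟨j.opensRange, ⟨y, hy⟩, fun F ⟨e⟩ => ⟨(rC j.isoOpensRange.inv).obj E,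
      isStrictlyPerfect_map _ hE, ⟨?_⟩⟩⟩
    exact (RDQ j.opensRange.ι F).symm ≪≫ (RD j.opensRange.ι).mapIso e ≪≫
      RDCongr (Scheme.Hom.isoOpensRange_inv_comp j).symm K ≪≫ RDComp _ j K ≪≫
      (RD j.isoOpensRange.inv).mapIso i ≪≫ RDQ _ _

lemma isPerfect_of_iso {K L : DCoh.D X} (e : K ≅ L) (h : DCoh.IsPerfect K) : DCoh.IsPerfect L :=
  (isPerfect_iff L).2 fun x => ((isPerfect_iff K).1 h x).of_iso e

lemma isFinLocFree_biprod {M N : X.Modules} (hM : FlatMod.IsFinLocFree M)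
    (hN : FlatMod.IsFinLocFree N) : FlatMod.IsFinLocFree (M ⊞ N) :=
  TensorMod.LocFree.of_iso (biprod.isoCoprod M N).symm
    (TensorMod.LocFree.isFinLocFree_biprod hM hN)

lemma isStrictlyPerfect_mappingCone {E F : CochainComplex X.Modules ℤ}
    (hE : DCoh.IsStrictlyPerfect E) (hF : DCoh.IsStrictlyPerfect F) (φ : E ⟶ F) :
    DCoh.IsStrictlyPerfect (CochainComplex.mappingCone φ) := by
  obtain ⟨⟨a, b, h⟩, hlf⟩ := hE
  obtain ⟨⟨a', b', h'⟩, hlf'⟩ := hF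
  refine ⟨⟨min (a - 1) a', max b b', fun i hi => ?_⟩, fun i => ?_⟩
  · refine IsZero.of_iso ?_ (HomologicalComplex.homotopyCofiber.XIsoBiprod φ i (i + 1) rfl)
    simp only [min_def, max_def] at hi
    refine (biprod_isZero_iff _ _).2 ⟨h _ ?_, h' _ ?_⟩ <;> split_ifs at hi <;> omega
  · exact TensorMod.LocFree.of_iso
      (HomologicalComplex.homotopyCofiber.XIsoBiprod φ i (i + 1) rfl).symm
      (isFinLocFree_biprod (hlf _) (hlf' _))

variable {T : Triangle (DCoh.D X)} (hT : T ∈ distTriang (DCoh.D X))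
include hT

/-- The third vertex of a triangle with two perfect vertices is perfect near `x`. -/
theorem perfAt₃ {x : X} (h₁ : PerfAt T.obj₁ x) (h₂ : PerfAt T.obj₂ x) : PerfAt T.obj₃ x := by
  obtain ⟨U, j, _, y, E₁, rfl, hE₁, ⟨e₁⟩⟩ := h₁
  obtain ⟨U', j', _, y', E₂, rfl, hE₂, ⟨e₂⟩⟩ := h₂.restrict j y
  let T' := (RD j').mapTriangle.obj ((RD j).mapTriangle.obj T)
  have hT' : T' ∈ distTriang (DCoh.D U') :=
    (RD j').map_distinguished _ ((RD j).map_distinguished _ hT)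
  let e₁' : T'.obj₁ ≅ DerivedCategory.Q.obj ((rC j').obj E₁) := (RD j').mapIso e₁ ≪≫ RDQ j' E₁
  let e₂' : T'.obj₂ ≅ DerivedCategory.Q.obj E₂ := e₂
  obtain ⟨W, k, _, z, φ, hz, hφ⟩ :=
    Lift.exists_map (isStrictlyPerfect_map j' hE₁) (e₁'.inv ≫ T'.mor₁ ≫ e₂'.hom) y'
  refine PerfAt.of_restrict (j := j) (y := j' y') rfl
    (PerfAt.of_restrict (j := j') (y := y') rfl
      (PerfAt.of_restrict (j := k) (y := z) hz ?_))
  change PerfAt ((RD k).obj T'.obj₃) z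
  let T'' := (RD k).mapTriangle.obj T'
  let e := isoTriangleOfIso₁₂ T'' _ ((RD k).map_distinguished _ hT')
    (DerivedCategory.mappingCone_triangle_distinguished φ)
    ((RD k).mapIso e₁' ≪≫ RDQ k _) ((RD k).mapIso e₂' ≪≫ RDQ k _) (by
      change (RD k).map T'.mor₁ ≫ (RD k).map e₂'.hom ≫ (RDQ k _).hom =
        ((RD k).map e₁'.hom ≫ (RDQ k _).hom) ≫ DerivedCategory.Q.map φ
      have := (RD k).map e₁'.hom ≫= hφ
      rw [← Functor.map_comp, Iso.hom_inv_id_assoc, Functor.map_comp] at this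
      rw [← Category.assoc, this]
      simp only [Category.assoc, Iso.inv_hom_id, Category.comp_id])
  refine PerfAt.of_iso (Triangle.π₃.mapIso e).symm ?_
  exact ⟨W, 𝟙 W, inferInstance, z, _, rfl,
    isStrictlyPerfect_map (𝟙 W)
      (isStrictlyPerfect_mappingCone (isStrictlyPerfect_map k (isStrictlyPerfect_map j' hE₁))
        (isStrictlyPerfect_map k hE₂) φ), ⟨RDQ (𝟙 W) _⟩⟩

omit hT

lemma isStrictlyPerfect_shift {E : CochainComplex X.Modules ℤ} (hE : DCoh.IsStrictlyPerfect E)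
    (n : ℤ) : DCoh.IsStrictlyPerfect (E⟦n⟧) := by
  obtain ⟨⟨a, b, h⟩, hlf⟩ := hE
  exact ⟨⟨a - n, b - n, fun i hi => h (i + n) (by omega)⟩, fun i => hlf (i + n)⟩

lemma PerfAt.shift {K : DCoh.D X} {x : X} (h : PerfAt K x) (n : ℤ) : PerfAt (K⟦n⟧) x := by
  obtain ⟨U, j, _, y, E, hy, hE, ⟨i⟩⟩ := h
  exact ⟨U, j, inferInstance, y, E⟦n⟧, hy, isStrictlyPerfect_shift hE n,
    ⟨((RD j).commShiftIso n).app K ≪≫ (shiftFunctor (DCoh.D U) n).mapIso i ≪≫
      ((DerivedCategory.Q.commShiftIso n).app E).symm⟩⟩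

lemma isPerfect_shift {K : DCoh.D X} (h : DCoh.IsPerfect K) (n : ℤ) : DCoh.IsPerfect (K⟦n⟧) :=
  (isPerfect_iff _).2 fun x => ((isPerfect_iff K).1 h x).shift n

include hT

theorem isPerfect₃ (h₁ : DCoh.IsPerfect T.obj₁) (h₂ : DCoh.IsPerfect T.obj₂) :
    DCoh.IsPerfect T.obj₃ :=
  (isPerfect_iff _).2 fun x =>
    perfAt₃ hT ((isPerfect_iff _).1 h₁ x) ((isPerfect_iff _).1 h₂ x)

theorem isPerfect₂ (h₁ : DCoh.IsPerfect T.obj₁) (h₃ : DCoh.IsPerfect T.obj₃) :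
    DCoh.IsPerfect T.obj₂ :=
  isPerfect₃ (T := T.invRotate) (inv_rot_of_distTriang _ hT) (isPerfect_shift h₃ (-1)) h₁

theorem isPerfect₁ (h₂ : DCoh.IsPerfect T.obj₂) (h₃ : DCoh.IsPerfect T.obj₃) :
    DCoh.IsPerfect T.obj₁ :=
  isPerfect_of_iso ((shiftEquiv (DCoh.D X) (1 : ℤ)).unitIso.app T.obj₁).symm
    (isPerfect_shift (isPerfect₃ (T := T.rotate) (rot_of_distTriang _ hT) h₂ h₃) (-1))

end Groth.Agent.Lib.Perfect.Triangle
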