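import Groth.Agent.Lib.Perfect.Lift
import Groth.Agent.Lib.Perfect.Triangle
import Groth.Prelude.Def_DCoh3

/-!
# Lifting along maps which are isomorphisms in high degrees
-/

set_option autoImplicit false
set_option linter.style.haveILetI false

universe u

open CategoryTheory Limits AlgebraicGeometry CategoryTheory.Pretriangulated

namespace Groth.Agent.Lib.Perfect.Lift2

open Groth.Agent.Lib.Perfect.Basic Groth.Agent.Lib.Perfect.Lift

attribute [local instance] HasDerivedCategory.standard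

variable {X : Scheme.{u}}

lemma exactAt_map {U : Scheme.{u}} (j : U ⟶ X) [IsOpenImmersion j] {L : CochainComplex X.Modules ℤ}
    {i : ℤ} (hL : L.ExactAt i) : ((rC j).obj L).ExactAt i :=
  hL.map (Scheme.Modules.restrictFunctor j)

/-- Killing the top component of a map into an acyclic complex, when the source term is free. -/
lemma exists_homotopy_step {E L : CochainComplex X.Modules ℤ} (f : E ⟶ L)
    (b : ℤ) (hL : L.ExactAt b) (hf : ∀ i, b < i → f.f i = 0) {n : ℕ} (e : E.X b ≅ FlatMod.freeMod X n) (x : X) :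
    ∃ (U : Scheme.{u}) (j : U ⟶ X) (_ : IsOpenImmersion j) (y : U)
      (g : (rC j).obj E ⟶ (rC j).obj L), j y = x ∧ (∀ i, b ≤ i → g.f i = 0) ∧
        Nonempty (Homotopy ((rC j).map f) g) := by
  let S := L.sc' (b - 1) b (b + 1)
  have hS : S.Exact := (L.exactAt_iff' (b - 1) b (b + 1) (by simp) (by simp)).1 hL
  let p : L.X (b - 1) ⟶ kernel (L.d b (b + 1)) :=
    kernel.lift (L.d b (b + 1)) (L.d (b - 1) b) (L.d_comp_d _ _ _)
  haveI : Epi p := S.exact_iff_epi_kernel_lift.1 hS
  let q : E.X b ⟶ kernel (L.d b (b + 1)) := kernel.lift (L.d b (b + 1)) (f.f b) (by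
    rw [f.comm, hf (b + 1) (by omega), comp_zero])
  obtain ⟨W, hxW, hW⟩ := Modules.Free.exists_lift p (e.inv ≫ q) x
  obtain ⟨ψ, hψ⟩ := hW W.ι (by simp)
  let R := Scheme.Modules.restrictFunctor W.ι
  let h₀ : R.obj (E.X b) ⟶ R.obj (L.X (b - 1)) := R.map e.hom ≫ ψ
  have hh₀ : h₀ ≫ R.map (L.d (b - 1) b) = R.map (f.f b) := by
    have e1 : p ≫ kernel.ι (L.d b (b + 1)) = L.d (b - 1) b := kernel.lift_ι _ _ _
    have e2 : q ≫ kernel.ι (L.d b (b + 1)) = f.f b := kernel.lift_ι _ _ _
    change (R.map e.hom ≫ ψ) ≫ R.map (L.d (b - 1) b) = _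
    rw [← e1, R.map_comp, Category.assoc, reassoc_of% hψ, ← R.map_comp, ← R.map_comp,
      Category.assoc, e.hom_inv_id_assoc, e2]
  let h : ∀ i k : ℤ, (ComplexShape.up ℤ).Rel k i →
      (((rC W.ι).obj E).X i ⟶ ((rC W.ι).obj L).X k) := fun i k hik =>
    if hi : i = b then
      eqToHom (by subst hi; rfl) ≫ h₀ ≫ eqToHom (by
        have hk : k + 1 = i := hik
        rw [show k = b - 1 by omega]; rfl)
    else 0
  refine ⟨_, W.ι, inferInstance, ⟨x, hxW⟩,
    (rC W.ι).map f - Homotopy.nullHomotopicMap' h, rfl, fun i hi => ?_,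
    ⟨Homotopy.equivSubZero.symm ((Homotopy.ofEq (sub_sub_cancel _ _)).trans
      (Homotopy.nullHomotopy' h))⟩⟩
  rw [HomologicalComplex.sub_f_apply, Homotopy.nullHomotopicMap'_f
    (show (ComplexShape.up ℤ).Rel (i - 1) i from show i - 1 + 1 = i by omega) (show (ComplexShape.up ℤ).Rel i (i + 1) by rfl)]
  have h1 : h (i + 1) i rfl = 0 := dif_neg (by omega)
  rw [h1, comp_zero, zero_add, sub_eq_zero]
  rcases eq_or_lt_of_le hi with rfl | hlt
  · have hb : h b (b - 1) (show b - 1 + 1 = b by omega) = h₀ :=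
      (dif_pos rfl).trans ((Category.id_comp _).trans (Category.comp_id _))
    rw [hb]
    exact hh₀.symm
  · rw [show h i (i - 1) (show i - 1 + 1 = i by omega) = 0 from dif_neg (by omega), zero_comp]
    exact (congrArg R.map (hf i hlt)).trans (R.map_zero _ _)

lemma locNull_aux (a : ℤ) (n : ℕ) : ∀ {X : Scheme.{u}} {E L : CochainComplex X.Modules ℤ},
    (∀ i, FlatMod.IsFinLocFree (E.X i)) → (∀ i, i < a → IsZero (E.X i)) → (∀ i, a ≤ i → L.ExactAt i) →
    ∀ f : E ⟶ L, (∀ i, a + n ≤ i → f.f i = 0) → ∀ x : X, LocNull f x := by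
  induction n with
  | zero =>
    intro X E L _ hz _ f hf x
    have : f = 0 := HomologicalComplex.hom_ext _ _ fun i => by
      by_cases hi : a ≤ i
      · exact hf i (by omega)
      · exact (hz i (by omega)).eq_of_src _ _
    exact ⟨X, 𝟙 X, inferInstance, x, rfl, ⟨Homotopy.ofEq (by rw [this, Functor.map_zero])⟩⟩
  | succ n ih =>
    intro X E L hE hz hL f hf x
    obtain ⟨V, m, hxV, ⟨e⟩⟩ := hE (a + n) x
    refine LocNull.of_restrict (j := V.ι) (Homotopy.refl _) (y := ⟨x, hxV⟩) rfl ?_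
    obtain ⟨U, j, _, y, g, hy, hg, ⟨H⟩⟩ := exists_homotopy_step
      (E := (rC V.ι).obj E) (L := (rC V.ι).obj L)
      ((rC V.ι).map f) (a + n) (exactAt_map V.ι (hL _ (by omega))) (fun i hi => by
        exact (congrArg (Scheme.Modules.restrictFunctor V.ι).map (hf i (by omega))).trans
          (Functor.map_zero _ _ _)) e ⟨x, hxV⟩
    exact LocNull.of_restrict H hy
      (ih (fun i => TensorMod.LocFree.isFinLocFree_restrict j
          (TensorMod.LocFree.isFinLocFree_restrict V.ι (hE i)))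
        (fun i hi => (Scheme.Modules.restrictFunctor j).map_isZero
          ((Scheme.Modules.restrictFunctor V.ι).map_isZero (hz i hi)))
        (fun i hi => exactAt_map j (exactAt_map V.ι (hL i hi))) g hg y)

/-- A chain map from a strictly perfect complex living in degrees `≥ a` into a complex exact in
degrees `≥ a` is locally null homotopic. -/
theorem locNull_of_exactAt {E L : CochainComplex X.Modules ℤ} (hE : DCoh.IsStrictlyPerfect E)
    (a : ℤ) (hEa : ∀ i, i < a → IsZero (E.X i)) (hL : ∀ i, a ≤ i → L.ExactAt i) (f : E ⟶ L)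
    (x : X) : ∃ V : X.Opens, x ∈ V ∧ Nonempty (Homotopy ((rC V.ι).map f) 0) := by
  obtain ⟨⟨a', b, hv⟩, hlf⟩ := hE
  obtain ⟨U, j, _, y, hy, ⟨H⟩⟩ := locNull_aux a ((b - a).toNat + 1) hlf hEa hL f
    (fun i hi => (hv i (Or.inr (by omega))).eq_of_src _ _) x
  refine ⟨j.opensRange, ⟨y, hy⟩, ⟨?_⟩⟩
  let k := j.isoOpensRange.inv
  let ε : rC j.opensRange.ι ≅ rC j ⋙ rC k :=
    rCCongr (Scheme.Hom.isoOpensRange_inv_comp j).symm ≪≫ rCComp k j
  let K : Homotopy ((rC k).map ((rC j).map f)) 0 :=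
    ((Scheme.Modules.restrictFunctor k).mapHomotopy H).trans (Homotopy.ofEq ((rC k).map_zero _ _))
  refine (Homotopy.ofEq ?_).trans (((K.compLeft (ε.hom.app E)).compRight (ε.inv.app L)).trans
    (Homotopy.ofEq (by simp)))
  exact (NatIso.naturality_2 ε f).symm.trans (Category.assoc _ _ _).symm

/-- Lifting up to homotopy along a map which is iso on `H^{> a}` and epi on `H^a`. -/
theorem exists_lift {E F G : CochainComplex X.Modules ℤ} (α : E ⟶ F) (f : G ⟶ F)
    (hE : DCoh.IsStrictlyPerfect E) (a : ℤ) (hEa : ∀ j : ℤ, j < a → IsZero (E.X j))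
    (hC : ∀ i, a ≤ i → (CochainComplex.mappingCone f).ExactAt i) (x : X) :
    ∃ (V : X.Opens) (β : (rC V.ι).obj E ⟶ (rC V.ι).obj G), x ∈ V ∧
      Nonempty (Homotopy (β ≫ (rC V.ι).map f) ((rC V.ι).map α)) := by
  obtain ⟨V, hx, ⟨H⟩⟩ := locNull_of_exactAt hE a hEa hC
    (α ≫ CochainComplex.mappingCone.inr f) x
  let R := Scheme.Modules.restrictFunctor V.ι
  let RH := R.mapHomotopyCategory (ComplexShape.up ℤ)
  let qX := HomotopyCategory.quotient X.Modules (ComplexShape.up ℤ)
  let qU := HomotopyCategory.quotient (V : Scheme.{u}).Modules (ComplexShape.up ℤ)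
  have hT : RH.mapTriangle.obj (CochainComplex.mappingCone.triangleh f) ∈
      distTriang (HomotopyCategory (V : Scheme.{u}).Modules (ComplexShape.up ℤ)) :=
    RH.map_distinguished _ (HomotopyCategory.mappingCone_triangleh_distinguished f)
  have h2 : qU.map ((rC V.ι).map α) ≫ RH.map (qX.map (CochainComplex.mappingCone.inr f)) = 0 :=
    ((qU.map_comp ((rC V.ι).map α) ((rC V.ι).map (CochainComplex.mappingCone.inr f))).symm.trans
      (congrArg qU.map ((rC V.ι).map_comp α (CochainComplex.mappingCone.inr f)).symm)).trans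
      ((HomotopyCategory.eq_of_homotopy _ _ H).trans (qU.map_zero _ _))
  obtain ⟨σ, hσ⟩ := Triangle.coyoneda_exact₂ _ hT (qU.map ((rC V.ι).map α)) h2
  obtain ⟨σ₀, rfl⟩ : ∃ σ₀ : (rC V.ι).obj E ⟶ (rC V.ι).obj G, qU.map σ₀ = σ := qU.map_surjective σ
  exact ⟨V, σ₀, hx, ⟨HomotopyCategory.homotopyOfEq _ _
    ((qU.map_comp σ₀ ((rC V.ι).map f)).trans hσ.symm)⟩⟩

/-- The cone of a map which is iso on `H^{> a}` and epi on `H^a` is exact in degrees `≥ a`. -/
lemma exactAt_mappingCone {F G : CochainComplex X.Modules ℤ} (f : G ⟶ F) (a : ℤ)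
    (hf : ∀ j : ℤ, a < j → IsIso (HomologicalComplex.homologyMap f j))
    (hfa : Epi (HomologicalComplex.homologyMap f a)) (i : ℤ) (hi : a ≤ i) :
    (CochainComplex.mappingCone f).ExactAt i := by
  have hd := DerivedCategory.mappingCone_triangle_distinguished f
  rw [HomologicalComplex.exactAt_iff_isZero_homology]
  let T := CochainComplex.mappingCone.triangle f
  have h1 := CochainComplex.homologyMap_exact₂_of_distTriang T hd i
  have h2 := CochainComplex.homologyMap_exact₃_of_distTriang T hd i (i + 1) rfl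
  have h3 := CochainComplex.homologyMap_exact₁_of_distTriang T hd i (i + 1) rfl
  have he : Epi (HomologicalComplex.homologyMap f i) := by
    rcases eq_or_lt_of_le hi with rfl | h
    exacts [hfa, @IsIso.epi_of_iso _ _ _ _ _ (hf i h)]
  have hm : Mono (HomologicalComplex.homologyMap f (i + 1)) :=
    @IsIso.mono_of_iso _ _ _ _ _ (hf (i + 1) (by omega))
  have z1 : HomologicalComplex.homologyMap T.mor₂ i = 0 := by
    haveI : Epi (HomologicalComplex.homologyMap T.mor₁ i) := he
    rw [← cancel_epi (HomologicalComplex.homologyMap T.mor₁ i), comp_zero]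
    exact CochainComplex.homologyMap_comp_eq_zero_of_distTriang T hd i
  have z2 : CochainComplex.homologyδOfTriangle T i (i + 1) rfl = 0 := by
    haveI : Mono (HomologicalComplex.homologyMap T.mor₁ (i + 1)) := hm
    rw [← cancel_mono (HomologicalComplex.homologyMap T.mor₁ (i + 1)), zero_comp]
    exact CochainComplex.homologyδOfTriangle_homologyMap T hd i (i + 1) rfl
  exact h2.isZero_X₂ z1 z2

/-- Morphisms of `D(O_X)` out of strictly perfect complexes are, on small opens, chain maps. -/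
theorem exists_map_opens {E K : CochainComplex X.Modules ℤ} (hE : DCoh.IsStrictlyPerfect E)
    (g : DerivedCategory.Q.obj E ⟶ DerivedCategory.Q.obj K) (x : X) :
    ∃ (V : X.Opens) (φ : (rC V.ι).obj E ⟶ (rC V.ι).obj K), x ∈ V ∧
      (RD V.ι).map g = (RDQ V.ι E).hom ≫ DerivedCategory.Q.map φ ≫ (RDQ V.ι K).inv := by
  obtain ⟨F, s, _, t, rfl⟩ := DerivedCategory.right_fac g
  haveI : QuasiIso s := (DerivedCategory.isIso_Q_map_iff_quasiIso _ s).1 inferInstance
  obtain ⟨⟨a, b, hv⟩, hlf⟩ := id hE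
  obtain ⟨V, β, hx, ⟨H⟩⟩ := exists_lift (𝟙 E) s hE a (fun i hi => hv i (Or.inl hi))
    (exactAt_mappingCone s a (fun j _ => inferInstance) inferInstance) x
  refine ⟨V, β ≫ (rC V.ι).map t, hx, ?_⟩
  let R := Scheme.Modules.restrictFunctor V.ι
  have hQ : DerivedCategory.Q.map β ≫ DerivedCategory.Q.map ((rC V.ι).map s) = 𝟙 _ := by
    rw [← Functor.map_comp, DerivedCategory.Q_map_eq_of_homotopy _ H, (rC V.ι).map_id,
      CategoryTheory.Functor.map_id]
  have es : (RD V.ι).map (DerivedCategory.Q.map s) ≫ (RDQ V.ι E).hom =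
      (RDQ V.ι F).hom ≫ DerivedCategory.Q.map ((rC V.ι).map s) :=
    R.mapDerivedCategoryFactors.hom.naturality s
  have et : (RD V.ι).map (DerivedCategory.Q.map t) ≫ (RDQ V.ι K).hom =
      (RDQ V.ι F).hom ≫ DerivedCategory.Q.map ((rC V.ι).map t) :=
    R.mapDerivedCategoryFactors.hom.naturality t
  rw [← Category.assoc, Iso.eq_comp_inv, ← cancel_epi ((RD V.ι).map (DerivedCategory.Q.map s)),
    ← Category.assoc, ← Functor.map_comp, IsIso.hom_inv_id_assoc, et, reassoc_of% es,
    Functor.map_comp]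
  have : IsIso (DerivedCategory.Q.map ((rC V.ι).map s)) :=
    (NatIso.isIso_map_iff R.mapDerivedCategoryFactors s).1
      (inferInstanceAs (IsIso ((RD V.ι).map (DerivedCategory.Q.map s))))
  congr 1
  rw [← Category.assoc]
  have hinv : DerivedCategory.Q.map ((rC V.ι).map s) ≫ DerivedCategory.Q.map β = 𝟙 _ := by
    rw [← cancel_mono (DerivedCategory.Q.map ((rC V.ι).map s)), Category.assoc, hQ,
      Category.comp_id, Category.id_comp]
  rw [hinv, Category.id_comp]

end Groth.Agent.Lib.Perfect.Lift2
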