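import Groth.Agent.Lib.Perfect.Stupid
import Groth.Agent.Lib.Perfect.Coherent
import Groth.Agent.Lib.Perfect.Lift2

/-!
# Pseudo-coherent objects of `D(O_X)`
-/

set_option autoImplicit false
set_option linter.style.haveILetI false

universe u

open CategoryTheory Limits AlgebraicGeometry CategoryTheory.Pretriangulated

namespace Groth.Agent.Lib.Perfect.PseudoCoh

open Groth.Agent.Lib.Perfect.Basic Groth.Agent.Lib.Perfect.Ascent
open Groth.Agent.Lib.Perfect.Triangle (RDComp RDCongr isStrictlyPerfect_shift)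

attribute [local instance] HasDerivedCategory.standard

variable {X U V : Scheme.{u}} {m : ℤ}

/-- Restriction preserves `Good`. -/
lemma good_restrict (j : U ⟶ X) [IsOpenImmersion j] {K L : DCoh.D X} {f : K ⟶ L}
    (h : Good m f) : Good m ((RD j).map f) := by
  obtain ⟨C, g, δ, hC⟩ := distinguished_cocone_triangle f
  refine (good_iff m _ ((RD j).map_distinguished _ hC)).2 fun i hi => ?_
  exact ((Scheme.Modules.restrictFunctor j).map_isZero ((good_iff m _ hC).1 h i hi)).of_iso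
    (Coherent.homologyIso j C i)

/-- `K` is `m`-pseudo-coherent near `x`. -/
def PCAt (m : ℤ) (K : DCoh.D X) (x : X) : Prop :=
  ∃ (U : Scheme.{u}) (j : U ⟶ X) (_ : IsOpenImmersion j) (y : U)
    (E : CochainComplex U.Modules ℤ) (α : DerivedCategory.Q.obj E ⟶ (RD j).obj K),
    j y = x ∧ DCoh.IsStrictlyPerfect E ∧ Good m α

lemma PCAt.of_iso {K L : DCoh.D X} (e : K ≅ L) {x : X} (h : PCAt m K x) : PCAt m L x := by
  obtain ⟨U, j, _, y, E, α, hy, hE, hα⟩ := h
  exact ⟨U, j, inferInstance, y, E, α ≫ (RD j).map e.hom, hy, hE,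
    hα.comp (Good.of_isIso m _)⟩

lemma PCAt.mono' {K : DCoh.D X} {x : X} {m' : ℤ} (h : PCAt m K x) (hm : m ≤ m') :
    PCAt m' K x := by
  obtain ⟨U, j, _, y, E, α, hy, hE, hα⟩ := h
  exact ⟨U, j, inferInstance, y, E, α, hy, hE, hα.mono' hm⟩

lemma PCAt.of_restrict {j : U ⟶ X} [IsOpenImmersion j] {K : DCoh.D X} {y : U} {x : X}
    (hy : j y = x) (h : PCAt m ((RD j).obj K) y) : PCAt m K x := by
  obtain ⟨V, k, _, z, E, α, hz, hE, hα⟩ := h
  exact ⟨V, k ≫ j, inferInstance, z, E, α ≫ (RDComp k j K).inv, by simp [hz, hy], hE,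
    hα.comp (Good.of_isIso m _)⟩

lemma PCAt.restrict (j : U ⟶ X) [IsOpenImmersion j] {K : DCoh.D X} (y : U)
    (h : PCAt m K (j y)) : PCAt m ((RD j).obj K) y := by
  obtain ⟨V, k, _, z, E, α, hz, hE, hα⟩ := h
  obtain ⟨w, hw1, hw2⟩ := Scheme.Pullback.exists_preimage_pullback y z hz.symm
  let e : (RD (pullback.snd j k)).obj ((RD k).obj K) ≅ (RD (pullback.fst j k)).obj ((RD j).obj K) :=
    (RDComp _ k K).symm ≪≫ RDCongr pullback.condition.symm K ≪≫ RDComp _ j K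
  exact ⟨_, pullback.fst j k, inferInstance, w, (rC (pullback.snd j k)).obj E,
    (RDQ _ E).inv ≫ (RD (pullback.snd j k)).map α ≫ e.hom, hw1,
    isStrictlyPerfect_map _ hE,
    (Good.of_isIso m _).comp ((good_restrict _ hα).comp (Good.of_isIso m _))⟩

theorem iff_forall (m : ℤ) (K : DCoh.D X) :
    DCoh.IsPseudoCoherentD m K ↔ ∀ x : X, PCAt m K x := by
  constructor
  · intro h x
    obtain ⟨V, hx, hV⟩ := h x
    let e := DerivedCategory.Q.objObjPreimageIso K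
    obtain ⟨E, α, hE, h1, h2⟩ := hV _ ⟨e⟩
    exact ⟨V, V.ι, inferInstance, ⟨x, hx⟩, E, α ≫ (RDQ V.ι _).inv ≫ (RD V.ι).map e.hom, rfl, hE,
      Good.comp ⟨h1, h2⟩ (Good.of_isIso m _)⟩
  · intro h x
    obtain ⟨U, j, _, y, E, α, hy, hE, hα⟩ := h x
    let k := j.isoOpensRange.inv
    refine ⟨j.opensRange, ⟨y, hy⟩, fun F ⟨e⟩ => ?_⟩
    let e' : (RD k).obj ((RD j).obj K) ≅ DerivedCategory.Q.obj ((DCoh.restrictCx j.opensRange).obj F) :=
      (RDComp _ j K).symm ≪≫ RDCongr (Scheme.Hom.isoOpensRange_inv_comp j) K ≪≫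
        (RD j.opensRange.ι).mapIso e.symm ≪≫ RDQ j.opensRange.ι F
    refine ⟨(rC k).obj E, (RDQ k E).inv ≫ (RD k).map α ≫ e'.hom, isStrictlyPerfect_map _ hE, ?_⟩
    exact (Good.of_isIso m _).comp ((good_restrict k hα).comp (Good.of_isIso m _))

lemma PCAt.shift {K : DCoh.D X} {x : X} (h : PCAt m K x) (n m' : ℤ) (hn : n + m' = m) :
    PCAt m' (K⟦n⟧) x := by
  obtain ⟨U, j, _, y, E, α, hy, hE, hα⟩ := h
  exact ⟨U, j, inferInstance, y, E⟦n⟧,
    ((DerivedCategory.Q.commShiftIso n).app E).hom ≫ α⟦n⟧' ≫ (((RD j).commShiftIso n).app K).inv,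
    hy, isStrictlyPerfect_shift hE n,
    (Good.of_isIso m' _).comp ((hα.shift n hn).comp (Good.of_isIso m' _))⟩

/-- A map from a strictly perfect complex in degrees `≥ a` to an object without cohomology in
degrees `≥ a` vanishes locally. -/
theorem exists_map_eq_zero {E : CochainComplex X.Modules ℤ} (hE : DCoh.IsStrictlyPerfect E)
    (a : ℤ) (hEa : ∀ i, i < a → IsZero (E.X i)) {C : DCoh.D X}
    (hC : ∀ i, a ≤ i → IsZero (DCoh.HD C i)) (f : DerivedCategory.Q.obj E ⟶ C) (x : X) :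
    ∃ (U : Scheme.{u}) (j : U ⟶ X) (_ : IsOpenImmersion j) (W : U.Opens) (y : U) (_ : y ∈ W),
      j y = x ∧ (RD W.ι).map ((RD j).map f) = 0 := by
  let L := DerivedCategory.Q.objPreimage C
  let e : DerivedCategory.Q.obj L ≅ C := DerivedCategory.Q.objObjPreimageIso C
  obtain ⟨U, j, _, y, φ, hy, hφ⟩ := Lift.exists_map hE (f ≫ e.inv) x
  obtain ⟨W, hyW, ⟨H⟩⟩ := Lift2.locNull_of_exactAt (L := (rC j).obj L)
    (isStrictlyPerfect_map j hE) a
    (fun i hi => (Scheme.Modules.restrictFunctor j).map_isZero (hEa i hi))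
    (fun i hi => Lift2.exactAt_map j (by
      rw [HomologicalComplex.exactAt_iff_isZero_homology]
      exact (hC i hi).of_iso (((DerivedCategory.homologyFunctorFactors X.Modules i).app L).symm ≪≫
        (DerivedCategory.homologyFunctor X.Modules i).mapIso e))) φ y
  refine ⟨U, j, inferInstance, W, y, hyW, hy, ?_⟩
  have hQ : DerivedCategory.Q.map ((rC W.ι).map φ) = 0 :=
    (DerivedCategory.Q_map_eq_of_homotopy _ H).trans (Functor.map_zero _ _ _)
  have hz : (RD W.ι).map (DerivedCategory.Q.map φ) = 0 := by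
    rw [← cancel_mono (RDQ W.ι _).hom, zero_comp]
    exact ((Scheme.Modules.restrictFunctor W.ι).mapDerivedCategoryFactors.hom.naturality φ).trans
      ((congrArg (_ ≫ ·) hQ).trans comp_zero)
  rw [show f = (f ≫ e.inv) ≫ e.hom by simp, Functor.map_comp, Functor.map_comp, hφ]
  simp [hz]

theorem pcAt₃_of_square {T : Triangle (DCoh.D X)} (hT : T ∈ distTriang (DCoh.D X))
    {E₁ E₂ : CochainComplex X.Modules ℤ} (hE₁ : DCoh.IsStrictlyPerfect E₁)
    (hE₂ : DCoh.IsStrictlyPerfect E₂) (α₁ : DerivedCategory.Q.obj E₁ ⟶ T.obj₁)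
    (α₂ : DerivedCategory.Q.obj E₂ ⟶ T.obj₂) (h₁ : Good (m + 1) α₁) (h₂ : Good m α₂)
    (g : DerivedCategory.Q.obj E₁ ⟶ DerivedCategory.Q.obj E₂)
    (hg : g ≫ α₂ = α₁ ≫ T.mor₁) (x : X) : PCAt m T.obj₃ x := by
  obtain ⟨U, j, _, y, φ, hy, hφ⟩ := Lift.exists_map hE₁ g x
  refine PCAt.of_restrict (j := j) (y := y) hy ?_
  obtain ⟨c, c₂, c₃⟩ := complete_distinguished_triangle_morphism _ ((RD j).mapTriangle.obj T)
    (DerivedCategory.mappingCone_triangle_distinguished φ) ((RD j).map_distinguished _ hT)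
    ((RDQ j E₁).inv ≫ (RD j).map α₁) ((RDQ j E₂).inv ≫ (RD j).map α₂) (by
      change DerivedCategory.Q.map φ ≫ (RDQ j E₂).inv ≫ (RD j).map α₂ =
        ((RDQ j E₁).inv ≫ (RD j).map α₁) ≫ (RD j).map T.mor₁
      rw [Category.assoc, ← Functor.map_comp, ← hg, Functor.map_comp, hφ]
      simp)
  let ψ : DerivedCategory.Q.mapTriangle.obj (CochainComplex.mappingCone.triangle φ) ⟶
      (RD j).mapTriangle.obj T :=
    Triangle.homMk _ _ ((RDQ j E₁).inv ≫ (RD j).map α₁) ((RDQ j E₂).inv ≫ (RD j).map α₂) c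
      (by
        change DerivedCategory.Q.map φ ≫ (RDQ j E₂).inv ≫ (RD j).map α₂ =
          ((RDQ j E₁).inv ≫ (RD j).map α₁) ≫ (RD j).map T.mor₁
        rw [Category.assoc, ← Functor.map_comp, ← hg, Functor.map_comp, hφ]
        simp) c₂ c₃
  have hc : Good m ψ.hom₃ :=
    good₃ (DerivedCategory.mappingCone_triangle_distinguished φ) ((RD j).map_distinguished _ hT) ψ
      ((Good.of_isIso (m + 1) _).comp (good_restrict j h₁))
      ((Good.of_isIso m _).comp (good_restrict j h₂))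
  exact ⟨U, 𝟙 U, inferInstance, y, _,
    (RDQ (𝟙 U) _).inv ≫ (RD (𝟙 U)).map ψ.hom₃, rfl,
    isStrictlyPerfect_map (𝟙 U) (Triangle.isStrictlyPerfect_mappingCone
      (isStrictlyPerfect_map j hE₁) (isStrictlyPerfect_map j hE₂) φ),
    (Good.of_isIso m _).comp (good_restrict _ hc)⟩

theorem pcAt₃_of_maps {T : Triangle (DCoh.D X)} (hT : T ∈ distTriang (DCoh.D X))
    {E₁ E₂ : CochainComplex X.Modules ℤ} (hE₁ : DCoh.IsStrictlyPerfect E₁)
    (hE₁m : ∀ i, i < m + 1 → IsZero (E₁.X i))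
    (hE₂ : DCoh.IsStrictlyPerfect E₂) (α₁ : DerivedCategory.Q.obj E₁ ⟶ T.obj₁)
    (α₂ : DerivedCategory.Q.obj E₂ ⟶ T.obj₂) (h₁ : Good (m + 1) α₁) (h₂ : Good m α₂)
    (x : X) : PCAt m T.obj₃ x := by
  obtain ⟨C, g₂, δ, hC⟩ := distinguished_cocone_triangle α₂
  obtain ⟨U, j, _, W, y, hyW, hy, h0⟩ := exists_map_eq_zero hE₁ (m + 1) hE₁m
    (fun i hi => (good_iff m _ hC).1 h₂ i (by omega)) (α₁ ≫ T.mor₁ ≫ g₂) x
  refine PCAt.of_restrict (j := j) (y := y) hy
    (PCAt.of_restrict (j := W.ι) (y := ⟨y, hyW⟩) rfl ?_)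
  let T' := (RD W.ι).mapTriangle.obj ((RD j).mapTriangle.obj T)
  have hC' := (RD W.ι).map_distinguished _ ((RD j).map_distinguished _ hC)
  let β₁ : DerivedCategory.Q.obj ((rC W.ι).obj ((rC j).obj E₁)) ⟶
      (RD W.ι).obj ((RD j).obj T.obj₁) :=
    (RDQ W.ι _).inv ≫ (RD W.ι).map ((RDQ j E₁).inv ≫ (RD j).map α₁)
  let β₂ : DerivedCategory.Q.obj ((rC W.ι).obj ((rC j).obj E₂)) ⟶
      (RD W.ι).obj ((RD j).obj T.obj₂) :=
    (RDQ W.ι _).inv ≫ (RD W.ι).map ((RDQ j E₂).inv ≫ (RD j).map α₂)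
  have hz : (β₁ ≫ (RD W.ι).map ((RD j).map T.mor₁)) ≫ (RD W.ι).map ((RD j).map g₂) = 0 := by
    simp only [Functor.map_comp] at h0
    simp only [β₁, Functor.map_comp, Category.assoc]
    exact ((congrArg (fun t => _ ≫ _ ≫ t) h0).trans ((congrArg (_ ≫ ·) comp_zero).trans comp_zero))
  obtain ⟨g, hg⟩ : ∃ g : DerivedCategory.Q.obj ((rC W.ι).obj ((rC j).obj E₁)) ⟶
      (RD W.ι).obj ((RD j).obj (DerivedCategory.Q.obj E₂)),
      β₁ ≫ (RD W.ι).map ((RD j).map T.mor₁) = g ≫ (RD W.ι).map ((RD j).map α₂) :=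
    Triangle.coyoneda_exact₂ _ hC' (β₁ ≫ (RD W.ι).map ((RD j).map T.mor₁)) hz
  exact pcAt₃_of_square (T := T') ((RD W.ι).map_distinguished _ ((RD j).map_distinguished _ hT))
    (isStrictlyPerfect_map W.ι (isStrictlyPerfect_map j hE₁))
    (isStrictlyPerfect_map W.ι (isStrictlyPerfect_map j hE₂)) β₁ β₂
    ((Good.of_isIso _ _).comp (good_restrict _ ((Good.of_isIso _ _).comp (good_restrict j h₁))))
    ((Good.of_isIso _ _).comp (good_restrict _ ((Good.of_isIso _ _).comp (good_restrict j h₂))))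
    (g ≫ (RD W.ι).map (RDQ j E₂).hom ≫ (RDQ W.ι _).hom)
    (by
      refine Eq.trans ?_ hg.symm
      simp [β₂]
      rfl) ⟨y, hyW⟩

/-- The third vertex is `m`-pseudo-coherent if the first is `(m + 1)`- and the second `m`-. -/
theorem pcAt₃ {T : Triangle (DCoh.D X)} (hT : T ∈ distTriang (DCoh.D X)) {x : X}
    (h₁ : PCAt (m + 1) T.obj₁ x) (h₂ : PCAt m T.obj₂ x) : PCAt m T.obj₃ x := by
  obtain ⟨U, j, _, y, E₁, α₁, rfl, hE₁, hα₁⟩ := h₁
  obtain ⟨U', j', _, y', E₂, α₂, rfl, hE₂, hα₂⟩ := h₂.restrict j y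
  refine PCAt.of_restrict (j := j) (y := j' y') rfl (PCAt.of_restrict (j := j') (y := y') rfl ?_)
  have hE₁' := isStrictlyPerfect_map j' hE₁
  exact pcAt₃_of_maps (T := (RD j').mapTriangle.obj ((RD j).mapTriangle.obj T))
    ((RD j').map_distinguished _ ((RD j).map_distinguished _ hT))
    (Stupid.isStrictlyPerfect_trunc hE₁' (m + 1)) (fun i hi => Stupid.isZero_trunc _ _ i hi) hE₂
    (DerivedCategory.Q.map (Stupid.ι _ (m + 1)) ≫ (RDQ j' E₁).inv ≫ (RD j').map α₁) α₂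
    ((Stupid.good_ι _ _).comp ((Good.of_isIso _ _).comp (good_restrict j' hα₁))) hα₂ y'

variable {T : Triangle (DCoh.D X)} (hT : T ∈ distTriang (DCoh.D X)) {x : X}
include hT

theorem pcAt₂ (h₁ : PCAt m T.obj₁ x) (h₃ : PCAt m T.obj₃ x) : PCAt m T.obj₂ x :=
  pcAt₃ (T := T.invRotate) (inv_rot_of_distTriang _ hT) (h₃.shift (-1) (m + 1) (by omega)) h₁

theorem pcAt₁ (h₂ : PCAt (m + 1) T.obj₂ x) (h₃ : PCAt m T.obj₃ x) : PCAt (m + 1) T.obj₁ x :=
  ((pcAt₃ (T := T.rotate) (rot_of_distTriang _ hT) h₂ h₃).shift (-1) (m + 1) (by omega)).of_iso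
    ((shiftEquiv (DCoh.D X) (1 : ℤ)).unitIso.app T.obj₁).symm

omit hT

open ZeroObject in
/-- An object without cohomology in degrees `≥ m` is `m`-pseudo-coherent. -/
lemma pcAt_of_vanish {K : DCoh.D X} (h : ∀ i, m ≤ i → IsZero (DCoh.HD K i)) (x : X) :
    PCAt m K x := by
  refine ⟨X, 𝟙 X, inferInstance, x, 0, 0, rfl, ⟨⟨0, 0, fun i _ => ?_⟩, fun i => ?_⟩, ?_⟩
  · exact (HomologicalComplex.eval _ _ i).map_isZero (isZero_zero _)
  · exact Stupid.isFinLocFree_isZero ((HomologicalComplex.eval _ _ i).map_isZero (isZero_zero _))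
  · have hs : ∀ i, IsZero ((DerivedCategory.homologyFunctor X.Modules i).obj
        (DerivedCategory.Q.obj (0 : CochainComplex X.Modules ℤ))) := fun i =>
      (DerivedCategory.homologyFunctor X.Modules i).map_isZero
        (DerivedCategory.Q.map_isZero (isZero_zero _))
    have ht : ∀ i, m ≤ i → IsZero ((DerivedCategory.homologyFunctor X.Modules i).obj
        ((RD (𝟙 X)).obj K)) := fun i hi =>
      ((Scheme.Modules.restrictFunctor (𝟙 X)).map_isZero (h i hi)).of_iso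
        (Coherent.homologyIso (𝟙 X) K i)
    exact ⟨fun i hi => ⟨⟨0, (hs i).eq_of_src _ _, (ht i hi.le).eq_of_src _ _⟩⟩,
      ⟨fun _ _ _ => (ht m le_rfl).eq_of_src _ _⟩⟩

/-- Triangle `B ⟶ A ⊞ B ⟶ A`. -/
lemma inr_fst_distinguished (A B : DCoh.D X) :
    Triangle.mk (biprod.inr : B ⟶ A ⊞ B) biprod.fst 0 ∈ distTriang (DCoh.D X) :=
  isomorphic_distinguished _ (binaryBiproductTriangle_distinguished B A) _
    (Triangle.isoMk _ _ (Iso.refl _) (biprod.braiding A B) (Iso.refl _)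
      (by
        change biprod.inr ≫ (biprod.braiding A B).hom = 𝟙 B ≫ biprod.inl
        simp [biprod.hom_ext_iff])
      (by
        change biprod.fst ≫ 𝟙 A = (biprod.braiding A B).hom ≫ biprod.snd
        simp)
      (by
        change (0 : A ⟶ B⟦(1 : ℤ)⟧) ≫ _ = 𝟙 A ≫ 0
        simp))

/-- A direct summand of an `m`-pseudo-coherent object is `m`-pseudo-coherent. -/
theorem pcAt_of_biprod (A B : DCoh.D X) (h : ∀ x, PCAt m (A ⊞ B) x) (x : X) : PCAt m A x := by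
  have h₁₂ := rot_of_distTriang _ (binaryBiproductTriangle_distinguished A B)
  obtain ⟨Z, v, w, h₁₃⟩ :=
    distinguished_cocone_triangle ((biprod.snd : A ⊞ B ⟶ B) ≫ (biprod.inr : B ⟶ A ⊞ B))
  let O := Triangulated.someOctahedron rfl h₁₂ (inr_fst_distinguished A B) h₁₃
  have hZ : ∀ y, PCAt m Z y := fun y =>
    pcAt₃ (T := Triangle.mk _ v w) h₁₃ ((h y).mono' (by omega)) (h y)
  obtain ⟨U, j, _, y, E, α, rfl, hE, hα⟩ := h x
  obtain ⟨⟨a, b, hv⟩, -⟩ := hE
  have hPC : ∀ i, b < i → m < i → IsZero (DCoh.HD ((RD j).obj A) i) := fun i hb hm => by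
    have := hα.1 i hm
    have hP : IsZero (DCoh.HD ((RD j).obj (A ⊞ B)) i) :=
      IsZero.of_iso ((HomologicalComplex.ExactAt.isZero_homology
        (HomologicalComplex.ExactAt.of_isZero (hv i (Or.inr hb)))).of_iso
          ((DerivedCategory.homologyFunctorFactors U.Modules i).app E))
        (asIso ((DerivedCategory.homologyFunctor U.Modules i).map α)).symm
    exact IsZero.of_mono ((RD j ⋙ DerivedCategory.homologyFunctor U.Modules i).map
      (biprod.inl : A ⟶ A ⊞ B)) hP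
  let N : ℕ := (max b m - m).toNat + 1
  suffices key : ∀ k n : ℕ, N ≤ n + k → PCAt m ((RD j).obj A⟦(n : ℤ)⟧) y by
    refine PCAt.of_restrict (j := j) (y := y) rfl ?_
    exact (key N 0 (by omega)).of_iso ((shiftFunctorZero' (DCoh.D U) ((0 : ℕ) : ℤ) rfl).app _)
  intro k
  induction k with
  | zero =>
    intro n hn
    refine pcAt_of_vanish (fun i hi => ?_) y
    exact (hPC ((n : ℤ) + i) (by omega) (by omega)).of_iso
      (((DerivedCategory.homologyFunctor U.Modules 0).shiftIso (n : ℤ) i _ rfl).app ((RD j).obj A))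
  | succ k ih =>
    intro n hn
    have hT := Triangle.shift_distinguished _ ((RD j).map_distinguished _ O.mem) (n : ℤ)
    refine pcAt₃ hT ?_ ?_
    · refine ((ih (n + 1) (by omega)).mono' (show m ≤ m + 1 by omega)).of_iso ?_
      exact (shiftFunctorAdd' (DCoh.D U) (1 : ℤ) (n : ℤ) ((n + 1 : ℕ) : ℤ) (by omega)).app _ ≪≫
        (shiftFunctor (DCoh.D U) (n : ℤ)).mapIso (((RD j).commShiftIso (1 : ℤ)).app A).symm
    · exact ((PCAt.restrict j y (hZ _)).shift (n : ℤ) (m - n) (by omega)).mono' (by omega)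

end Groth.Agent.Lib.Perfect.PseudoCoh
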