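import Groth.Agent.Lib.Perfect.Basic
import Groth.Agent.Lib.Modules.FreeStalk
import Mathlib.Algebra.Homology.DerivedCategory.Fractions
import Mathlib.Algebra.Homology.HomotopyCategory.Pretriangulated
import Mathlib.Algebra.Homology.HomotopyCategory.Triangulated

/-!
# Maps out of strictly perfect complexes are locally maps of complexes
-/

set_option autoImplicit false
set_option linter.style.haveILetI false

universe u

open CategoryTheory Limits AlgebraicGeometry CategoryTheory.Pretriangulated

namespace Groth.Agent.Lib.Perfect.Lift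

open Groth.Agent.Lib.Perfect.Basic

attribute [local instance] HasDerivedCategory.standard

variable {X : Scheme.{u}}

lemma acyclic_map {U : Scheme.{u}} (j : U ⟶ X) [IsOpenImmersion j]
    {L : CochainComplex X.Modules ℤ} (hL : L.Acyclic) : ((rC j).obj L).Acyclic :=
  fun i => (hL i).map (Scheme.Modules.restrictFunctor j)

/-- A chain map is locally null homotopic near `x`. -/
def LocNull {E L : CochainComplex X.Modules ℤ} (f : E ⟶ L) (x : X) : Prop :=
  ∃ (U : Scheme.{u}) (j : U ⟶ X) (_ : IsOpenImmersion j) (y : U),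
    j y = x ∧ Nonempty (Homotopy ((rC j).map f) 0)

lemma LocNull.of_restrict {U : Scheme.{u}} {j : U ⟶ X} [IsOpenImmersion j]
    {E L : CochainComplex X.Modules ℤ} {f : E ⟶ L} {g : (rC j).obj E ⟶ (rC j).obj L}
    (H : Homotopy ((rC j).map f) g) {y : U} {x : X} (hy : j y = x) (h : LocNull g y) :
    LocNull f x := by
  obtain ⟨V, j', _, z, hz, ⟨G⟩⟩ := h
  let K : Homotopy ((rC j').map ((rC j).map f)) 0 :=
    ((Scheme.Modules.restrictFunctor j').mapHomotopy H).trans G
  refine ⟨V, j' ≫ j, inferInstance, z, by simp [hz, hy], ⟨?_⟩⟩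
  refine (Homotopy.ofEq ?_).trans
    (((K.compLeft ((rCComp j' j).hom.app E)).compRight ((rCComp j' j).inv.app L)).trans
      (Homotopy.ofEq (by simp)))
  exact (NatIso.naturality_2 (rCComp j' j) f).symm.trans (Category.assoc _ _ _).symm

/-- Killing the top component of a map into an acyclic complex, when the source term is free. -/
lemma exists_homotopy_step {E L : CochainComplex X.Modules ℤ} (hL : L.Acyclic) (f : E ⟶ L)
    (b : ℤ) (hf : ∀ i, b < i → f.f i = 0) {n : ℕ} (e : E.X b ≅ FlatMod.freeMod X n) (x : X) :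
    ∃ (U : Scheme.{u}) (j : U ⟶ X) (_ : IsOpenImmersion j) (y : U)
      (g : (rC j).obj E ⟶ (rC j).obj L), j y = x ∧ (∀ i, b ≤ i → g.f i = 0) ∧
        Nonempty (Homotopy ((rC j).map f) g) := by
  let S := L.sc' (b - 1) b (b + 1)
  have hS : S.Exact := (L.exactAt_iff' (b - 1) b (b + 1) (by simp) (by simp)).1 (hL b)
  let p : L.X (b - 1) ⟶ kernel (L.d b (b + 1)) :=
    kernel.lift (L.d b (b + 1)) (L.d (b - 1) b) (L.d_comp_d _ _ _)
  haveI : Epi p := S.exact_iff_epi_kernel_lift.1 hS
  let q : E.X b ⟶ kernel (L.d b (b + 1)) := kernel.lift (L.d b (b + 1)) (f.f b) (by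
    rw [f.comm, hf (b + 1) (by omega), comp_zero])
  obtain ⟨W, hxW, hW⟩ := Modules.Free.exists_lift p (e.inv ≫ q) x
  obtain ⟨ψ, hψ⟩ := hW W.ι (by simp)
  let R := Scheme.Modules.restrictFunctor W.ι
  let h₀ : R.obj (E.X b) ⟶ R.obj (L.X (b - 1)) := R.map e.hom ≫ ψ
  have hh₀ : h₀ ≫ R.map (L.d (b - 1) b) = R.map (f.f b) := by
    have e1 : p ≫ kernel.ι (L.d b (b + 1)) = L.d (b - 1) b := kernel.lift_ι _ _ _
    have e2 : q ≫ kernel.ι (L.d b (b + 1)) = f.f b := kernel.lift_ι _ _ _
    change (R.map e.hom ≫ ψ) ≫ R.map (L.d (b - 1) b) = _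
    rw [← e1, R.map_comp, Category.assoc, reassoc_of% hψ, ← R.map_comp, ← R.map_comp,
      Category.assoc, e.hom_inv_id_assoc, e2]
  let h : ∀ i k : ℤ, (ComplexShape.up ℤ).Rel k i →
      (((rC W.ι).obj E).X i ⟶ ((rC W.ι).obj L).X k) := fun i k hik =>
    if hi : i = b then
      eqToHom (by subst hi; rfl) ≫ h₀ ≫ eqToHom (by
        have hk : k + 1 = i := hik
        rw [show k = b - 1 by omega]; rfl)
    else 0
  refine ⟨_, W.ι, inferInstance, ⟨x, hxW⟩,
    (rC W.ι).map f - Homotopy.nullHomotopicMap' h, rfl, fun i hi => ?_,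
    ⟨Homotopy.equivSubZero.symm ((Homotopy.ofEq (sub_sub_cancel _ _)).trans
      (Homotopy.nullHomotopy' h))⟩⟩
  rw [HomologicalComplex.sub_f_apply, Homotopy.nullHomotopicMap'_f
    (show (ComplexShape.up ℤ).Rel (i - 1) i from show i - 1 + 1 = i by omega) (show (ComplexShape.up ℤ).Rel i (i + 1) by rfl)]
  have h1 : h (i + 1) i rfl = 0 := dif_neg (by omega)
  rw [h1, comp_zero, zero_add, sub_eq_zero]
  rcases eq_or_lt_of_le hi with rfl | hlt
  · have hb : h b (b - 1) (show b - 1 + 1 = b by omega) = h₀ :=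
      (dif_pos rfl).trans ((Category.id_comp _).trans (Category.comp_id _))
    rw [hb]
    exact hh₀.symm
  · rw [show h i (i - 1) (show i - 1 + 1 = i by omega) = 0 from dif_neg (by omega), zero_comp]
    exact (congrArg R.map (hf i hlt)).trans (R.map_zero _ _)

lemma locNull_aux (a : ℤ) (n : ℕ) : ∀ {X : Scheme.{u}} {E L : CochainComplex X.Modules ℤ},
    (∀ i, FlatMod.IsFinLocFree (E.X i)) → (∀ i, i < a → IsZero (E.X i)) → L.Acyclic →
    ∀ f : E ⟶ L, (∀ i, a + n ≤ i → f.f i = 0) → ∀ x : X, LocNull f x := by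
  induction n with
  | zero =>
    intro X E L _ hz _ f hf x
    have : f = 0 := HomologicalComplex.hom_ext _ _ fun i => by
      by_cases hi : a ≤ i
      · exact hf i (by omega)
      · exact (hz i (by omega)).eq_of_src _ _
    exact ⟨X, 𝟙 X, inferInstance, x, rfl, ⟨Homotopy.ofEq (by rw [this, Functor.map_zero])⟩⟩
  | succ n ih =>
    intro X E L hE hz hL f hf x
    obtain ⟨V, m, hxV, ⟨e⟩⟩ := hE (a + n) x
    refine LocNull.of_restrict (j := V.ι) (Homotopy.refl _) (y := ⟨x, hxV⟩) rfl ?_
    obtain ⟨U, j, _, y, g, hy, hg, ⟨H⟩⟩ := exists_homotopy_step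
      (E := (rC V.ι).obj E) (L := (rC V.ι).obj L)
      (acyclic_map V.ι hL)
      ((rC V.ι).map f) (a + n) (fun i hi => by
        exact (congrArg (Scheme.Modules.restrictFunctor V.ι).map (hf i (by omega))).trans
          (Functor.map_zero _ _ _)) e ⟨x, hxV⟩
    exact LocNull.of_restrict H hy
      (ih (fun i => TensorMod.LocFree.isFinLocFree_restrict j
          (TensorMod.LocFree.isFinLocFree_restrict V.ι (hE i)))
        (fun i hi => (Scheme.Modules.restrictFunctor j).map_isZero
          ((Scheme.Modules.restrictFunctor V.ι).map_isZero (hz i hi)))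
        (acyclic_map j (acyclic_map V.ι hL)) g hg y)

/-- A map from a strictly perfect complex to an acyclic one is locally null homotopic. -/
theorem locNull {E L : CochainComplex X.Modules ℤ} (hE : DCoh.IsStrictlyPerfect E)
    (hL : L.Acyclic) (f : E ⟶ L) (x : X) : LocNull f x := by
  obtain ⟨⟨a, b, hv⟩, hlf⟩ := hE
  exact locNull_aux a ((b - a).toNat + 1) hlf (fun i hi => hv i (Or.inl hi)) hL f
    (fun i hi => (hv i (Or.inr (by omega))).eq_of_src _ _) x

/-- A morphism in the derived category out of a strictly perfect complex is locally the image of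
a morphism of complexes. -/
theorem exists_map {E K : CochainComplex X.Modules ℤ} (hE : DCoh.IsStrictlyPerfect E)
    (g : DerivedCategory.Q.obj E ⟶ DerivedCategory.Q.obj K) (x : X) :
    ∃ (U : Scheme.{u}) (j : U ⟶ X) (_ : IsOpenImmersion j) (y : U)
      (φ : (rC j).obj E ⟶ (rC j).obj K), j y = x ∧
        (RD j).map g = (RDQ j E).hom ≫ DerivedCategory.Q.map φ ≫ (RDQ j K).inv := by
  obtain ⟨F, s, _, t, rfl⟩ := DerivedCategory.right_fac g
  let C := CochainComplex.mappingCone s
  have hC : C.Acyclic := fun i => by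
    rw [HomologicalComplex.exactAt_iff_isZero_homology]
    have hd := DerivedCategory.mappingCone_triangle_distinguished s
    haveI : IsIso (DerivedCategory.Q.mapTriangle.obj (CochainComplex.mappingCone.triangle s)).mor₁ :=
      inferInstanceAs (IsIso (DerivedCategory.Q.map s))
    exact ((DerivedCategory.homologyFunctor X.Modules i).map_isZero
      ((Triangle.isZero₃_iff_isIso₁ _ hd).2 inferInstance)).of_iso
        ((DerivedCategory.homologyFunctorFactors X.Modules i).app C).symm
  obtain ⟨U, j, _, y, hy, ⟨H⟩⟩ := locNull hE hC (CochainComplex.mappingCone.inr s) x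
  let R := Scheme.Modules.restrictFunctor j
  let RH := R.mapHomotopyCategory (ComplexShape.up ℤ)
  let qX := HomotopyCategory.quotient X.Modules (ComplexShape.up ℤ)
  let qU := HomotopyCategory.quotient U.Modules (ComplexShape.up ℤ)
  have hT : RH.mapTriangle.obj (CochainComplex.mappingCone.triangleh s) ∈
      distTriang (HomotopyCategory U.Modules (ComplexShape.up ℤ)) :=
    RH.map_distinguished _ (HomotopyCategory.mappingCone_triangleh_distinguished s)
  have h2 : RH.map (qX.map (CochainComplex.mappingCone.inr s)) = 0 := by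
    have : qU.map ((rC j).map (CochainComplex.mappingCone.inr s)) = qU.map 0 :=
      HomotopyCategory.eq_of_homotopy _ _ H
    exact this.trans (qU.map_zero _ _)
  obtain ⟨σ, hσ⟩ := Triangle.coyoneda_exact₂ _ hT (𝟙 _) ((Category.id_comp _).trans h2)
  obtain ⟨σ₀, rfl⟩ : ∃ σ₀ : (rC j).obj E ⟶ (rC j).obj F, qU.map σ₀ = σ := qU.map_surjective σ
  have hσ' : qU.map (σ₀ ≫ (rC j).map s) = qU.map (𝟙 _) :=
    ((qU.map_comp _ _).trans hσ.symm).trans (qU.map_id _).symm
  have hQ : DerivedCategory.Q.map σ₀ ≫ DerivedCategory.Q.map ((rC j).map s) = 𝟙 _ := by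
    rw [← Functor.map_comp, DerivedCategory.Q_map_eq_of_homotopy _
      (HomotopyCategory.homotopyOfEq _ _ hσ'), CategoryTheory.Functor.map_id]
  refine ⟨U, j, inferInstance, y, σ₀ ≫ (rC j).map t, hy, ?_⟩
  have es : (RD j).map (DerivedCategory.Q.map s) ≫ (RDQ j E).hom =
      (RDQ j F).hom ≫ DerivedCategory.Q.map ((rC j).map s) :=
    R.mapDerivedCategoryFactors.hom.naturality s
  have et : (RD j).map (DerivedCategory.Q.map t) ≫ (RDQ j K).hom =
      (RDQ j F).hom ≫ DerivedCategory.Q.map ((rC j).map t) :=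
    R.mapDerivedCategoryFactors.hom.naturality t
  rw [← Category.assoc, Iso.eq_comp_inv, ← cancel_epi ((RD j).map (DerivedCategory.Q.map s)),
    ← Category.assoc, ← Functor.map_comp, IsIso.hom_inv_id_assoc, et, reassoc_of% es,
    Functor.map_comp]
  have : IsIso (DerivedCategory.Q.map ((rC j).map s)) :=
    (NatIso.isIso_map_iff R.mapDerivedCategoryFactors s).1
      (inferInstanceAs (IsIso ((RD j).map (DerivedCategory.Q.map s))))
  congr 1
  rw [← Category.assoc]
  have hinv : DerivedCategory.Q.map ((rC j).map s) ≫ DerivedCategory.Q.map σ₀ = 𝟙 _ := by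
    rw [← cancel_mono (DerivedCategory.Q.map ((rC j).map s)), Category.assoc, hQ,
      Category.comp_id, Category.id_comp]
  rw [hinv, Category.id_comp]

end Groth.Agent.Lib.Perfect.Lift
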