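import Groth.Agent.Lib.Perfect.PseudoCoh
import Groth.Agent.Lib.Perfect.LocPres
import Groth.Agent.Lib.Modules.FreeStalk

/-!
# The top cohomology of a pseudo-coherent object
-/

set_option autoImplicit false
set_option linter.style.haveILetI false

universe u

open CategoryTheory Limits AlgebraicGeometry

namespace Groth.Agent.Lib.Perfect.Top

open Groth.Agent.Lib Groth.Agent.Lib.Perfect.Basic Groth.Agent.Lib.Perfect.PseudoCoh

attribute [local instance] HasDerivedCategory.standard

variable {X : Scheme.{u}}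

/-- The kernel of an epimorphism of finite locally free modules is finite locally free. -/
theorem isFinLocFree_kernel {F G : X.Modules} (p : G ⟶ F) [Epi p] (hG : FlatMod.IsFinLocFree G)
    (hF : FlatMod.IsFinLocFree F) : FlatMod.IsFinLocFree (kernel p) := fun x => by
  obtain ⟨V₁, n, hx₁, -, ⟨eG⟩⟩ := Modules.Free.exists_free_le hG (W := ⊤) (x := x) trivial
  obtain ⟨V, k, hx, hle, ⟨eF⟩⟩ := Modules.Free.exists_free_le hF hx₁
  let R := Scheme.Modules.restrictFunctor V.ι
  let p' : R.obj G ⟶ R.obj F := R.map p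
  obtain ⟨W, hyW, hW⟩ := Modules.Free.exists_lift p' eF.inv ⟨x, hx⟩
  let R' := Scheme.Modules.restrictFunctor W.ι
  obtain ⟨ψ, hψ⟩ := hW W.ι (by simp)
  let s : R'.obj (R.obj F) ⟶ R'.obj (R.obj G) := R'.map eF.hom ≫ ψ
  have hs : s ≫ R'.map p' = 𝟙 _ := by
    change (R'.map eF.hom ≫ ψ) ≫ R'.map p' = _
    rw [Category.assoc, hψ, ← Functor.map_comp, eF.hom_inv_id, CategoryTheory.Functor.map_id]
  let eG' : R'.obj (R.obj G) ≅ FlatMod.freeMod _ n :=
    R'.mapIso (Modules.Free.freeOfLE hle eG) ≪≫ Modules.Free.restrictFreeIso W.ι n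
  let eK : R'.obj (R.obj (kernel p)) ≅ kernel (R'.map p') :=
    R'.mapIso (PreservesKernel.iso R p) ≪≫ PreservesKernel.iso R' (R.map p)
  let r : R'.obj (R.obj G) ⟶ kernel (R'.map p') :=
    kernel.lift _ (𝟙 _ - R'.map p' ≫ s) (by simp [hs])
  have hr : kernel.ι (R'.map p') ≫ r = 𝟙 _ := by
    rw [← cancel_mono (kernel.ι (R'.map p'))]
    simp [r]
  have hlf : FlatMod.IsFinLocFree (kernel (R'.map p')) :=
    Modules.FreeStalk.isFinLocFree_of_retract (kernel.ι (R'.map p') ≫ eG'.hom) (eG'.inv ≫ r)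
      (by rw [Category.assoc, eG'.hom_inv_id_assoc, hr])
  let z : (W : Scheme.{u}) := ⟨⟨x, hx⟩, hyW⟩
  obtain ⟨Z, d, hz, ⟨e⟩⟩ := TensorMod.LocFree.of_iso eK.symm hlf z
  let j := Z.ι ≫ W.ι ≫ V.ι
  exact ⟨j.opensRange, d, ⟨⟨z, hz⟩, by simp [j, z]⟩, Kaehler.LocFree.free_nhd_of_chart j
    ((Scheme.Modules.restrictFunctorComp Z.ι (W.ι ≫ V.ι)).app (kernel p) ≪≫
      (Scheme.Modules.restrictFunctor Z.ι).mapIso
        ((Scheme.Modules.restrictFunctorComp W.ι V.ι).app (kernel p)) ≪≫ e)⟩

variable {E : CochainComplex X.Modules ℤ}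

/-- The cycles in the degrees above which a strictly perfect complex is exact are locally free. -/
theorem isFinLocFree_cycles (hE : DCoh.IsStrictlyPerfect E) (m : ℤ)
    (hex : ∀ i, m < i → E.ExactAt i) :
    ∀ i, m ≤ i → FlatMod.IsFinLocFree (kernel (E.d i (i + 1))) := by
  obtain ⟨⟨a, b, hv⟩, hlf⟩ := hE
  suffices key : ∀ n : ℕ, ∀ i, m ≤ i → b < i + n → FlatMod.IsFinLocFree (kernel (E.d i (i + 1))) from
    fun i hi => key ((b - i).toNat + 1) i hi (by omega)
  intro n
  induction n with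
  | zero =>
    intro i _ hb
    exact Stupid.isFinLocFree_isZero (IsZero.of_mono (kernel.ι _) (hv i (Or.inr (by omega))))
  | succ n ih =>
    intro i hi hb
    let S := E.sc' i (i + 1) (i + 1 + 1)
    have hS : S.Exact :=
      (E.exactAt_iff' i (i + 1) (i + 1 + 1) (by simp) (by simp)).1 (hex (i + 1) (by omega))
    let p : E.X i ⟶ kernel (E.d (i + 1) (i + 1 + 1)) :=
      kernel.lift _ (E.d i (i + 1)) (E.d_comp_d _ _ _)
    haveI : Epi p := S.exact_iff_epi_kernel_lift.1 hS
    refine TensorMod.LocFree.of_iso ?_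
      (isFinLocFree_kernel p (hlf i) (ih (i + 1) (by omega) (by omega)))
    exact (kernelCompMono p (kernel.ι _)).symm ≪≫ kernelIsoOfEq (kernel.lift_ι _ _ _)

/-- `H^i` as the cokernel of the map into the cycles. -/
noncomputable def homologyIsoCokernel (E : CochainComplex X.Modules ℤ) (i : ℤ) :
    E.homology i ≅ cokernel (kernel.lift (E.d i (i + 1)) (E.d (i - 1) i) (E.d_comp_d _ _ _)) :=
  E.homologyIsoSc' (i - 1) i (i + 1) (by simp) (by simp) ≪≫
    (ShortComplex.LeftHomologyData.ofHasKernelOfHasCokernel (E.sc' (i - 1) i (i + 1))).homologyIso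

lemma exactAt_of_good {U : Scheme.{u}} {E : CochainComplex U.Modules ℤ} {L : DCoh.D U} {m n : ℤ}
    {α : DerivedCategory.Q.obj E ⟶ L} (hα : Ascent.Good m α) (hmn : m ≤ n)
    (h : ∀ i, n < i → IsZero (DCoh.HD L i)) (i : ℤ) (hi : n < i) : E.ExactAt i := by
  rw [HomologicalComplex.exactAt_iff_isZero_homology]
  have := hα.1 i (by omega)
  exact (IsZero.of_iso (h i hi) (asIso ((DerivedCategory.homologyFunctor U.Modules i).map α))).of_iso
    ((DerivedCategory.homologyFunctorFactors U.Modules i).app E).symm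

variable {K : DCoh.D X} {m : ℤ}

/-- A module which is locally a quotient of a finite free module is of finite type. -/
theorem isFT_of_locEpi {M : X.Modules}
    (h : ∀ x : X, ∃ (U : X.Opens) (n : ℕ) (q : FlatMod.freeMod (U : Scheme.{u}) n ⟶ M.restrict U.ι),
      x ∈ U ∧ Epi q) : CohB1.IsFT M := by
  choose U n q hx hq using h
  have hgen : ∀ x : X, ∃ σ : ((show SheafOfModules X.ringCatSheaf from M).over (U x)).GeneratingSections,
      σ.IsFiniteType := by
    intro x
    obtain ⟨σ, hσ⟩ := CohBasics.Affine.exists_generatingSections (M := M.restrict (U x).ι)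
      (fun i => (q x).app ⊤ (Modules.Free.gen _ i)) fun y => by
        rw [show (fun i => (M.restrict (U x).ι).presheaf.germ ⊤ y trivial
              ((q x).app ⊤ (Modules.Free.gen _ i))) =
            fun i => Modules.StalkModule.stalkMapₗ (q x) y
              ((FlatMod.freeMod _ (n x)).presheaf.germ ⊤ y trivial (Modules.Free.gen _ i)) from
          funext fun i => (Modules.StalkModule.stalkMapₗ_germ _ _ _).symm]
        rw [Set.range_comp', ← Submodule.map_span, Modules.Free.span_germ_gen, Submodule.map_top,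
          LinearMap.range_eq_top]
        exact (Modules.Stalk.epi_iff_stalk_surjective (q x)).1 (hq x) y
    let E := Scheme.Modules.overEquiv (U x)
    let F : SheafOfModules.{u} (U x : Scheme.{u}).ringCatSheaf ⥤
        SheafOfModules.{u} (X.ringCatSheaf.over (U x)) := E.inverse
    haveI : PreservesColimitsOfSize.{u, u} F :=
      Adjunction.leftAdjoint_preservesColimits.{u, u} E.symm.toAdjunction
    let e (N : X.Modules) : E.inverse.obj (N.restrict (U x).ι) ≅ SheafOfModules.over N (U x) :=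
      E.inverse.mapIso ((Scheme.Modules.overFunctorEquiv (U x)).app N).symm ≪≫
        (E.unitIso.app (SheafOfModules.over N (U x))).symm
    let η := (E.inverse.mapIso (Scheme.Modules.restrictUnitIso (U x).ι).symm ≪≫
      e (SheafOfModules.unit X.ringCatSheaf)).symm
    haveI : Finite σ.I := hσ.finite
    let τ := σ.map F η
    haveI : Finite τ.I := inferInstanceAs (Finite σ.I)
    exact ⟨τ.ofEpi (e M).hom, ⟨inferInstanceAs (Finite τ.I)⟩⟩
  choose σ hσ using hgen
  exact SheafOfModules.IsFiniteType.mk (C := X.Opens) (R := X.ringCatSheaf) (M := M)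
    ⟨{ I := X
       X := U
       coversTop := (_root_.Opens.coversTop_iff _ _).mpr
         (eq_top_iff.mpr fun x _ ↦ TopologicalSpace.Opens.mem_iSup.mpr ⟨x, hx x⟩)
       generators := σ }, by constructor; exact hσ⟩

theorem isFT_top (hK : ∀ x, PCAt m K x) (h : ∀ i, m < i → IsZero (DCoh.HD K i)) :
    CohB1.IsFT (DCoh.HD K m) := by
  refine isFT_of_locEpi fun x => ?_
  obtain ⟨U, j, _, y, E, α, hy, hE, hα⟩ := hK x
  have hv : ∀ i, m < i → IsZero (DCoh.HD ((RD j).obj K) i) := fun i hi =>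
    ((Scheme.Modules.restrictFunctor j).map_isZero (h i hi)).of_iso (Coherent.homologyIso j K i)
  have hZ := isFinLocFree_cycles hE m (exactAt_of_good hα le_rfl hv) m le_rfl
  let δ := kernel.lift (E.d m (m + 1)) (E.d (m - 1) m) (E.d_comp_d _ _ _)
  let q₁ : kernel (E.d m (m + 1)) ⟶ (DCoh.HD K m).restrict j :=
    cokernel.π δ ≫ (homologyIsoCokernel E m).inv ≫
      ((DerivedCategory.homologyFunctorFactors U.Modules m).app E).inv ≫
      (DerivedCategory.homologyFunctor U.Modules m).map α ≫ (Coherent.homologyIso j K m).hom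
  haveI : Epi q₁ := by
    have := hα.2
    exact epi_comp' inferInstance (epi_comp' inferInstance (epi_comp' inferInstance
      (epi_comp' this inferInstance)))
  obtain ⟨V, n, hyV, -, ⟨eZ⟩⟩ := Modules.Free.exists_free_le hZ (W := ⊤) (x := y) trivial
  let W : X.Opens := (V.ι ≫ j).opensRange
  let k := (V.ι ≫ j).isoOpensRange.inv
  let R := Scheme.Modules.restrictFunctor V.ι
  let S := Scheme.Modules.restrictFunctor k
  haveI : PreservesColimitsOfSize.{0, 0} R :=
    (Scheme.Modules.restrictAdjunction V.ι).leftAdjoint_preservesColimits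
  haveI : PreservesColimitsOfSize.{0, 0} S :=
    (Scheme.Modules.restrictAdjunction k).leftAdjoint_preservesColimits
  let q₂ : FlatMod.freeMod V n ⟶ R.obj ((Scheme.Modules.restrictFunctor j).obj (DCoh.HD K m)) :=
    eZ.inv ≫ R.map q₁
  haveI : Epi q₂ := epi_comp _ _
  refine ⟨W, n, (Modules.Free.restrictFreeIso k n).inv ≫ S.map q₂ ≫
    S.map ((Scheme.Modules.restrictFunctorComp V.ι j).inv.app _) ≫
    (Scheme.Modules.restrictFunctorComp k (V.ι ≫ j)).inv.app _ ≫
    (Scheme.Modules.restrictFunctorCongr (Scheme.Hom.isoOpensRange_inv_comp (V.ι ≫ j))).hom.app _,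
    ⟨⟨y, hyV⟩, by simpa using hy⟩, ?_⟩
  exact epi_comp' inferInstance (epi_comp' inferInstance (epi_comp' inferInstance
    (epi_comp' inferInstance inferInstance)))

theorem isFP_top (hK : ∀ x, PCAt m K x) (h : ∀ i, m + 1 < i → IsZero (DCoh.HD K i)) :
    CohB1.IsFP (DCoh.HD K (m + 1)) := by
  refine LocPres.isFP_of_locPres fun x => ?_
  obtain ⟨U, j, _, y, E, α, hy, hE, hα⟩ := hK x
  have hv : ∀ i, m + 1 < i → IsZero (DCoh.HD ((RD j).obj K) i) := fun i hi =>
    ((Scheme.Modules.restrictFunctor j).map_isZero (h i hi)).of_iso (Coherent.homologyIso j K i)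
  have hZ := isFinLocFree_cycles hE (m + 1) (exactAt_of_good hα (by omega) hv) (m + 1) le_rfl
  have := hα.1 (m + 1) (by omega)
  let δ := kernel.lift (E.d (m + 1) (m + 1 + 1)) (E.d (m + 1 - 1) (m + 1)) (E.d_comp_d _ _ _)
  obtain ⟨V₁, a, hy₁, -, ⟨eZ⟩⟩ := Modules.Free.exists_free_le hZ (W := ⊤) (x := y) trivial
  obtain ⟨V, b, hyV, hle, ⟨eX⟩⟩ := Modules.Free.exists_free_le (hE.2 (m + 1 - 1)) hy₁
  let R := Scheme.Modules.restrictFunctor V.ι
  haveI : PreservesColimitsOfSize.{0, 0} R :=
    (Scheme.Modules.restrictAdjunction V.ι).leftAdjoint_preservesColimits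
  let eZ' := Modules.Free.freeOfLE hle eZ
  refine ⟨V, V.ι ≫ j, inferInstance, ⟨y, hyV⟩, a, b, eX.inv ≫ R.map δ ≫ eZ'.hom,
    by simpa using hy, ⟨?_⟩⟩
  exact (Scheme.Modules.restrictFunctorComp V.ι j).app _ ≪≫
    R.mapIso ((Coherent.homologyIso j K (m + 1)).symm ≪≫
      (asIso ((DerivedCategory.homologyFunctor U.Modules (m + 1)).map α)).symm ≪≫
      (DerivedCategory.homologyFunctorFactors U.Modules (m + 1)).app E ≪≫
      homologyIsoCokernel E (m + 1)) ≪≫
    PreservesCokernel.iso R δ ≪≫ cokernel.mapIso (R.map δ) _ eX eZ' (by simp)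

end Groth.Agent.Lib.Perfect.Top
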