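import Groth.Agent.Lib.DR.Descent
import Groth.Agent.Lib.DR.Perfect
import Groth.Agent.Lib.Perfect.Top
import Groth.Agent.Lib.Perfect.Lift
import Groth.Agent.Lib.Perfect.Coherent
import Groth.Agent.Lib.Perfect.TildeFT
import Groth.Agent.Lib.Modules.SupportOps
import Groth.Agent.S12451

/-!
# Pseudo-coherence and perfectness of `M~` in `D(Spec R)`
-/

set_option autoImplicit false
set_option linter.style.haveILetI false

universe u

open CategoryTheory CategoryTheory.Limits CategoryTheory.Pretriangulated AlgebraicGeometry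
open Groth.Agent.Lib
open Groth.Agent.Lib.DR Groth.Agent.Lib.DR.Basic Groth.Agent.Lib.DR.FiniteComplex
open Groth.Agent.Lib.DR.PseudoCoherent Groth.Agent.Lib.DR.Representative
open Groth.Agent.Lib.DR.TopCohomology Groth.Agent.Lib.DR.TorAmp

attribute [local instance] HasDerivedCategory.standard

namespace Groth.Agent.Lib.Perfect.TildeD

open Groth.Agent.Lib.Perfect.Basic Groth.Agent.Lib.Perfect.PseudoCoh

variable (R : CommRingCat.{u})

variable [PreservesFiniteLimits (tilde.functor R)]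

/-- `M ↦ M~` on derived categories. -/
noncomputable abbrev T : Dual.D R ⥤ DCoh.D (Spec R) :=
  DCoh.tildeD (R)

variable {R}

omit [PreservesFiniteLimits (tilde.functor R)] in
lemma isZero_of_tilde {N : ModuleCat.{u} R} (h : IsZero ((tilde.functor R).obj N)) : IsZero N :=
  haveI : (QCoh.Tilde.specΓ R).Additive := QCoh.Tilde.specΓ_additive
  (Functor.map_isZero (QCoh.Tilde.specΓ R) h).of_iso
    ((QCoh.Tilde.sectionsTildeIso (R := R)).app N)

/-- `H^i(M~) = H^i(M)~`. -/
noncomputable def HIso (K : Dual.D R) (i : ℤ) :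
    DCoh.HD ((T R).obj K) i ≅ (tilde.functor R).obj ((DerivedCategory.homologyFunctor (ModuleCat.{u} R) i).obj K) :=
  let e := DerivedCategory.Q.objObjPreimageIso K
  (DerivedCategory.homologyFunctor _ i).mapIso ((T R).mapIso e.symm ≪≫ ExactPush.mapQ (tilde.functor R) _) ≪≫
    (DerivedCategory.homologyFunctorFactors _ i).app _ ≪≫
    ((DerivedCategory.Q.objPreimage K).sc i).mapHomologyIso (tilde.functor R) ≪≫
    (tilde.functor R).mapIso (((DerivedCategory.homologyFunctorFactors (ModuleCat.{u} R) i).app _).symm ≪≫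
      (DerivedCategory.homologyFunctor (ModuleCat.{u} R) i).mapIso e)

lemma isFinLocFree_of_charts {X : Scheme.{u}} {M : X.Modules}
    (h : ∀ x : X, ∃ (U : Scheme.{u}) (j : U ⟶ X) (_ : IsOpenImmersion j) (y : U),
      j y = x ∧ FlatMod.IsFinLocFree ((Scheme.Modules.restrictFunctor j).obj M)) :
    FlatMod.IsFinLocFree M := fun x => by
  obtain ⟨U, j, _, y, hy, hM⟩ := h x
  obtain ⟨V, n, hyV, ⟨e⟩⟩ := hM y
  exact ⟨(V.ι ≫ j).opensRange, n, ⟨⟨y, hyV⟩, by simpa using hy⟩,
    Kaehler.LocFree.free_nhd_of_chart (V.ι ≫ j)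
      ((Scheme.Modules.restrictFunctorComp V.ι j).app M ≪≫ e)⟩

omit [PreservesFiniteLimits (tilde.functor R)] in
/-- Strictly perfect from finite projective terms. -/
lemma isStrictlyPerfect_tilde {E : DRing.Cx R} {a b : ℤ} (hv : ∀ i, i < a ∨ b < i → IsZero (E.X i))
    (hp : ∀ i, fproj R (E.X i)) :
    DCoh.IsStrictlyPerfect (((tilde.functor R).mapHomologicalComplex (ComplexShape.up ℤ)).obj E) :=
  ⟨⟨a, b, fun i hi => (tilde.functor R).map_isZero (hv i hi)⟩,
    fun i => (S12451.result (R := R) (E.X i)).2 (hp i)⟩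

/-- `M` pseudo-coherent gives `M~` pseudo-coherent. -/
theorem pcAt_of_pcn {m : ℤ} {K : Dual.D R} (h : PCn (fproj R) m K) (x : Spec (R)) :
    PCAt m ((T R).obj K) x := by
  obtain ⟨E, a, b, f, hE, hp, Z, g, k, hd, hZ⟩ := h
  let α := (ExactPush.mapQ (tilde.functor R) E).inv ≫ (T R).map f
  have hT : Ascent.Good m ((T R).map f) :=
    (Ascent.good_iff m _ ((T R).map_distinguished _ hd)).2 fun i hi => by
      haveI : ((T R).obj Z).IsLE (m - 1) := ExactPush.isLE_map (tilde.functor R) hZ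
      exact DerivedCategory.isZero_of_isLE ((T R).obj Z) (m - 1) i (by omega)
  exact ⟨_, 𝟙 _, inferInstance, x, (rC (𝟙 _)).obj _, (RDQ (𝟙 _) _).inv ≫ (RD (𝟙 _)).map α, by simp,
    isStrictlyPerfect_map _ (isStrictlyPerfect_tilde hE hp),
    (Ascent.Good.of_isIso m _).comp (good_restrict _ ((Ascent.Good.of_isIso m _).comp hT))⟩

omit [PreservesFiniteLimits (tilde.functor R)] in
/-- Killing the top cohomology by a free module. -/
theorem exists_cone_top {X : Dual.D R} (b : ℤ) (hb : X.IsLE b) [Module.Finite R (Dual.HD R X b)] :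
    ∃ (F : ModuleCat.{u} R) (f : (DerivedCategory.singleFunctor (ModuleCat.{u} R) b).obj F ⟶ X),
      ff R F ∧ ConeLE f (b - 1) := by
  obtain ⟨F, π, hF, hπ⟩ := exists_free_cover (A := R) (Dual.HD R X b)
  obtain ⟨P, M, p, g, c, hd, hP, ⟨eM⟩, -⟩ := exists_peel_top X b hb
  let S := DerivedCategory.singleFunctor (ModuleCat.{u} R) b
  have : Projective F := projective_of_ff _ hF
  obtain ⟨E, hE, hEp, ⟨eE⟩⟩ := bdd_single good_ff hF b
  have := isKProjective_of_bounds projective_of_ff (fun i hi => hE i (Or.inr hi)) hEp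
  let u : S.obj F ⟶ S.obj M := S.map (π ≫ eM.hom)
  have hz : u ≫ c = 0 := by
    rw [← cancel_epi eE.hom, comp_zero]
    exact hom_eq_zero_of_isKProjective (n := b) (fun i hi => hE i (Or.inl hi))
      (DerivedCategory.TStructure.t.isLE_shift P (b - 1) 1 (b - 1 - 1) (by lia) |> fun h' =>
        isLE_mono h' (by lia)) _
  obtain ⟨f, hf⟩ : ∃ f : S.obj F ⟶ X, u = f ≫ g := Triangle.coyoneda_exact₃ _ hd u hz
  refine ⟨F, f, hF, ?_⟩
  rw [coneLE_iff]
  refine ⟨fun j hj => ⟨0, (DerivedCategory.isZero_of_isLE (S.obj F) b j (by lia)).eq_of_src _ _,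
    (DerivedCategory.isZero_of_isLE X b j (by lia)).eq_of_src _ _⟩, ?_⟩
  rw [sub_add_cancel]
  let H := DerivedCategory.homologyFunctor (ModuleCat.{u} R) b
  have : Mono (H.map g) :=
    (DerivedCategory.HomologySequence.mono_homologyMap_mor₂_iff _ hd b).2
      ((DerivedCategory.isZero_of_isLE P (b - 1) b (by lia)).eq_of_src _ _)
  have : Epi (π ≫ eM.hom) := by
    have : Epi π := (ModuleCat.epi_iff_surjective π).2 hπ
    infer_instance
  have hu : Epi (H.map u) := by
    let iso := DerivedCategory.singleFunctorCompHomologyFunctorIso (ModuleCat.{u} R) b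
    have : H.map u = (iso.app F).hom ≫ (π ≫ eM.hom) ≫ (iso.app M).inv := by
      rw [← Category.assoc, Iso.eq_comp_inv]
      exact iso.hom.naturality (π ≫ eM.hom)
    rw [this]
    infer_instance
  constructor
  intro W a a' haa
  have hs : Function.Surjective (H.map u) := (ModuleCat.epi_iff_surjective _).1 hu
  have hm : Function.Injective (H.map g) := (ModuleCat.mono_iff_injective _).1 inferInstance
  ext x
  obtain ⟨y, hy⟩ := hs (H.map g x)
  have hx : H.map f y = x := hm (by
    rw [← CategoryTheory.comp_apply, ← H.map_comp, ← hf, hy])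
  rw [← hx, ← CategoryTheory.comp_apply, haa, CategoryTheory.comp_apply]

/-- `M~` pseudo-coherent gives `M` bounded above. -/
theorem exists_isLE {m : ℤ} {K : Dual.D R} (h : ∀ x, PCAt m ((T R).obj K) x) : ∃ b, K.IsLE b := by
  let X := Spec (R)
  have h' : ∀ x : X, ∃ (V : X.Opens) (b : ℤ), x ∈ V ∧
      ∀ i, b < i → IsZero ((DCoh.HD ((T R).obj K) i).restrict V.ι) := fun x => by
    obtain ⟨U, j, _, y, E, α, hy, ⟨⟨a, b, hv⟩, -⟩, hα⟩ := h x
    refine ⟨j.opensRange, max b m, ⟨y, hy⟩, fun i hi => ?_⟩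
    have := hα.1 i (lt_of_le_of_lt (le_max_right _ _) hi)
    have hz : IsZero (DCoh.HD ((RD j).obj ((T R).obj K)) i) :=
      IsZero.of_iso (((HomologicalComplex.ExactAt.of_isZero
        (hv i (Or.inr (lt_of_le_of_lt (le_max_left _ _) hi)))).isZero_homology).of_iso
        ((DerivedCategory.homologyFunctorFactors U.Modules i).app E))
        (asIso ((DerivedCategory.homologyFunctor U.Modules i).map α)).symm
    have hz' := (Scheme.Modules.restrictFunctor j.isoOpensRange.inv).map_isZero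
      (hz.of_iso (Coherent.homologyIso j ((T R).obj K) i).symm)
    exact hz'.of_iso
      (((Scheme.Modules.restrictFunctorCongr (Scheme.Hom.isoOpensRange_inv_comp j)).app _).symm ≪≫
        (Scheme.Modules.restrictFunctorComp j.isoOpensRange.inv j).app _)
  choose V b hx hz using h'
  obtain ⟨t, ht⟩ := CompactSpace.isCompact_univ.elim_finite_subcover (fun x => (V x : Set X))
    (fun x => (V x).2) (fun x _ => Set.mem_iUnion.2 ⟨x, hx x⟩)
  obtain ⟨B, hB⟩ := (t.finite_toSet.image b).bddAbove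
  refine ⟨B, (DerivedCategory.isLE_iff K B).2 fun i hi => isZero_of_tilde ?_⟩
  refine IsZero.of_iso ?_ (HIso K i).symm
  refine Modules.Local.isZero_of_restrict (fun x : t => V x.1) ?_ fun x => hz x.1 i ?_
  · refine eq_top_iff.2 fun z _ => ?_
    obtain ⟨x, hxt, hzx⟩ := Set.mem_iUnion₂.1 (ht (Set.mem_univ z))
    exact TopologicalSpace.Opens.mem_iSup.2 ⟨⟨x, hxt⟩, hzx⟩
  · have := hB ⟨x.1, x.2, rfl⟩
    omega

/-- `M~` pseudo-coherent gives `M` pseudo-coherent. -/
theorem pcn_of_pcAt {m : ℤ} {K : Dual.D R} (h : ∀ x, PCAt m ((T R).obj K) x) : PCn (ff R) m K := by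
  obtain ⟨b, hb⟩ := exists_isLE h
  obtain ⟨k, hk⟩ : ∃ k : ℕ, b + 1 ≤ m + k := ⟨(b + 1 - m).toNat, by lia⟩
  induction k generalizing K b with
  | zero => exact pcn_of_isLE good_ff (isLE_mono hb (by lia))
  | succ k ih =>
    by_cases hbm : b < m
    · exact pcn_of_isLE good_ff (isLE_mono hb (by lia))
    haveI : Module.Finite R (Dual.HD R K b) := by
      haveI : SheafOfModules.IsFiniteType (R := (Spec R).ringCatSheaf) (DCoh.HD ((T R).obj K) b) :=
        Top.isFT_top (fun x => (h x).mono' (by omega)) fun i hi => ?_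
      refine TildeFT.finite_of_isFT (R := R) _ (Modules.SupportOps.isFT_of_iso (HIso K b))
      haveI : ((T R).obj K).IsLE b := ExactPush.isLE_map (tilde.functor R) hb
      exact DerivedCategory.isZero_of_isLE _ b i hi
    obtain ⟨F, f, hF, Z, q, r, hd, hZ⟩ := exists_cone_top (X := K) b hb
    have hS := bdd_single good_ff hF b
    refine PCn.ext good_ff projective_of_ff _ hd (hS.pcn m) (ih (K := Z) (fun x => ?_) (b - 1) hZ (by lia))
    exact pcAt₃ ((T R).map_distinguished _ hd)
      (pcAt_of_pcn ((pcn_ff_iff_fproj _ _).1 (hS.pcn (m + 1))) x) (h x)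

/-- In low degrees, a bounded above complex of locally free modules locally isomorphic to a strictly
perfect one has locally free cokernels. -/
theorem isFinLocFree_cycles_of_acyclic {X : Scheme.{u}} {D : CochainComplex X.Modules ℤ} (b : ℤ)
    (hv : ∀ i, b < i → IsZero (D.X i)) (hlf : ∀ i, FlatMod.IsFinLocFree (D.X i))
    (hex : ∀ i, D.ExactAt i) (i : ℤ) : FlatMod.IsFinLocFree (kernel (D.d i (i + 1))) := by
  suffices key : ∀ n : ℕ, ∀ i, b < i + n → FlatMod.IsFinLocFree (kernel (D.d i (i + 1))) from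
    key ((b - i).toNat + 1) i (by omega)
  intro n
  induction n with
  | zero =>
    intro i hb
    exact Stupid.isFinLocFree_isZero (IsZero.of_mono (kernel.ι _) (hv i (by omega)))
  | succ n ih =>
    intro i hi
    let S := D.sc' i (i + 1) (i + 1 + 1)
    have hS : S.Exact := (D.exactAt_iff' i (i + 1) (i + 1 + 1) (by simp) (by simp)).1 (hex (i + 1))
    let p : D.X i ⟶ kernel (D.d (i + 1) (i + 1 + 1)) :=
      kernel.lift _ (D.d i (i + 1)) (D.d_comp_d _ _ _)
    haveI : Epi p := S.exact_iff_epi_kernel_lift.1 hS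
    refine TensorMod.LocFree.of_iso ?_
      (Top.isFinLocFree_kernel p (hlf i) (ih (i + 1) (by omega)))
    exact (kernelCompMono p (kernel.ι _)).symm ≪≫ kernelIsoOfEq (kernel.lift_ι _ _ _)

/-- Cokernels of an acyclic complex. -/
theorem isFinLocFree_coker_of_acyclic {X : Scheme.{u}} {D : CochainComplex X.Modules ℤ} (b : ℤ)
    (hv : ∀ i, b < i → IsZero (D.X i)) (hlf : ∀ i, FlatMod.IsFinLocFree (D.X i))
    (hex : ∀ i, D.ExactAt i) (c : ℤ) : FlatMod.IsFinLocFree (cokernel (D.d (c - 1) c)) := by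
  let p : D.X c ⟶ kernel (D.d (c + 1) (c + 1 + 1)) :=
    kernel.lift _ (D.d c (c + 1)) (D.d_comp_d _ _ _)
  haveI : Epi p := (D.sc' c (c + 1) (c + 1 + 1)).exact_iff_epi_kernel_lift.1
    ((D.exactAt_iff' c (c + 1) (c + 1 + 1) (by simp) (by simp)).1 (hex (c + 1)))
  have h0 : D.d (c - 1) c ≫ p = 0 := by rw [← cancel_mono (kernel.ι _)]; simp [p]
  let φ : ShortComplex.mk (D.d (c - 1) c) p h0 ⟶ ShortComplex.mk (D.d (c - 1) c) (D.d c (c + 1)) (D.d_comp_d _ _ _) :=
    { τ₁ := 𝟙 _, τ₂ := 𝟙 _, τ₃ := kernel.ι _, comm₁₂ := by simp, comm₂₃ := by simp [p] }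
  haveI : Epi φ.τ₁ := inferInstanceAs (Epi (𝟙 (D.X (c - 1))))
  haveI : IsIso φ.τ₂ := inferInstanceAs (IsIso (𝟙 (D.X c)))
  haveI : Mono φ.τ₃ := inferInstanceAs (Mono (kernel.ι (D.d (c + 1) (c + 1 + 1))))
  have hex' := (ShortComplex.exact_iff_of_epi_of_isIso_of_mono φ).2
    ((D.exactAt_iff' (c - 1) c (c + 1) (by simp) (by simp)).1 (hex c))
  exact TensorMod.LocFree.of_iso
    (hex'.gIsCokernel.coconePointUniqueUpToIso (colimit.isColimit _))
    (isFinLocFree_cycles_of_acyclic b hv hlf hex (c + 1))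

/-- Perfectness of `M~` gives that of `M`. -/
theorem pf_of_perfAt {K : Dual.D R} (h : DCoh.IsPerfect ((T R).obj K)) : Perfect.Pf K := by
  let X := Spec (R)
  have hp := (Triangle.isPerfect_iff _).1 h
  have hpc : ∀ m, PCn (ff R) m K := fun m => pcn_of_pcAt fun x => by
    obtain ⟨U, j, _, y, E, hy, hE, ⟨e⟩⟩ := hp x
    exact ⟨U, j, inferInstance, y, E, e.inv, hy, hE, Ascent.Good.of_isIso m _⟩
  obtain ⟨a, b, hga, hlb⟩ := Coherent.bounded_of_isPerfect h
  have ha : K.IsGE a := (DerivedCategory.isGE_iff K a).2 fun i hi =>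
    isZero_of_tilde ((DerivedCategory.isZero_of_isGE _ a i hi).of_iso (HIso K i).symm)
  have hb : K.IsLE b := (DerivedCategory.isLE_iff K b).2 fun i hi =>
    isZero_of_tilde ((DerivedCategory.isZero_of_isLE _ b i hi).of_iso (HIso K i).symm)
  obtain ⟨E, hE, hEp, ⟨eE⟩⟩ := ba_ff_of_forall hpc hb
  let G := ((tilde.functor R).mapHomologicalComplex (ComplexShape.up ℤ)).obj E
  have hlG : ∀ i, FlatMod.IsFinLocFree (G.X i) := fun i =>
    (S12451.result (R := R) (E.X i)).2 (fproj_of_ff _ (hEp i))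
  have loc : ∀ x : X, ∃ (U : Scheme.{u}) (j : U ⟶ X) (_ : IsOpenImmersion j) (y : U) (c₀ : ℤ),
      j y = x ∧ ∀ c, c < c₀ →
        FlatMod.IsFinLocFree ((Scheme.Modules.restrictFunctor j).obj (cokernel (G.d (c - 1) c))) := by
    intro x
    obtain ⟨U, j, _, y, P, hy, hP, ⟨e⟩⟩ := hp x
    let g : DerivedCategory.Q.obj P ≅ DerivedCategory.Q.obj ((rC j).obj G) :=
      e.symm ≪≫ (RD j).mapIso ((T R).mapIso eE.symm ≪≫ ExactPush.mapQ (tilde.functor R) E) ≪≫ RDQ j G
    obtain ⟨V, k, _, v, φ, hv, hφ⟩ := Lift.exists_map hP g.hom y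
    have : IsIso (DerivedCategory.Q.map φ) := by
      have h1 : DerivedCategory.Q.map φ = (RDQ k P).inv ≫ (RD k).map g.hom ≫ (RDQ k _).hom := by
        rw [hφ]; simp
      rw [h1]; infer_instance
    obtain ⟨⟨p, q, hz⟩, hlP⟩ := isStrictlyPerfect_map k hP
    let D := CochainComplex.mappingCone φ
    have hex : ∀ i, D.ExactAt i := fun i => by
      rw [HomologicalComplex.exactAt_iff_isZero_homology]
      have hd := DerivedCategory.mappingCone_triangle_distinguished φ
      haveI : IsIso (DerivedCategory.Q.mapTriangle.obj (CochainComplex.mappingCone.triangle φ)).mor₁ :=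
        inferInstanceAs (IsIso (DerivedCategory.Q.map φ))
      exact ((DerivedCategory.homologyFunctor V.Modules i).map_isZero
        ((Triangle.isZero₃_iff_isIso₁ _ hd).2 inferInstance)).of_iso
          ((DerivedCategory.homologyFunctorFactors V.Modules i).app D).symm
    have hlK : ∀ i, FlatMod.IsFinLocFree (((rC k).obj ((rC j).obj G)).X i) := fun i =>
      TensorMod.LocFree.isFinLocFree_restrict k (TensorMod.LocFree.isFinLocFree_restrict j (hlG i))
    have hlD : ∀ i, FlatMod.IsFinLocFree (D.X i) := fun i => TensorMod.LocFree.of_iso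
      (HomologicalComplex.homotopyCofiber.XIsoBiprod φ i (i + 1) rfl).symm
      (Triangle.isFinLocFree_biprod (hlP _) (hlK _))
    have hvD : ∀ i, max q b < i → IsZero (D.X i) := fun i hi => by
      refine IsZero.of_iso ?_ (HomologicalComplex.homotopyCofiber.XIsoBiprod φ i (i + 1) rfl)
      refine (biprod_isZero_iff _ _).2 ⟨hz _ (Or.inr (by omega)), ?_⟩
      exact (Scheme.Modules.restrictFunctor k).map_isZero ((Scheme.Modules.restrictFunctor j).map_isZero
        ((tilde.functor R).map_isZero (hE i (by omega))))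
    refine ⟨V, k ≫ j, inferInstance, v, p - 1, by simp [hv, hy], fun c hc => ?_⟩
    have hiso : ∀ i, i < p - 1 → IsIso ((CochainComplex.mappingCone.inr φ).f i) := fun i hi => by
      refine ⟨CochainComplex.mappingCone.snd φ |>.v i i (add_zero i),
        CochainComplex.mappingCone.inr_f_snd_v φ i, ?_⟩
      have h0 : (CochainComplex.mappingCone.fst φ).1.v i (i + 1) rfl = 0 :=
        (hz (i + 1) (Or.inl (by omega))).eq_of_tgt _ _
      have := CochainComplex.mappingCone.id_X φ i (i + 1) rfl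
      rw [h0, zero_comp, zero_add] at this
      exact this
    haveI := hiso (c - 1) (by omega)
    haveI := hiso c hc
    let R := Scheme.Modules.restrictFunctor (k ≫ j)
    let eK : cokernel (((rC k).obj ((rC j).obj G)).d (c - 1) c) ≅ cokernel (D.d (c - 1) c) :=
      cokernel.mapIso _ _ (asIso ((CochainComplex.mappingCone.inr φ).f (c - 1)))
        (asIso ((CochainComplex.mappingCone.inr φ).f c))
        ((CochainComplex.mappingCone.inr φ).comm (c - 1) c).symm
    haveI : PreservesColimitsOfSize.{0, 0} (Scheme.Modules.restrictFunctor j) :=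
      (Scheme.Modules.restrictAdjunction j).leftAdjoint_preservesColimits
    haveI : PreservesColimitsOfSize.{0, 0} (Scheme.Modules.restrictFunctor k) :=
      (Scheme.Modules.restrictAdjunction k).leftAdjoint_preservesColimits
    refine TensorMod.LocFree.of_iso ?_ (isFinLocFree_coker_of_acyclic _ hvD hlD hex c)
    exact eK.symm ≪≫ (PreservesCokernel.iso (Scheme.Modules.restrictFunctor k) _).symm ≪≫
      (Scheme.Modules.restrictFunctor k).mapIso
        (PreservesCokernel.iso (Scheme.Modules.restrictFunctor j) _).symm ≪≫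
      ((Scheme.Modules.restrictFunctorComp k j).app _).symm
  choose U j hj y c₀ hy hc using loc
  obtain ⟨t, ht⟩ := CompactSpace.isCompact_univ.elim_finite_subcover
    (fun x => ((j x).opensRange : Set X)) (fun x => (j x).opensRange.2)
    (fun x _ => Set.mem_iUnion.2 ⟨x, y x, hy x⟩)
  obtain ⟨C₀, hC₀⟩ := (t.finite_toSet.image c₀).bddBelow
  let c := min a (C₀ - 1)
  have hlf : FlatMod.IsFinLocFree (cokernel (G.d (c - 1) c)) := isFinLocFree_of_charts fun z => by
    obtain ⟨x, hxt, w, hw⟩ := Set.mem_iUnion₂.1 (ht (Set.mem_univ z))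
    refine ⟨_, j x, inferInstance, w, hw, hc x c ?_⟩
    have := hC₀ ⟨x, hxt, rfl⟩
    omega
  let Q : ModuleCat.{u} R := ModuleCat.of R (E.X c ⧸ LinearMap.range (E.d (c - 1) c).hom)
  have hQ : Module.Finite R Q ∧ Module.Projective R Q :=
    (S12451.result (R := R) Q).1 (TensorMod.LocFree.of_iso
      ((PreservesCokernel.iso (tilde.functor R) (E.d (c - 1) c)).symm ≪≫
        (tilde.functor R).mapIso (ModuleCat.cokernelIsoRangeQuotient (E.d (c - 1) c))) hlf)
  exact ⟨c, b, (bdd_of_opcycles good_fproj hE (fun i _ => fproj_of_ff _ (hEp i))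
    (isGE_mono (isGE_of_iso' eE.symm ha) (min_le_left _ _)) hQ).of_iso eE⟩

/-- `M` perfect gives `M~` perfect. -/
theorem isPerfect_of_pf {K : Dual.D R} (h : Perfect.Pf K) : DCoh.IsPerfect ((T R).obj K) := by
  obtain ⟨a, b, E, hE, hp, ⟨e⟩⟩ := h
  refine (Triangle.isPerfect_iff _).2 fun x =>
    ⟨_, 𝟙 _, inferInstance, x, (rC (𝟙 _)).obj _, by simp,
      isStrictlyPerfect_map _ (isStrictlyPerfect_tilde hE hp), ⟨?_⟩⟩
  exact (RD (𝟙 _)).mapIso ((T R).mapIso e.symm ≪≫ ExactPush.mapQ (tilde.functor R) E) ≪≫ RDQ _ _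

end Groth.Agent.Lib.Perfect.TildeD
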