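import Groth.Prelude.Def_DCoh2
import Groth.Agent.Lib.Modules.Local
import Groth.Agent.Lib.TensorMod.LocFree
import Mathlib.Algebra.Homology.DerivedCategory.ExactFunctor

/-!
# Restriction of complexes along open immersions, strictly perfect complexes
-/

set_option autoImplicit false
set_option linter.style.haveILetI false

universe u

open CategoryTheory Limits AlgebraicGeometry

namespace Groth.Agent.Lib.Perfect.Basic

attribute [local instance] HasDerivedCategory.standard

variable {X U V : Scheme.{u}}

/-- Restriction of complexes along an open immersion. -/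
noncomputable abbrev rC (j : U ⟶ X) [IsOpenImmersion j] :
    CochainComplex X.Modules ℤ ⥤ CochainComplex U.Modules ℤ :=
  (Scheme.Modules.restrictFunctor j).mapHomologicalComplex (ComplexShape.up ℤ)

/-- Restriction on derived categories. -/
noncomputable abbrev RD (j : U ⟶ X) [IsOpenImmersion j] : DCoh.D X ⥤ DCoh.D U :=
  (Scheme.Modules.restrictFunctor j).mapDerivedCategory

/-- `RD` is computed by restriction of complexes. -/
noncomputable def RDQ (j : U ⟶ X) [IsOpenImmersion j] (F : CochainComplex X.Modules ℤ) :
    (RD j).obj (DerivedCategory.Q.obj F) ≅ DerivedCategory.Q.obj ((rC j).obj F) :=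
  (Scheme.Modules.restrictFunctor j).mapDerivedCategoryFactors.app F

/-- Composition of restrictions of complexes. -/
noncomputable def rCComp (j' : V ⟶ U) (j : U ⟶ X) [IsOpenImmersion j'] [IsOpenImmersion j] :
    rC (j' ≫ j) ≅ rC j ⋙ rC j' :=
  NatIso.ofComponents (fun F => HomologicalComplex.Hom.isoOfComponents
      (fun i => (Scheme.Modules.restrictFunctorComp j' j).app (F.X i))
      (fun i k _ => ((Scheme.Modules.restrictFunctorComp j' j).hom.naturality (F.d i k)).symm))
    fun φ => HomologicalComplex.hom_ext _ _ fun i =>
      (Scheme.Modules.restrictFunctorComp j' j).hom.naturality (φ.f i)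

/-- Restriction along equal open immersions. -/
noncomputable def rCCongr {j j' : U ⟶ X} [IsOpenImmersion j] [IsOpenImmersion j'] (h : j = j') :
    rC j ≅ rC j' :=
  NatIso.ofComponents (fun F => HomologicalComplex.Hom.isoOfComponents
      (fun i => (Scheme.Modules.restrictFunctorCongr h).app (F.X i))
      (fun i k _ => ((Scheme.Modules.restrictFunctorCongr h).hom.naturality (F.d i k)).symm))
    fun φ => HomologicalComplex.hom_ext _ _ fun i =>
      (Scheme.Modules.restrictFunctorCongr h).hom.naturality (φ.f i)

/-- Restriction along the identity. -/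
noncomputable def rCId (X : Scheme.{u}) : rC (𝟙 X) ≅ 𝟭 _ :=
  NatIso.ofComponents (fun F => HomologicalComplex.Hom.isoOfComponents
      (fun i => Scheme.Modules.restrictFunctorId.app (F.X i))
      (fun i k _ => (Scheme.Modules.restrictFunctorId.hom.naturality (F.d i k)).symm))
    fun φ => HomologicalComplex.hom_ext _ _ fun i =>
      Scheme.Modules.restrictFunctorId.hom.naturality (φ.f i)

lemma isStrictlyPerfect_map (j : U ⟶ X) [IsOpenImmersion j] {E : CochainComplex X.Modules ℤ}
    (hE : DCoh.IsStrictlyPerfect E) : DCoh.IsStrictlyPerfect ((rC j).obj E) := by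
  obtain ⟨⟨a, b, h⟩, hlf⟩ := hE
  exact ⟨⟨a, b, fun i hi => (Scheme.Modules.restrictFunctor j).map_isZero (h i hi)⟩,
    fun i => TensorMod.LocFree.isFinLocFree_restrict j (hlf i)⟩

end Groth.Agent.Lib.Perfect.Basic
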