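import Groth.Agent.Lib.Perfect.Pullback
import Groth.Agent.Lib.DerivedOX.KFlatPullback
import Groth.Agent.Lib.DerivedOX.BifunctorMap
import Groth.Agent.Lib.DerivedOX.LeftExists
import Groth.Agent.Lib.TensorMod.Pullback
import Groth.Agent.Lib.TensorCx.Vanish
import Mathlib.Data.Int.Interval

/-!
# The derived tensor product of perfect objects is perfect
-/

set_option autoImplicit false
set_option linter.style.haveILetI false

universe u

open CategoryTheory Limits AlgebraicGeometry HomologicalComplex MonoidalCategory TopologicalSpace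

namespace Groth.Agent.Lib.Perfect.Tensor

open Groth.Agent.Lib.DerivedOX Groth.Agent.Lib.Modules StalkModule
open Groth.Agent.Lib.Perfect.Basic Groth.Agent.Lib.Perfect.Triangle Groth.Agent.Lib.Perfect.Pullback
open Groth.Agent.Lib.DerivedOX.Bifunctor (Fib)

attribute [local instance] HasDerivedCategory.standard

variable {X Y : Scheme.{u}}

/-- The stalks of a finite locally free module are projective. -/
lemma projective_stalk {M : X.Modules} (hM : FlatMod.IsFinLocFree M) (x : X) :
    Projective ((stalkModFunctor X x).obj M) := by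
  obtain ⟨U, n, hx, ⟨e⟩⟩ := hM x
  let y : (U : Scheme.{u}) := ⟨x, hx⟩
  haveI : Module.Free ((U : Scheme.{u}).presheaf.stalk y)
      ((FlatMod.freeMod (↑U) n).presheaf.stalk y) :=
    Module.Free.of_basis (FreeStalk.stalkBasis _ n y)
  have h1 : Projective ((stalkModFunctor (↑U) y).obj (M.restrict U.ι)) :=
    Projective.of_iso ((stalkModFunctor (↑U) y).mapIso e.symm)
      ((IsProjective.iff_projective (R := (U : Scheme.{u}).presheaf.stalk y)
        ((FlatMod.freeMod (↑U) n).presheaf.stalk y)).1 inferInstance)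
  have h2 : Projective ((ModuleCat.extendScalars.{u, u, u} (U.ι.stalkMap y).hom).obj
      ((stalkModFunctor X (U.ι y)).obj M)) :=
    Projective.of_iso ((stalkModFunctor (↑U) y).mapIso
      ((Scheme.Modules.restrictFunctorIsoPullback U.ι).app M) ≪≫
        ((PullbackStalk.pullbackStalkIso U.ι y).app M).symm) h1
  let g : X.presheaf.stalk (U.ι y) ≃+* (U : Scheme.{u}).presheaf.stalk y :=
    (asIso (U.ι.stalkMap y)).commRingCatIsoToRingEquiv
  haveI : (ModuleCat.extendScalars.{u, u, u} (U.ι.stalkMap y).hom).IsEquivalence := by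
    haveI := ModuleCat.restrictScalars_isEquivalence_of_ringEquiv g
    haveI : (ModuleCat.restrictScalars.{u} (U.ι.stalkMap y).hom).IsEquivalence :=
      inferInstanceAs (ModuleCat.restrictScalars.{u} g.toRingHom).IsEquivalence
    exact (ModuleCat.extendRestrictScalarsAdj.{u} (U.ι.stalkMap y).hom).isEquivalence_left_of_isEquivalence_right
  exact Functor.projective_of_map_projective
    (ModuleCat.extendScalars.{u, u, u} (U.ι.stalkMap y).hom) h2

/-- Finite locally free modules are flat. -/
lemma isFlat_of_isFinLocFree {M : X.Modules} (hM : FlatMod.IsFinLocFree M) : FlatMod.IsFlat M :=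
  fun x => by
    haveI : Module.Projective (X.presheaf.stalk x) (M.presheaf.stalk x) :=
      (IsProjective.iff_projective (R := X.presheaf.stalk x) (M.presheaf.stalk x)).2
        (projective_stalk hM x)
    exact Module.Flat.of_projective

/-- Strictly perfect complexes are K-flat. -/
theorem isKFlat_of_isStrictlyPerfect {K : CochainComplex X.Modules ℤ}
    (hK : DCoh.IsStrictlyPerfect K) : DCoh.IsKFlat K := by
  obtain ⟨⟨a, b, hv⟩, hlf⟩ := hK
  refine (KFlatStalk.isKFlat_iff_stalk K).2 fun x => ?_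
  refine (StalkCx.isKFlat_iff_left _).2 fun M hM q => ?_
  exact (HomologicalComplex.exactAt_iff_isZero_homology _ _).2
    (TensorCx.Vanish.isZero_homology_of_acyclic
      (L := ((stalkModFunctor X x).mapHomologicalComplex (ComplexShape.up ℤ)).obj K)
      (fun i => isFlat_of_isFinLocFree (hlf i) x) b
      (fun i hi => (stalkModFunctor X x).map_isZero (hv i (Or.inr hi))) hM q)

/-- A K-flat complex can be tensored on either side. -/
theorem acyclic_tensor_left {E L : CochainComplex X.Modules ℤ} (hE : DCoh.IsKFlat E)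
    (hL : L.Acyclic) : ((DCoh.tensorCx.obj E).obj L).Acyclic :=
  (StalkCx.acyclic_iff_stalk _).2 fun x => StalkCx.acyclic_of_iso (StalkCx.tensorIso x E L)
    ((StalkCx.isKFlat_iff_left _).1 ((KFlatStalk.isKFlat_iff_stalk E).1 hE x) _
      (StalkCx.acyclic_stalk x hL))

lemma tmap_id_eq {M N N' : X.Modules} (g : N ⟶ N') :
    ((DCoh.tensorBi (X := X)).obj M).map g = TensorMod.Basic.tmap (𝟙 M) g := by
  change _ = (TensorMod.Basic.sh X).map _
  simp [DCoh.tensorBi]
  rfl

lemma tmap_eq_id {M M' N : X.Modules} (g : M ⟶ M') :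
    ((DCoh.tensorBi (X := X)).map g).app N = TensorMod.Basic.tmap g (𝟙 N) := by
  change _ = (TensorMod.Basic.sh X).map _
  simp [DCoh.tensorBi]
  rfl

/-- Pullback commutes with the tensor bifunctor. -/
noncomputable def pullComparison (f : X ⟶ Y) :
    BifunctorMap.Comparison (DCoh.tensorBi (X := Y)) (DCoh.tensorBi (X := X))
      (Scheme.Modules.pullback f) (Scheme.Modules.pullback f) (Scheme.Modules.pullback f) where
  iso a b := (TensorMod.Pullback.pullbackTensorIso f a b).symm
  natural₁ {a a'} g b := by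
    rw [Iso.symm_hom, Iso.symm_hom, Iso.eq_inv_comp, ← Category.assoc, Iso.comp_inv_eq,
      tmap_eq_id, tmap_eq_id, ← (Scheme.Modules.pullback f).map_id]
    exact (TensorMod.Pullback.delta_natural f g (𝟙 b)).symm
  natural₂ a {b b'} g := by
    rw [Iso.symm_hom, Iso.symm_hom, Iso.eq_inv_comp, ← Category.assoc, Iso.comp_inv_eq,
      tmap_id_eq, tmap_id_eq, ← (Scheme.Modules.pullback f).map_id]
    exact (TensorMod.Pullback.delta_natural f (𝟙 a) g).symm

/-- Termwise pullback commutes with tensor products of complexes. -/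
noncomputable def pullTensorIso (f : X ⟶ Y) (K L : CochainComplex Y.Modules ℤ) :
    (DCoh.tensorCx.obj ((pC f).obj K)).obj ((pC f).obj L) ≅
      (pC f).obj ((DCoh.tensorCx.obj K).obj L) :=
  haveI : PreservesColimitsOfSize.{u, u} (Scheme.Modules.pullback f) :=
    (Scheme.Modules.pullbackPushforwardAdjunction f).leftAdjoint_preservesColimits
  haveI : PreservesColimitsOfSize.{0, 0} (Scheme.Modules.pullback f) :=
    preservesSmallestColimits_of_preservesColimits _
  BifunctorMap.totalIso (pullComparison f) K L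

/-- A coproduct of finite free modules vanishing outside a finite set is free. -/
lemma exists_sigma_iso_free {J : Type} [HasColimitsOfShape (Discrete J) X.Modules]
    (M : J → X.Modules) (s : Finset J) (r : J → ℕ)
    (e : ∀ j ∈ s, Nonempty (M j ≅ FlatMod.freeMod X (r j))) (hz : ∀ j ∉ s, IsZero (M j)) :
    ∃ n : ℕ, Nonempty ((∐ M) ≅ FlatMod.freeMod X n) := by
  classical
  let M' : {j // j ∈ s} → X.Modules := fun j => M j.1
  let i : (∐ M) ≅ ∐ M' :=
    { hom := Sigma.desc fun j => if h : j ∈ s then Sigma.ι M' ⟨j, h⟩ else 0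
      inv := Sigma.desc fun j => Sigma.ι M j.1
      hom_inv_id := Sigma.hom_ext _ _ fun j => by
        by_cases h : j ∈ s
        · simp [h, M']
        · exact (hz j h).eq_of_src _ _
      inv_hom_id := Sigma.hom_ext _ _ fun j => by simp [M', j.2] }
  refine ⟨Fintype.card (Σ j : {j // j ∈ s}, Fin (r j.1)), ⟨i ≪≫ ?_⟩⟩
  exact Sigma.mapIso (fun j => (e j.1 j.2).some) ≪≫
    sigmaSigmaIso (fun j : {j // j ∈ s} => Fin (r j.1)) (fun _ _ => Coh.structureModule X) ≪≫
    (Sigma.whiskerEquiv (Fintype.equivFin _).symm (fun _ => Iso.refl _)).symm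

/-- The tensor product of strictly perfect complexes is strictly perfect. -/
theorem isStrictlyPerfect_tensor {E F : CochainComplex X.Modules ℤ}
    (hE : DCoh.IsStrictlyPerfect E) (hF : DCoh.IsStrictlyPerfect F) :
    DCoh.IsStrictlyPerfect ((DCoh.tensorCx.obj E).obj F) := by
  obtain ⟨⟨a, b, hv⟩, hlf⟩ := hE
  obtain ⟨⟨c, d, hw⟩, hlg⟩ := hF
  have hzero : ∀ p q : ℤ, (p < a ∨ b < p) ∨ (q < c ∨ d < q) →
      IsZero (((DCoh.tensorBi (X := X)).obj (E.X p)).obj (F.X q)) := by
    rintro p q (h | h)
    · exact ((DCoh.tensorBi (X := X)).flip.obj (F.X q)).map_isZero (hv p h)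
    · exact ((DCoh.tensorBi (X := X)).obj (E.X p)).map_isZero (hw q h)
  refine ⟨⟨a + c, b + d, fun n hn => ?_⟩, fun n => ?_⟩
  · rw [IsZero.iff_id_eq_zero]
    refine mapBifunctor.hom_ext fun p q h => IsZero.eq_of_src (hzero p q ?_) _ _
    change p + q = n at h
    omega
  · intro x
    classical
    let s : Finset (Fib n) := (((Finset.Icc a b) ×ˢ (Finset.Icc c d)).subtype fun pq => pq ∈
      (ComplexShape.π (ComplexShape.up ℤ) (ComplexShape.up ℤ) (ComplexShape.up ℤ)) ⁻¹' {n})
    have key : ∀ j : Fib n, j ∉ s → IsZero (((DCoh.tensorBi (X := X)).obj (E.X j.1.1)).obj (F.X j.1.2)) :=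
      fun j hj => hzero _ _ (by
        simp only [s, Finset.mem_subtype, Finset.mem_product, Finset.mem_Icc, not_and_or, not_le] at hj
        omega)
    choose U r hxU hU using fun j : Fib n =>
      TensorMod.LocFree.isFinLocFree_tensorMod (hlf j.1.1) (hlg j.1.2) x
    let V := s.inf U
    have hxV : x ∈ V := by
      suffices ∀ t : Finset (Fib n), x ∈ t.inf U from this _
      intro t
      induction t using Finset.cons_induction_on with
      | empty => simp
      | cons i t hi ih => rw [Finset.inf_cons]; exact ⟨hxU i, ih⟩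
    let M : Fib n → X.Modules := fun j =>
      ((DCoh.tensorBi (X := X)).obj (E.X j.1.1)).obj (F.X j.1.2)
    haveI : PreservesColimitsOfSize.{0, 0} (Scheme.Modules.restrictFunctor V.ι) :=
      preservesSmallestColimits_of_preservesColimits _
    obtain ⟨m, ⟨i⟩⟩ := exists_sigma_iso_free (fun j => (M j).restrict V.ι) s r
      (fun j hj => TensorMod.LocFree.exists_restrict_iso_freeMod (Finset.inf_le hj) (hU j).some)
      (fun j hj => (Scheme.Modules.restrictFunctor V.ι).map_isZero (key j hj))
    exact ⟨V, m, hxV, ⟨PreservesCoproduct.iso (Scheme.Modules.restrictFunctor V.ι) M ≪≫ i⟩⟩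

/-- A complex representing a perfect object receives, locally, a quasi-isomorphism from a strictly
perfect complex. -/
theorem exists_model (K : CochainComplex X.Modules ℤ)
    (hK : DCoh.IsPerfect (DerivedCategory.Q.obj K)) (x : X) :
    ∃ (V : Scheme.{u}) (j : V ⟶ X) (_ : IsOpenImmersion j) (v : V)
      (E : CochainComplex V.Modules ℤ) (φ : E ⟶ (pC j).obj K),
      j v = x ∧ DCoh.IsStrictlyPerfect E ∧ QuasiIso φ := by
  obtain ⟨U, j, _, u, E, hu, hE, ⟨i⟩⟩ := (isPerfect_iff _).1 hK x
  let i' : DerivedCategory.Q.obj E ≅ DerivedCategory.Q.obj ((pC j).obj K) :=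
    i.symm ≪≫ RDQ j K ≪≫ DerivedCategory.Q.mapIso ((rCIso j).app K)
  obtain ⟨V, k, _, v, φ, hv, hφ⟩ := Lift.exists_map hE i'.hom u
  haveI : IsIso (DerivedCategory.Q.map φ) := by
    have : DerivedCategory.Q.map φ =
        (RDQ k E).inv ≫ (RD k).map i'.hom ≫ (RDQ k ((pC j).obj K)).hom := by
      rw [hφ]; simp
    rw [this]; infer_instance
  haveI : QuasiIso φ := (DerivedCategory.isIso_Q_map_iff_quasiIso _ φ).1 inferInstance
  exact ⟨V, k ≫ j, inferInstance, v, (rC k).obj E,
    φ ≫ (rCIso k).hom.app ((pC j).obj K) ≫ (pCComp k j).hom.app K, by simp [hv, hu],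
    isStrictlyPerfect_map k hE, inferInstance⟩

/-- The derived tensor product of perfect objects is perfect. -/
theorem isPerfect_LTensorCx (L : CochainComplex X.Modules ℤ) (hL : DCoh.IsKFlat L)
    (hLp : DCoh.IsPerfect (DerivedCategory.Q.obj L)) [DCoh.HasLTensorCx L] {K : DCoh.D X}
    (hK : DCoh.IsPerfect K) : DCoh.IsPerfect ((DCoh.LTensorCx L).obj K) := by
  let hA := LeftExists.isAdapted_tensorCxQ L
  let LF := LeftDerived.functor hA DerivedCategory.Q
  haveI := LeftDerived.isLeftDerivedFunctor hA DerivedCategory.Q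
  let e : DCoh.LTensorCx L ≅ LF := Functor.leftDerivedNatIso _ _
    ((DCoh.tensorCxQ L).totalLeftDerivedCounit DerivedCategory.Q (quasiIso X.Modules (.up ℤ)))
    (LeftDerived.counit hA DerivedCategory.Q) (quasiIso X.Modules (.up ℤ)) (Iso.refl _)
  let K₀ := DerivedCategory.Q.objPreimage K
  let eK := DerivedCategory.Q.objObjPreimageIso K
  let P := (KFlat.res X).obj K₀
  have hP : DCoh.IsPerfect (DerivedCategory.Q.obj P) := isPerfect_of_iso
    (eK.symm ≪≫ (asIso (DerivedCategory.Q.map ((KFlat.aug X).app K₀))).symm) hK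
  let eR : (DCoh.LTensorCx L).obj K ≅
      DerivedCategory.Q.obj ((DCoh.tensorCx.obj P).obj L) :=
    (DCoh.LTensorCx L).mapIso eK.symm ≪≫ e.app _ ≪≫
      (Localization.fac (KFlat.res X ⋙ DCoh.tensorCxQ L) hA.inverts DerivedCategory.Q).app K₀
  refine isPerfect_of_iso eR.symm ((isPerfect_iff _).2 fun x => ?_)
  obtain ⟨V, j, _, v, E, φ, hv, hE, hφ⟩ := exists_model P hP x
  have hLV : DCoh.IsPerfect (DerivedCategory.Q.obj ((pC j).obj L)) :=
    isPerfect_of_iso (RDQ j L ≪≫ DerivedCategory.Q.mapIso ((rCIso j).app L))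
      ((isPerfect_iff _).2 fun z => PerfAt.restrict j z ((isPerfect_iff _).1 hLp (j z)))
  obtain ⟨W, k, _, w, F, χ, hw, hF, hχ⟩ := exists_model _ hLV v
  haveI := hφ
  haveI := hχ
  haveI : QuasiIso ((rC k).map φ) := inferInstance
  let E' := (rC k).obj E
  have hE' := isStrictlyPerfect_map k hE
  let A := (pC (k ≫ j)).obj P
  let B := (pC (k ≫ j)).obj L
  let φ' : E' ⟶ A :=
    (rC k).map φ ≫ (rCIso k).hom.app ((pC j).obj P) ≫ (pCComp k j).hom.app P
  let χ' : F ⟶ B := χ ≫ (pCComp k j).hom.app L
  haveI : QuasiIso φ' := inferInstance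
  haveI : QuasiIso χ' := inferInstance
  have hB : DCoh.IsKFlat B := KFlatPullback.isKFlat_pullback (k ≫ j) hL
  haveI := LeftExists.quasiIso_tensor_right hB φ'
  haveI := LeftExists.quasiIso_tensor_left
    (fun M hM => acyclic_tensor_left (isKFlat_of_isStrictlyPerfect hE') hM) χ'
  refine ⟨W, k ≫ j, inferInstance, w, (DCoh.tensorCx.obj E').obj F, by simp [hw, hv],
    isStrictlyPerfect_tensor hE' hF, ⟨?_⟩⟩
  exact RDQ _ _ ≪≫ DerivedCategory.Q.mapIso ((rCIso (k ≫ j)).app _ ≪≫
      (pullTensorIso (k ≫ j) P L).symm) ≪≫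
    (asIso (DerivedCategory.Q.map ((DCoh.tensorCx.map φ').app B))).symm ≪≫
    (asIso (DerivedCategory.Q.map ((DCoh.tensorCx.obj E').map χ'))).symm

end Groth.Agent.Lib.Perfect.Tensor
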