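import Groth.Prelude.Def_PerfD
import Groth.Agent.Lib.Perfect.Pullback
import Groth.Agent.Lib.Perfect.Coherent
import Groth.Agent.Lib.KRes.KDb
import Groth.Agent.Lib.KRes.CohP
import Mathlib.LinearAlgebra.Dimension.RankNullity
import Mathlib.RingTheory.LocalRing.ResidueField.Defs

/-!
# Euler characteristics of bounded complexes of coherent modules, and of perfect objects
-/

set_option autoImplicit false
set_option linter.style.haveILetI false

universe u

open CategoryTheory Limits AlgebraicGeometry Opposite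

namespace Groth.Agent.Lib.Perfect.EulerChar

open Groth.Agent.Lib Groth.Agent.Lib.KRes Groth.Agent.Lib.Perfect.Basic

attribute [local instance] HasDerivedCategory.standard

variable {X : Scheme.{u}}

local notation "cl" => KZero.clSub (CohP.coh _)

section K0

variable [IsLocallyNoetherian X]

/-- In `K₀` of coherent modules, `Σ (-1)^i [H^i E] = Σ (-1)^i [E^i]` for a bounded complex. -/
theorem χ_Q (E : CochainComplex X.Modules ℤ) (a b : ℤ) (hv : DCoh.VanishesOutside E a b)
    (hc : ∀ i, Coh.IsCoh (E.X i)) :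
    KDb.χ (CohP.coh X) (DerivedCategory.Q.obj E) =
      ∑ᶠ i : ℤ, ((i.negOnePow : ℤˣ) : ℤ) • KZero.clSub (CohP.coh X) (E.X i) := by
  haveI := CohP.iso X
  haveI := CohP.containsZero X
  haveI := CohP.kernels X
  let Z : ℤ → KZero.K0sub (CohP.coh X) := fun i => KZero.clSub (CohP.coh X) (E.cycles i)
  have hZ : ∀ i, Coh.IsCoh (E.cycles i) := fun i =>
    CohBasics.Closure.isCoh_of_iso ((E.sc i).cyclesIsoKernel).symm
      (CohBasics.Closure.isCoh_kernel _ (hc i) (hc _).1)
  have hH : ∀ i, Coh.IsCoh (E.homology i) := fun i =>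
    Coherent.isCoh_homology _ (hc _).1 (hc _) (hc _).1
  have key : ∀ i, KZero.clSub (CohP.coh X) (E.homology i) =
      Z i + Z (i - 1) - KZero.clSub (CohP.coh X) (E.X (i - 1)) := by
    intro i
    have hse : (ShortComplex.mk (E.toCycles (i - 1) i) (E.homologyπ i)
        (E.toCycles_comp_homologyπ _ _)).Exact :=
      ShortComplex.exact_of_g_is_cokernel _ (E.homologyIsCokernel (i - 1) i (by simp))
    have e1 := KDb.clSub_eq_kernel_add (P := CohP.coh X) hse (hc (i - 1)) (hZ i) (hH i)
    dsimp only at e1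
    have hsk : (ShortComplex.mk (kernel.ι (E.homologyπ i)) (E.homologyπ i)
        (kernel.condition _)).ShortExact :=
      ShortComplex.ShortExact.mk' (ShortComplex.exact_kernel _) inferInstance inferInstance
    have e2 := KSub.rel (P := CohP.coh X) hsk
      ((CohP.coh X).prop_kernel (E.homologyπ i) (hZ i) (hH i)) (hZ i) (hH i)
    dsimp only at e2
    have e3 : kernel (E.toCycles (i - 1) i) ≅ E.cycles (i - 1) :=
      (kernelCompMono (E.toCycles (i - 1) i) (E.iCycles i)).symm ≪≫
        kernelIsoOfEq (E.toCycles_i (i - 1) i) ≪≫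
        (limit.isLimit _).conePointUniqueUpToIso (E.cyclesIsKernel (i - 1) i (by simp))
    rw [KDb.clSub_congr (CohP.coh X) e3] at e1
    simp only [Z]
    rw [e1, e2]
    abel
  have hE : (fun i : ℤ => ((i.negOnePow : ℤˣ) : ℤ) • KZero.clSub (CohP.coh X) (E.X i)).HasFiniteSupport :=
    KDb.hasFiniteSupport _ a b fun i hi => by
      rw [KDb.clSub_isZero (CohP.coh X) (hv i hi), smul_zero]
  have hZs : (fun i : ℤ => ((i.negOnePow : ℤˣ) : ℤ) • Z i).HasFiniteSupport :=
    KDb.hasFiniteSupport _ a b fun i hi => by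
      simp only [Z]
      rw [KDb.clSub_isZero (CohP.coh X) (IsZero.of_mono (E.iCycles i) (hv i hi)), smul_zero]
  let G : ℤ → KZero.K0sub (CohP.coh X) := fun i => ((i.negOnePow : ℤˣ) : ℤ) • Z i
  let F : ℤ → KZero.K0sub (CohP.coh X) := fun i =>
    ((i.negOnePow : ℤˣ) : ℤ) • KZero.clSub (CohP.coh X) (E.X i)
  have hterm : ∀ i, KDb.term (CohP.coh X) (DerivedCategory.Q.obj E) i =
      (G i - G (i - 1)) + F (i - 1) := by
    intro i
    have hs : (((i - 1).negOnePow : ℤˣ) : ℤ) = -((i.negOnePow : ℤˣ) : ℤ) := by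
      simp [Int.negOnePow_sub]
    refine (congrArg (((i.negOnePow : ℤˣ) : ℤ) • ·) (KDb.clSub_congr (CohP.coh X)
      ((DerivedCategory.homologyFunctorFactors X.Modules i).app E))).trans ?_
    change ((i.negOnePow : ℤˣ) : ℤ) • KZero.clSub (CohP.coh X) (E.homology i) = _
    simp only [G, F, key i, hs, neg_smul, smul_sub, smul_add]
    abel
  have hG' : (fun i => G (i - 1)).HasFiniteSupport :=
    KDb.hasFiniteSupport _ (a + 1) (b + 1) fun i hi => by
      simp only [G, Z]
      rw [KDb.clSub_isZero (CohP.coh X) (IsZero.of_mono (E.iCycles (i - 1)) (hv _ (by omega))),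
        smul_zero]
  have hF' : (fun i => F (i - 1)).HasFiniteSupport :=
    KDb.hasFiniteSupport _ (a + 1) (b + 1) fun i hi => by
      simp only [F]
      rw [KDb.clSub_isZero (CohP.coh X) (hv _ (by omega)), smul_zero]
  rw [KDb.χ, finsum_congr hterm,
    finsum_add_distrib (f := fun i => G i - G (i - 1)) (g := fun i => F (i - 1)) (hZs.sub hG') hF',
    finsum_sub_distrib (f := G) (g := fun i => G (i - 1)) hZs hG']
  have h1 : ∑ᶠ i, G (i - 1) = ∑ᶠ i, G i := finsum_comp_equiv (Equiv.subRight (1 : ℤ))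
  have h2 : ∑ᶠ i, F (i - 1) = ∑ᶠ i, F i := finsum_comp_equiv (Equiv.subRight (1 : ℤ))
  rw [h1, h2, sub_self, zero_add]

end K0

/-- The standard sections of a finite free module on an affine scheme form a basis. -/
lemma exists_basis_free [IsAffine X] (n : ℕ) :
    Nonempty (Module.Basis (Fin n) Γ(X, ⊤) Γ(FlatMod.freeMod X n, ⊤)) := by
  haveI := TensorMod.QCohInv.isQCoh_freeMod X n
  refine ⟨Module.Basis.mk (v := Modules.Free.gen X) ?_ (top_le_iff.2 ?_)⟩
  · rw [Fintype.linearIndependent_iff]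
    intro c hc i
    refine TopCat.Presheaf.section_ext X.sheaf ⊤ (c i) 0 fun x hx => ?_
    refine Eq.trans ?_ (map_zero _).symm
    have h := congrArg ((FlatMod.freeMod X n).presheaf.germ ⊤ x trivial) hc
    rw [map_sum, map_zero] at h
    simp only [Modules.StalkModule.germ_smul] at h
    exact Fintype.linearIndependent_iff.1
      (Modules.FreeStalk.linearIndependent_germ_gen (n := n) x) _ h i
  · refine CohBasics.Affine.span_eq_top_of_germ (isAffineOpen_top X) _ fun x hx => ?_
    rw [← Set.range_comp]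
    exact Modules.Free.span_germ_gen (n := n) x

/-- The dimension of global sections. -/
noncomputable def deg (X : Scheme.{u}) (M : X.Modules) : ℤ := Module.finrank Γ(X, ⊤) Γ(M, ⊤)

lemma deg_freeMod [IsAffine X] [Nontrivial Γ(X, ⊤)] (n : ℕ) :
    deg X (FlatMod.freeMod X n) = n := by
  obtain ⟨b⟩ := exists_basis_free (X := X) n
  simp [deg, Module.finrank_eq_card_basis b]

variable [IsAffine X] [IsLocallyNoetherian X]

omit [IsLocallyNoetherian X] in
lemma deg_add (hF : IsField Γ(X, ⊤)) {S : ShortComplex X.Modules} (hS : S.ShortExact)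
    (h₁ : Coh.IsCoh S.X₁) (h₂ : Coh.IsCoh S.X₂) :
    deg X S.X₂ = deg X S.X₁ + deg X S.X₃ := by
  letI := hF.toField
  haveI := hS.mono_f
  haveI := h₁.1
  haveI := CohBasics.Closure.finite_sections h₂ (isAffineOpen_top X)
  let f := CohBasics.Affine.secₗ S.f ⊤
  let g := CohBasics.Affine.secₗ S.g ⊤
  have hf : Function.Injective f := QCoh.Closure.sections_injective_of_mono S.f ⊤
  have hg : Function.Surjective g := QCoh.Closure.sections_surjective hS (isAffineOpen_top X)
  have hfg : LinearMap.range f = LinearMap.ker g := by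
    refine le_antisymm ?_ fun x hx => ?_
    · rintro _ ⟨y, rfl⟩
      exact QCoh.Closure.sections_comp ⊤ y
    · exact QCoh.Closure.sections_exact hS.exact ⊤ x hx
  have h := LinearMap.finrank_range_add_finrank_ker g
  rw [LinearMap.range_eq_top.2 hg, finrank_top, ← hfg, LinearMap.finrank_range_of_inj hf] at h
  simp only [deg]
  omega

omit [IsLocallyNoetherian X] in
/-- `deg` as a homomorphism on `K₀` of coherent modules. -/
noncomputable def degHom (hF : IsField Γ(X, ⊤)) : KZero.K0sub (CohP.coh X) →+ ℤ :=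
  KSub.lift (deg X) fun _ hS h₁ h₂ _ => deg_add hF hS h₁ h₂

lemma isField_residue (Y : Scheme.{u}) (y : Y) :
    IsField Γ(Spec (Y.residueField y), ⊤) :=
  ((Scheme.ΓSpecIso (Y.residueField y)).commRingCatIsoToRingEquiv.toMulEquiv).isField
    (Field.toIsField (IsLocalRing.ResidueField (Y.presheaf.stalk y)))

omit [IsAffine X] [IsLocallyNoetherian X]

/-- `Lf^*` of a perfect object, for `f` with image one point, computed by a local model. -/
theorem exists_Lpull_iso_local {Z V : Scheme.{u}} (f : Z ⟶ X) [DCoh.HasLpull f] (K : DCoh.D X)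
    (j : V ⟶ X) [IsOpenImmersion j] (E : CochainComplex V.Modules ℤ)
    (hE : DCoh.IsStrictlyPerfect E) (i : (RD j).obj K ≅ DerivedCategory.Q.obj E) (v : V)
    (hf : ∀ z : Z, f z = j v) :
    ∃ g : Z ⟶ V, Nonempty ((DCoh.Lpull f).obj K ≅ DerivedCategory.Q.obj ((Pullback.pC g).obj E)) := by
  obtain ⟨P, hP, ⟨eP⟩, ⟨eL⟩⟩ := Pullback.exists_Lpull_iso f K
  let i' : DerivedCategory.Q.obj E ≅ DerivedCategory.Q.obj ((Pullback.pC j).obj P) :=
    i.symm ≪≫ (RD j).mapIso eP.symm ≪≫ RDQ j P ≪≫
      DerivedCategory.Q.mapIso ((Pullback.rCIso j).app P)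
  obtain ⟨V', k, _, v', φ, hv', hφ⟩ := Lift.exists_map hE i'.hom v
  haveI : IsIso (DerivedCategory.Q.map φ) := by
    have : DerivedCategory.Q.map φ =
        (RDQ k E).inv ≫ (RD k).map i'.hom ≫ (RDQ k ((Pullback.pC j).obj P)).hom := by
      rw [hφ]; simp
    rw [this]; infer_instance
  haveI : QuasiIso φ := (DerivedCategory.isIso_Q_map_iff_quasiIso _ φ).1 inferInstance
  have hrange : Set.range f ⊆ Set.range (k ≫ j) := by
    rintro _ ⟨z, rfl⟩
    exact ⟨v', by rw [hf z]; simp [hv']⟩
  let h := IsOpenImmersion.lift (k ≫ j) f hrange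
  let ψ : (rC k).obj E ⟶ (Pullback.pC (k ≫ j)).obj P :=
    φ ≫ (Pullback.rCIso k).hom.app ((Pullback.pC j).obj P) ≫ (Pullback.pCComp k j).hom.app P
  haveI : QuasiIso ψ := inferInstance
  haveI : QuasiIso ((Pullback.pC h).map ψ) := Pullback.quasiIso_pC h
    (Pullback.stalkKProj_of_isStrictlyPerfect (isStrictlyPerfect_map k hE))
    (Pullback.stalkKProj_pC_of_cof (k ≫ j) hP) ψ
  refine ⟨h ≫ k, ⟨?_⟩⟩
  exact eL ≪≫ DerivedCategory.Q.mapIso
      (eqToIso (congrArg (fun g => (Pullback.pC g).obj P)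
        (IsOpenImmersion.lift_fac (k ≫ j) f hrange).symm) ≪≫
        ((Pullback.pCComp h (k ≫ j)).app P).symm) ≪≫
    (asIso (DerivedCategory.Q.map ((Pullback.pC h).map ψ))).symm ≪≫
    DerivedCategory.Q.mapIso ((Pullback.pC h).mapIso ((Pullback.rCIso k).app E) ≪≫
      (Pullback.pCComp h k).app E)

/-- A strictly perfect complex has, near each point, all terms free. -/
theorem exists_free_terms {E : CochainComplex X.Modules ℤ} (hE : DCoh.IsStrictlyPerfect E) (x : X) :
    ∃ (V : X.Opens) (n : ℤ → ℕ), x ∈ V ∧ (n.HasFiniteSupport) ∧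
      ∀ i, Nonempty ((E.X i).restrict V.ι ≅ FlatMod.freeMod (↑V) (n i)) := by
  obtain ⟨⟨a, b, hv⟩, hlf⟩ := hE
  choose U n hxU hU using fun i => hlf i x
  have hzero : ∀ (V : X.Opens) (i : ℤ), i < a ∨ b < i →
      Nonempty ((E.X i).restrict V.ι ≅ FlatMod.freeMod (↑V) 0) := fun V i hi =>
    ⟨IsZero.iso ((Scheme.Modules.restrictFunctor V.ι).map_isZero (hv i hi))
      ((IsZero.iff_id_eq_zero _).2 (Sigma.hom_ext _ _ fun a => a.elim0))⟩
  refine ⟨(Finset.Icc a b).inf U, fun i => if i ∈ Finset.Icc a b then n i else 0, ?_, ?_, fun i => ?_⟩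
  · suffices ∀ s : Finset ℤ, x ∈ s.inf U from this _
    intro s
    induction s using Finset.induction_on with
    | empty => simp
    | insert i s _ ih => rw [Finset.inf_insert]; exact ⟨hxU i, ih⟩
  · exact KDb.hasFiniteSupport _ a b fun i hi => if_neg (by simp only [Finset.mem_Icc]; omega)
  · simp only
    split_ifs with hi
    · exact TensorMod.LocFree.exists_restrict_iso_freeMod (Finset.inf_le hi) (hU i).some
    · exact hzero _ i (by simp only [Finset.mem_Icc] at hi; omega)

/-- The Euler characteristic of a perfect object is locally constant. -/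
theorem isLocallyConstant_eulerChar [∀ x : X, DCoh.HasLpull (X.fromSpecResidueField x)]
    {K : DCoh.D X} (hK : DCoh.IsPerfect K) :
    IsLocallyConstant (fun x : X => PerfD.eulerChar K x) := by
  rw [IsLocallyConstant.iff_exists_open]
  intro x
  obtain ⟨U, j, _, u, E, rfl, hE, ⟨i⟩⟩ := (Triangle.isPerfect_iff K).1 hK x
  obtain ⟨V, n, hu, hn, he⟩ := exists_free_terms hE u
  let j' := V.ι ≫ j
  let E' := (rC V.ι).obj E
  let i' : (RD j').obj K ≅ DerivedCategory.Q.obj E' :=
    Triangle.RDComp V.ι j K ≪≫ (RD V.ι).mapIso i ≪≫ RDQ V.ι E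
  have key : ∀ z : X, z ∈ j'.opensRange →
      PerfD.eulerChar K z = ∑ᶠ k : ℤ, ((k.negOnePow : ℤˣ) : ℤ) * (n k : ℤ) := by
    rintro z ⟨w, hw⟩
    obtain ⟨g, ⟨e⟩⟩ := exists_Lpull_iso_local (X.fromSpecResidueField z) K j' E'
      (isStrictlyPerfect_map V.ι hE) i' w (fun y => by
        rw [Scheme.fromSpecResidueField_apply]; exact hw.symm)
    let S := Spec (X.residueField z)
    have hF := isField_residue X z
    haveI : IsLocallyNoetherian S := inferInstance
    haveI := CohP.iso S
    haveI := CohP.containsZero S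
    haveI : Nontrivial Γ(S, ⊤) := hF.nontrivial
    let G := (Pullback.pC g).obj E'
    have hG : ∀ k, Nonempty (G.X k ≅ FlatMod.freeMod S (n k)) := fun k =>
      ⟨(Scheme.Modules.pullback g).mapIso (he k).some ≪≫
        TensorMod.LocFree.pullbackFreeModIso g (n k)⟩
    obtain ⟨⟨a, b, hv⟩, -⟩ := Pullback.isStrictlyPerfect_pC g (isStrictlyPerfect_map V.ι hE)
    have hc : ∀ k, Coh.IsCoh (G.X k) := fun k =>
      CohBasics.Closure.isCoh_of_iso (hG k).some.symm (Coherent.isCoh_freeMod _ _)
    have hχ := congrArg (degHom hF) (χ_Q G a b hv hc)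
    have hterm : ∀ k, degHom hF (KDb.term (CohP.coh S) (DerivedCategory.Q.obj G) k) =
        ((k.negOnePow : ℤˣ) : ℤ) * (PerfD.betti K z k : ℤ) := fun k => by
      have ek := (DerivedCategory.homologyFunctor S.Modules k).mapIso e
      rw [KDb.term, map_zsmul, ← KDb.clSub_congr (CohP.coh S) ek, degHom,
        KSub.lift_cl _ _ (CohBasics.Closure.isCoh_of_iso
          (((DerivedCategory.homologyFunctorFactors S.Modules k).app G).symm ≪≫ ek.symm)
          (Coherent.isCoh_homology _ (hc _).1 (hc _) (hc _).1))]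
      rfl
    have hrhs : ∀ k, degHom hF (((k.negOnePow : ℤˣ) : ℤ) • KZero.clSub (CohP.coh S) (G.X k)) =
        ((k.negOnePow : ℤˣ) : ℤ) * (n k : ℤ) := fun k => by
      rw [map_zsmul, KDb.clSub_congr (CohP.coh S) (hG k).some, degHom,
        KSub.lift_cl _ _ (Coherent.isCoh_freeMod _ _), deg_freeMod]
      rfl
    have hfin : (fun k => ((k.negOnePow : ℤˣ) : ℤ) • KZero.clSub (CohP.coh S) (G.X k)).HasFiniteSupport :=
      KDb.hasFiniteSupport _ a b fun k hk => by
        rw [KDb.clSub_isZero (CohP.coh S) (hv k hk), smul_zero]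
    have hb : ∀ k, k < a ∨ b < k → IsZero (G.homology k) := fun k hk =>
      (HomologicalComplex.ExactAt.of_isZero (hv k hk)).isZero_homology
    have hfin' : (KDb.term (CohP.coh S) (DerivedCategory.Q.obj G)).HasFiniteSupport :=
      KDb.hasFiniteSupport _ a b fun k hk => by
        exact (congrArg (((k.negOnePow : ℤˣ) : ℤ) • ·) (KDb.clSub_isZero (CohP.coh S) ((hb k hk).of_iso
          ((DerivedCategory.homologyFunctorFactors S.Modules k).app G)))).trans (smul_zero _)
    rw [KDb.χ, (degHom hF).map_finsum hfin', (degHom hF).map_finsum hfin,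
      finsum_congr hterm, finsum_congr hrhs] at hχ
    exact hχ
  refine ⟨(j'.opensRange : Set X), j'.opensRange.2, ⟨⟨u, hu⟩, rfl⟩, fun z hz => ?_⟩
  rw [key z hz, key (j u) ⟨⟨u, hu⟩, rfl⟩]

end Groth.Agent.Lib.Perfect.EulerChar
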