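import Groth.Agent.Lib.Perfect.LocPres
import Groth.Agent.Lib.Modules.StalkRestrict
import Mathlib.RingTheory.Localization.Free

/-!
# A finitely presented module is free near a point where its stalk is free
-/

set_option autoImplicit false
set_option linter.style.haveILetI false

universe u

open CategoryTheory Limits AlgebraicGeometry Opposite

namespace Groth.Agent.Lib.Perfect.FreeNear

open Groth.Agent.Lib Groth.Agent.Lib.Modules

variable {X Y : Scheme.{u}}

/-- Freeness of stalks does not change under restriction to an open. -/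
theorem free_stalk_restrict_iff (f : X ⟶ Y) [IsOpenImmersion f] (M : Y.Modules) (x : X) :
    Module.Free (X.presheaf.stalk x) ((M.restrict f).presheaf.stalk x) ↔
      Module.Free (Y.presheaf.stalk (f x)) (M.presheaf.stalk (f x)) := by
  let σ : Y.presheaf.stalk (f x) ≃+* X.presheaf.stalk x :=
    (asIso (f.stalkMap x)).commRingCatIsoToRingEquiv
  let e := StalkRestrict.restrictStalkAddEquiv f M x
  haveI := RingHomInvPair.of_ringEquiv σ
  haveI := RingHomInvPair.of_ringEquiv σ.symm
  let e' : M.presheaf.stalk (f x) ≃ₛₗ[(σ : Y.presheaf.stalk (f x) →+* X.presheaf.stalk x)]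
      (M.restrict f).presheaf.stalk x :=
    { e.symm with
      map_smul' := fun a v => by
        apply e.injective
        change e (e.symm (a • v)) = e (f.stalkMap x a • e.symm v)
        rw [StalkRestrict.restrictStalkAddEquiv_smul]
        change e (e.symm (a • v)) = a • e (e.symm v)
        rw [e.apply_symm_apply, e.apply_symm_apply] }
  exact (Module.Free.iff_of_equiv e').symm

/-- On an affine scheme: free stalk implies free on a basic open neighbourhood. -/
theorem exists_free_basicOpen {B : CommRingCat.{u}} (N : ModuleCat.{u} B)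
    [Module.FinitePresentation B N] (p : Spec B)
    (h : Module.Free ((Spec B).presheaf.stalk p) ((tilde N).presheaf.stalk p)) :
    ∃ (r : B) (n : ℕ), r ∉ (show PrimeSpectrum B from p).asIdeal ∧ Nonempty ((tilde N).restrict
      (Spec.map (CommRingCat.ofHom (algebraMap B (Localization.Away r)))) ≅
      FlatMod.freeMod (Spec (CommRingCat.of (Localization.Away r))) n) := by
  let q : PrimeSpectrum B := p
  letI : Algebra B ((Spec B).presheaf.stalk p) := StructureSheaf.stalkAlgebra B q
  haveI : IsLocalization q.asIdeal.primeCompl ((Spec B).presheaf.stalk p) :=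
    StructureSheaf.IsLocalization.to_stalk B q
  haveI : IsScalarTower B ((Spec B).presheaf.stalk p) ((tilde N).presheaf.stalk p) :=
    .of_algebraMap_smul fun _ _ => rfl
  haveI := h
  obtain ⟨r, hr, hr', -⟩ := Module.FinitePresentation.exists_free_localizedModule_powers
    q.asIdeal.primeCompl (tilde.toStalk N q).hom ((Spec B).presheaf.stalk p)
  let S := Localization.Away r
  let φ : B ⟶ CommRingCat.of S := CommRingCat.ofHom (algebraMap B S)
  let L := LocalizedModule (Submonoid.powers r) N
  haveI : Module.Finite S L := Module.Finite.of_isLocalizedModule (Submonoid.powers r)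
    (LocalizedModule.mkLinearMap (Submonoid.powers r) N)
  haveI : Nontrivial S := by
    have hunit : IsUnit (algebraMap B (Localization.AtPrime q.asIdeal) r) :=
      IsLocalization.map_units _ (⟨r, hr⟩ : q.asIdeal.primeCompl)
    exact (IsLocalization.Away.lift r hunit (S := S)).domain_nontrivial
  let e : (ModuleCat.extendScalars (algebraMap B S)).obj N ≃ₗ[S] L :=
    (FlatCx.BaseChange.extEquiv S N).trans
      (IsLocalizedModule.isBaseChange (Submonoid.powers r) S
        (LocalizedModule.mkLinearMap (Submonoid.powers r) N)).equiv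
  haveI : Module.Free S L := hr'
  let b := (Module.finBasis S L).map e.symm
  exact ⟨r, _, hr, ⟨(Scheme.Modules.restrictFunctorIsoPullback (Spec.map φ)).app (tilde N) ≪≫
    (QCoh.Pullback.pullbackTildeIso φ).app N ≪≫
      Kaehler.LocFree.tildeFreeIso (R := CommRingCat.of S) b⟩⟩

/-- A module which near `x` is a cokernel of finite free modules and has free stalk at `x` is free
near `x`. -/
theorem exists_free_near {U : Scheme.{u}} {M : U.Modules} {m n : ℕ}
    (φ : FlatMod.freeMod U n ⟶ FlatMod.freeMod U m) (e : M ≅ cokernel φ) (x : U)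
    (h : Module.Free (U.presheaf.stalk x) (M.presheaf.stalk x)) :
    ∃ (V : U.Opens) (d : ℕ), x ∈ V ∧ Nonempty (M.restrict V.ι ≅ FlatMod.freeMod (↑V) d) := by
  obtain ⟨W, hW, hxW, -⟩ := exists_isAffineOpen_mem_and_subset (X := U) (x := x) (U := ⊤) trivial
  let k := hW.fromSpec
  let R := Scheme.Modules.restrictFunctor k
  haveI : PreservesColimitsOfSize.{0, 0} R :=
    (Scheme.Modules.restrictAdjunction k).leftAdjoint_preservesColimits
  let φ' := (Modules.Free.restrictFreeIso k n).inv ≫ R.map φ ≫ (Modules.Free.restrictFreeIso k m).hom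
  obtain ⟨N, hN, ⟨i⟩⟩ := LocPres.exists_tilde_iso _ φ'
  let i' : R.obj M ≅ tilde N := R.mapIso e ≪≫ PreservesCokernel.iso R φ ≪≫
    cokernel.mapIso (R.map φ) φ' (Modules.Free.restrictFreeIso k n) (Modules.Free.restrictFreeIso k m)
      (by simp [φ']) ≪≫ i
  obtain ⟨p, hp⟩ : x ∈ Set.range k := by rw [hW.range_fromSpec]; exact hxW
  subst hp
  have h' : Module.Free ((Spec Γ(U, W)).presheaf.stalk p) ((tilde N).presheaf.stalk p) :=
    haveI := (free_stalk_restrict_iff k M p).2 h
    Module.Free.of_equiv (StalkModule.stalkLinearEquiv i' p)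
  haveI := hN
  obtain ⟨r, d, hr, ⟨f⟩⟩ := exists_free_basicOpen N p h'
  let l := Spec.map (CommRingCat.ofHom (algebraMap Γ(U, W) (Localization.Away r)))
  haveI : IsOpenImmersion l := inferInstance
  have hmem : p ∈ Set.range l := by
    change p ∈ Set.range (PrimeSpectrum.comap (algebraMap Γ(U, W) (Localization.Away r)))
    rw [PrimeSpectrum.localization_away_comap_range (Localization.Away r) r]
    exact hr
  obtain ⟨q, hq⟩ := hmem
  exact ⟨(l ≫ k).opensRange, d, ⟨q, by rw [Scheme.Hom.comp_apply, hq]⟩,
    Kaehler.LocFree.free_nhd_of_chart (l ≫ k)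
      ((Scheme.Modules.restrictFunctorComp l k).app M ≪≫
        (Scheme.Modules.restrictFunctor l).mapIso i' ≪≫ f)⟩

end Groth.Agent.Lib.Perfect.FreeNear
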