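import Groth.Prelude.Def_DTor2
import Groth.Agent.Lib.DR.TorAmp
import Groth.Agent.Lib.DR.ExactPush
import Groth.Agent.Lib.Perfect.Top
import Groth.Agent.Lib.Perfect.Lift
import Groth.Agent.Lib.Perfect.Coherent
import Groth.Agent.Lib.Perfect.FreeNear
import Groth.Agent.Lib.Perfect.EulerChar
import Groth.Agent.Lib.TensorMod.FPConv

/-!
# Pseudo-coherent and of finite tor amplitude at the stalks implies perfect
-/

set_option autoImplicit false
set_option linter.style.haveILetI false

universe u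

open CategoryTheory CategoryTheory.Limits CategoryTheory.Pretriangulated AlgebraicGeometry
open Groth.Agent.Lib
open Groth.Agent.Lib.DR Groth.Agent.Lib.DR.Basic Groth.Agent.Lib.DR.FiniteComplex
open Groth.Agent.Lib.DR.PseudoCoherent Groth.Agent.Lib.DR.Representative Groth.Agent.Lib.DR.BaseChange

attribute [local instance] HasDerivedCategory.standard

namespace Groth.Agent.Lib.Perfect.FlatPerfect

open Groth.Agent.Lib.Perfect.Basic Groth.Agent.Lib.Perfect.PseudoCoh

section Ring

variable {A : Type u} [CommRing A]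

/-- If `E` maps to an object of tor amplitude `≥ a` with cone `≤ a - 2`, its cokernel at `a` is
flat. -/
theorem flat_coker_of_coneLE {K : Dual.D A} {a c u : ℤ} {E : DRing.Cx A}
    (f : DerivedCategory.Q.obj E ⟶ K) (hE : ∀ i, u < i → IsZero (E.X i))
    (hEp : ∀ i, flat A (E.X i)) (hf : ConeLE f (a - 2)) (h : Bdd (flat A) a c K) :
    Module.Flat A ((E.X a) ⧸ LinearMap.range (E.d (a - 1) a).hom) := by
  obtain ⟨Z, g, k, hd, hZ⟩ := hf
  let T := (Triangle.mk f g k).invRotate
  have hT : T ∈ distTriang _ := inv_rot_of_distTriang _ hd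
  have hT1 : T.obj₁.IsLE (a - 1) :=
    DerivedCategory.TStructure.t.isLE_shift Z (a - 2) (-1) (a - 1) (by lia)
  obtain ⟨G, hG, hGp, ⟨e⟩⟩ := Representative.ba_free hT1
  have := isKProjective_of_bounds Representative.projective_of_free' hG hGp
  obtain ⟨φ, hφ⟩ := exists_Q_map_eq (e.hom ≫ T.mor₁)
  obtain ⟨iso, -⟩ := exists_iso_of_arrow_iso _ _
    (DerivedCategory.mappingCone_triangle_distinguished φ) hT
    (Arrow.isoMk e (Iso.refl _) (hφ.symm.trans (Category.comp_id _).symm))
  let C := CochainComplex.mappingCone φ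
  let eC : DerivedCategory.Q.obj C ≅ K := Triangle.π₃.mapIso iso
  have hfl : ∀ i, flat A (C.X i) := fun i =>
    good_flat.iso (HomologicalComplex.homotopyCofiber.XIsoBiprod φ i (i + 1) rfl).symm
      (good_flat.biprod (flat_of_free _ (hGp (i + 1))) (hEp i))
  have hz : ∀ i, max u (a - 1) < i → IsZero (C.X i) := fun i hi => by
    refine IsZero.of_iso ?_ (HomologicalComplex.homotopyCofiber.XIsoBiprod φ i (i + 1) rfl)
    rw [biprod_isZero_iff]
    exact ⟨hG _ (by lia), hE _ (by lia)⟩
  have hflat := TorAmp.flat_coker C hz hfl (h.of_iso eC.symm)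
  have hiso : ∀ i, a - 1 ≤ i → IsIso ((CochainComplex.mappingCone.inr φ).f i) := fun i hi => by
    refine ⟨CochainComplex.mappingCone.snd φ |>.v i i (add_zero i),
      CochainComplex.mappingCone.inr_f_snd_v φ i, ?_⟩
    have h0 : (CochainComplex.mappingCone.fst φ).1.v i (i + 1) rfl = 0 :=
      (hG (i + 1) (by lia)).eq_of_tgt _ _
    have := CochainComplex.mappingCone.id_X φ i (i + 1) rfl
    rw [h0, zero_comp, zero_add] at this
    exact this
  haveI := hiso (a - 1) le_rfl
  haveI := hiso a (by lia)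
  exact Module.Flat.of_linearEquiv
    ((ModuleCat.cokernelIsoRangeQuotient (E.d (a - 1) a)).symm ≪≫
      cokernel.mapIso _ _ (asIso ((CochainComplex.mappingCone.inr φ).f (a - 1)))
        (asIso ((CochainComplex.mappingCone.inr φ).f a))
        ((CochainComplex.mappingCone.inr φ).comm (a - 1) a).symm ≪≫
      ModuleCat.cokernelIsoRangeQuotient (C.d (a - 1) a)).toLinearEquiv

end Ring

open Groth.Agent.Lib.Modules StalkModule

variable {X U : Scheme.{u}}

/-- The stalk on derived categories. -/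
noncomputable abbrev SD (x : X) : DCoh.D X ⥤ Dual.D (X.presheaf.stalk x) :=
  haveI : PreservesFiniteColimits (stalkModFunctor X x) :=
    PreservesColimitsOfSize.preservesFiniteColimits _
  (stalkModFunctor X x).mapDerivedCategory

/-- Flat amplitude on stalks. -/
theorem bdd_stalk {a b : ℤ} {K : DCoh.D X} (h : DCoh.HasFlatAmplitudeIn a b K) (x : X) :
    Bdd (flat (X.presheaf.stalk x)) a b ((SD x).obj K) := by
  haveI : PreservesFiniteColimits (stalkModFunctor X x) :=
    PreservesColimitsOfSize.preservesFiniteColimits _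
  obtain ⟨E, hE, hf, ⟨e⟩⟩ := h
  exact ⟨((stalkModFunctor X x).mapHomologicalComplex (ComplexShape.up ℤ)).obj E,
    fun i hi => (stalkModFunctor X x).map_isZero (hE i hi), fun i => hf i x,
    ⟨(ExactPush.mapQ (stalkModFunctor X x) E).symm ≪≫ (SD x).mapIso e⟩⟩

/-- Flatness at a point passes to opens. -/
theorem isFlatAt_restrict (j : U ⟶ X) [IsOpenImmersion j] {M : X.Modules} (x : U)
    (hM : FlatMod.IsFlatAt M (j x)) : FlatMod.IsFlatAt (M.restrict j) x := by
  let σ : X.presheaf.stalk (j x) ≃+* U.presheaf.stalk x :=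
    (asIso (j.stalkMap x)).commRingCatIsoToRingEquiv
  let e := StalkRestrict.restrictStalkAddEquiv j M x
  letI : Algebra (X.presheaf.stalk (j x)) (U.presheaf.stalk x) := σ.toRingHom.toAlgebra
  haveI : Module.Flat (X.presheaf.stalk (j x)) (M.presheaf.stalk (j x)) := hM
  letI : Module (X.presheaf.stalk (j x)) ((M.restrict j).presheaf.stalk x) :=
    Module.compHom _ σ.toRingHom
  haveI : IsScalarTower (X.presheaf.stalk (j x)) (U.presheaf.stalk x)
      ((M.restrict j).presheaf.stalk x) := IsScalarTower.of_algebraMap_smul fun _ _ => rfl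
  let e' : M.presheaf.stalk (j x) ≃ₗ[X.presheaf.stalk (j x)] (M.restrict j).presheaf.stalk x :=
    { e.symm with
      map_smul' := fun a v => by
        apply e.injective
        change e (e.symm (a • v)) = e (j.stalkMap x a • e.symm v)
        rw [StalkRestrict.restrictStalkAddEquiv_smul]
        change e (e.symm (a • v)) = a • e (e.symm v)
        rw [e.apply_symm_apply, e.apply_symm_apply] }
  haveI : Module.Flat (X.presheaf.stalk (j x)) ((M.restrict j).presheaf.stalk x) :=
    Module.Flat.of_linearEquiv e'.symm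
  change Module.Flat (U.presheaf.stalk x) ((M.restrict j).presheaf.stalk x)
  haveI : IsLocalization (⊥ : Submonoid (X.presheaf.stalk (j x))) (X.presheaf.stalk (j x)) :=
    IsLocalization.self bot_le
  haveI : IsLocalization (⊥ : Submonoid (X.presheaf.stalk (j x))) (U.presheaf.stalk x) :=
    IsLocalization.isLocalization_of_algEquiv (⊥ : Submonoid (X.presheaf.stalk (j x)))
      (AlgEquiv.ofRingEquiv (f := σ) fun _ => rfl)
  exact (Module.flat_iff_of_isLocalization (R := X.presheaf.stalk (j x)) (U.presheaf.stalk x)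
    (⊥ : Submonoid (X.presheaf.stalk (j x))) ((M.restrict j).presheaf.stalk x)).2 inferInstance

/-- Flatness at a point descends from an open. -/
theorem isFlatAt_of_restrict (j : U ⟶ X) [IsOpenImmersion j] {M : X.Modules} (x : U)
    (hM : FlatMod.IsFlatAt (M.restrict j) x) : FlatMod.IsFlatAt M (j x) := by
  let σ : X.presheaf.stalk (j x) ≃+* U.presheaf.stalk x :=
    (asIso (j.stalkMap x)).commRingCatIsoToRingEquiv
  let e := StalkRestrict.restrictStalkAddEquiv j M x
  letI : Algebra (X.presheaf.stalk (j x)) (U.presheaf.stalk x) := σ.toRingHom.toAlgebra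
  letI : Module (X.presheaf.stalk (j x)) ((M.restrict j).presheaf.stalk x) :=
    Module.compHom _ σ.toRingHom
  haveI : IsScalarTower (X.presheaf.stalk (j x)) (U.presheaf.stalk x)
      ((M.restrict j).presheaf.stalk x) := IsScalarTower.of_algebraMap_smul fun _ _ => rfl
  haveI : IsLocalization (⊥ : Submonoid (X.presheaf.stalk (j x))) (X.presheaf.stalk (j x)) :=
    IsLocalization.self bot_le
  haveI : IsLocalization (⊥ : Submonoid (X.presheaf.stalk (j x))) (U.presheaf.stalk x) :=
    IsLocalization.isLocalization_of_algEquiv (⊥ : Submonoid (X.presheaf.stalk (j x)))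
      (AlgEquiv.ofRingEquiv (f := σ) fun _ => rfl)
  haveI : Module.Flat (U.presheaf.stalk x) ((M.restrict j).presheaf.stalk x) := hM
  haveI : Module.Flat (X.presheaf.stalk (j x)) ((M.restrict j).presheaf.stalk x) :=
    (Module.flat_iff_of_isLocalization (R := X.presheaf.stalk (j x)) (U.presheaf.stalk x)
      (⊥ : Submonoid (X.presheaf.stalk (j x))) ((M.restrict j).presheaf.stalk x)).1 inferInstance
  let e' : M.presheaf.stalk (j x) ≃ₗ[X.presheaf.stalk (j x)] (M.restrict j).presheaf.stalk x :=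
    { e.symm with
      map_smul' := fun a v => by
        apply e.injective
        change e (e.symm (a • v)) = e (j.stalkMap x a • e.symm v)
        rw [StalkRestrict.restrictStalkAddEquiv_smul]
        change e (e.symm (a • v)) = a • e (e.symm v)
        rw [e.apply_symm_apply, e.apply_symm_apply] }
  exact Module.Flat.of_linearEquiv e'

/-- Flatness restricts to opens. -/
theorem isFlat_restrict (j : U ⟶ X) [IsOpenImmersion j] {M : X.Modules} (hM : FlatMod.IsFlat M) :
    FlatMod.IsFlat (M.restrict j) := fun x => isFlatAt_restrict j x (hM (j x))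

/-- Flat amplitude restricts to opens. -/
theorem flatAmp_restrict (j : U ⟶ X) [IsOpenImmersion j] {a b : ℤ} {K : DCoh.D X}
    (h : DCoh.HasFlatAmplitudeIn a b K) : DCoh.HasFlatAmplitudeIn a b ((RD j).obj K) := by
  obtain ⟨E, hE, hf, ⟨e⟩⟩ := h
  exact ⟨(rC j).obj E, fun i hi => (Scheme.Modules.restrictFunctor j).map_isZero (hE i hi),
    fun i => isFlat_restrict j (hf i), ⟨(RDQ j E).symm ≪≫ (RD j).mapIso e⟩⟩

/-- Pseudo-coherent with stalks of tor amplitude `≥ a`: locally strictly perfect in degrees `≥ a`. -/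
theorem exists_ge_of_stalk {K : DCoh.D X} {x : X} {a : ℤ} (hK : PCAt (a - 1) K x) (hge : K.IsGE a)
    (hx : ∀ (U : Scheme.{u}) (j : U ⟶ X) [IsOpenImmersion j] (y : U), j y = x →
      ∃ c, Bdd (flat (U.presheaf.stalk y)) a c ((SD y).obj ((RD j).obj K))) :
    ∃ (U : Scheme.{u}) (j : U ⟶ X) (_ : IsOpenImmersion j) (y : U)
      (E : CochainComplex U.Modules ℤ), j y = x ∧ DCoh.IsStrictlyPerfect E ∧
        (∀ i, i < a → IsZero (E.X i)) ∧ Nonempty ((RD j).obj K ≅ DerivedCategory.Q.obj E) := by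
  obtain ⟨U, j, _, y, P, α, hy, hP, hα⟩ := hK
  obtain ⟨c, hc⟩ := hx U j y hy
  haveI : PreservesFiniteColimits (stalkModFunctor U y) :=
    PreservesColimitsOfSize.preservesFiniteColimits _
  obtain ⟨⟨p, q, hv⟩, hlf⟩ := id hP
  -- the stalk of the cokernel at `a` is free
  let Py := ((stalkModFunctor U y).mapHomologicalComplex (ComplexShape.up ℤ)).obj P
  let αy : DerivedCategory.Q.obj Py ⟶ (SD y).obj ((RD j).obj K) :=
    (ExactPush.mapQ (stalkModFunctor U y) P).inv ≫ (SD y).map α
  have hcone : ConeLE αy (a - 2) := by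
    obtain ⟨Z, g, k, hd⟩ := distinguished_cocone_triangle α
    have hz := (Ascent.good_iff (a - 1) _ hd).1 hα
    have hZ : Z.IsLE (a - 2) := (DerivedCategory.isLE_iff Z (a - 2)).2 fun i hi => hz i (by omega)
    exact (coneLE_of_isIso (ExactPush.mapQ (stalkModFunctor U y) P).inv _).comp
      (ExactPush.coneLE_map (stalkModFunctor U y) ⟨Z, g, k, hd, hZ⟩)
  have hflat := flat_coker_of_coneLE αy
    (fun i hi => (stalkModFunctor U y).map_isZero (hv i (Or.inr hi)))
    (fun i => TensorMod.FPConv.isFlat_of_isFinLocFree (hlf i) y) hcone hc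
  let C := cokernel (P.d (a - 1) a)
  -- free terms near `y`
  obtain ⟨V, n, hyV, -, he⟩ := EulerChar.exists_free_terms hP y
  let R := Scheme.Modules.restrictFunctor V.ι
  haveI : PreservesColimitsOfSize.{0, 0} R :=
    (Scheme.Modules.restrictAdjunction V.ι).leftAdjoint_preservesColimits
  let e1 := (he (a - 1)).some
  let e2 := (he a).some
  let φ0 : FlatMod.freeMod (V : Scheme.{u}) (n (a - 1)) ⟶ FlatMod.freeMod (V : Scheme.{u}) (n a) :=
    e1.inv ≫ R.map (P.d (a - 1) a) ≫ e2.hom
  let eC : C.restrict V.ι ≅ cokernel φ0 :=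
    PreservesCokernel.iso R (P.d (a - 1) a) ≪≫ cokernel.mapIso _ φ0 e1 e2 (by simp [φ0])
  let yV : (V : Scheme.{u}) := ⟨y, hyV⟩
  have hfree : Module.Free ((V : Scheme.{u}).presheaf.stalk yV)
      ((C.restrict V.ι).presheaf.stalk yV) := by
    haveI : Module.Flat ((V : Scheme.{u}).presheaf.stalk yV) ((C.restrict V.ι).presheaf.stalk yV) := by
      refine isFlatAt_restrict V.ι yV ?_
      change Module.Flat (U.presheaf.stalk y) (C.presheaf.stalk y)
      haveI := hflat
      exact Module.Flat.of_linearEquiv (PreservesCokernel.iso (stalkModFunctor U y) (P.d (a - 1) a) ≪≫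
        ModuleCat.cokernelIsoRangeQuotient (Py.d (a - 1) a)).toLinearEquiv
    haveI : Module.Finite ((V : Scheme.{u}).presheaf.stalk yV)
        ((C.restrict V.ι).presheaf.stalk yV) := by
      let π := cokernel.π φ0 ≫ eC.inv
      haveI : Module.Finite ((V : Scheme.{u}).presheaf.stalk yV)
          ((FlatMod.freeMod (V : Scheme.{u}) (n a)).presheaf.stalk yV) :=
        Module.Finite.of_basis (FreeStalk.stalkBasis _ (n a) yV)
      exact Module.Finite.of_surjective (stalkMapₗ π yV)
        ((Modules.Stalk.epi_iff_stalk_surjective π).1 (epi_comp _ _) yV)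
    exact Module.free_of_flat_of_isLocalRing
  obtain ⟨W, d, hyW, ⟨eW⟩⟩ := FreeNear.exists_free_near φ0 eC ⟨y, hyV⟩ hfree
  let l : (W : Scheme.{u}) ⟶ U := W.ι ≫ V.ι
  let KW := (RD l).obj ((RD j).obj K)
  haveI hgeW : KW.IsGE a := (DerivedCategory.isGE_iff _ a).2 fun i hi =>
    ((Scheme.Modules.restrictFunctor l).map_isZero
      (((Scheme.Modules.restrictFunctor j).map_isZero
        (DerivedCategory.isZero_of_isGE K a i hi)).of_iso (Coherent.homologyIso j K i))).of_iso
      (Coherent.homologyIso l _ i)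
  obtain ⟨F, hF, ⟨eF⟩⟩ := KW.exists_iso_Q_obj_of_isGE a
  let α' : DerivedCategory.Q.obj ((rC l).obj P) ⟶ DerivedCategory.Q.obj F :=
    (RDQ l P).inv ≫ (RD l).map α ≫ eF.hom
  have hα' : Ascent.Good (a - 1) α' :=
    (Ascent.Good.of_isIso _ _).comp ((good_restrict l hα).comp (Ascent.Good.of_isIso _ _))
  obtain ⟨Z, k, _, z, ψ, hz, hψ⟩ := Lift.exists_map (isStrictlyPerfect_map l hP) α' ⟨⟨y, hyV⟩, hyW⟩
  have hψg : Ascent.Good (a - 1) (DerivedCategory.Q.map ψ) := by
    have h1 : DerivedCategory.Q.map ψ = (RDQ k _).inv ≫ (RD k).map α' ≫ (RDQ k F).hom := by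
      rw [hψ]; simp
    rw [h1]
    exact (Ascent.Good.of_isIso _ _).comp ((good_restrict k hα').comp (Ascent.Good.of_isIso _ _))
  let P' := (rC k).obj ((rC l).obj P)
  let F' := (rC k).obj F
  haveI : F'.IsStrictlyGE a := (F'.isStrictlyGE_iff a).2 fun i hi =>
    (Scheme.Modules.restrictFunctor k).map_isZero (F.isZero_of_isStrictlyGE a i hi)
  haveI : QuasiIso (F'.πTruncGE a) := (F'.quasiIso_πTruncGE_iff a).2 inferInstance
  haveI : QuasiIso (CochainComplex.truncGEMap ψ a) := by
    rw [CochainComplex.quasiIso_truncGEMap_iff]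
    intro i hi
    rw [quasiIsoAt_iff_isIso_homologyMap]
    exact (NatIso.isIso_map_iff (DerivedCategory.homologyFunctorFactors Z.Modules i) ψ).1
      (hψg.1 i (by omega))
  obtain ⟨⟨p', q', hv'⟩, hlf'⟩ := isStrictlyPerfect_map k (isStrictlyPerfect_map l hP)
  have hcoker : FlatMod.IsFinLocFree (cokernel (P'.d (a - 1) a)) := by
    haveI : PreservesColimitsOfSize.{0, 0} (Scheme.Modules.restrictFunctor k) :=
      (Scheme.Modules.restrictAdjunction k).leftAdjoint_preservesColimits
    haveI : PreservesColimitsOfSize.{0, 0} (Scheme.Modules.restrictFunctor l) :=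
      (Scheme.Modules.restrictAdjunction l).leftAdjoint_preservesColimits
    refine TensorMod.LocFree.of_iso ?_ (TensorMod.LocFree.isFinLocFree_restrict k
      (TensorMod.LocFree.of_iso (((Scheme.Modules.restrictFunctorComp W.ι V.ι).app C) ≪≫ eW).symm
        (TensorMod.LocFree.of_rank (TensorMod.LocFree.isFinLocFree_freeMod _ d))))
    exact (Scheme.Modules.restrictFunctor k).mapIso
        (PreservesCokernel.iso (Scheme.Modules.restrictFunctor l) (P.d (a - 1) a)) ≪≫
      PreservesCokernel.iso (Scheme.Modules.restrictFunctor k) _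
  have hT : DCoh.IsStrictlyPerfect (P'.truncGE a) := by
    refine ⟨⟨a, max a q', fun i hi => ?_⟩, fun i => ?_⟩
    · rcases hi with hi | hi
      · exact (P'.truncGE a).isZero_of_isStrictlyGE a i hi
      · exact (hv' i (Or.inr (by omega))).of_iso (P'.truncGEXIso a i (by omega))
    · rcases lt_trichotomy i a with h | h | h
      · exact Stupid.isFinLocFree_isZero ((P'.truncGE a).isZero_of_isStrictlyGE a i h)
      · subst h
        exact TensorMod.LocFree.of_iso ((cokernelIsCokernel _).coconePointUniqueUpToIso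
          (P'.opcyclesIsCokernel (i - 1) i (by simp)) ≪≫ (P'.truncGEXIsoOpcycles i).symm) hcoker
      · exact TensorMod.LocFree.of_iso (P'.truncGEXIso a i h).symm (hlf' i)
  refine ⟨Z, k ≫ l ≫ j, inferInstance, z, P'.truncGE a, by simp [hz, hy, l], hT,
    fun i hi => (P'.truncGE a).isZero_of_isStrictlyGE a i hi, ⟨?_⟩⟩
  exact Triangle.RDComp k (l ≫ j) K ≪≫ (RD k).mapIso (Triangle.RDComp l j K) ≪≫ (RD k).mapIso eF ≪≫
    RDQ k F ≪≫ asIso (DerivedCategory.Q.map (F'.πTruncGE a)) ≪≫
    (asIso (DerivedCategory.Q.map (CochainComplex.truncGEMap ψ a))).symm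

/-- Pseudo-coherent with stalks of tor amplitude `≥ a` is perfect. -/
theorem perfAt_of_stalk {K : DCoh.D X} {x : X} {a : ℤ} (hK : PCAt (a - 1) K x) (hge : K.IsGE a)
    (hx : ∀ (U : Scheme.{u}) (j : U ⟶ X) [IsOpenImmersion j] (y : U), j y = x →
      ∃ c, Bdd (flat (U.presheaf.stalk y)) a c ((SD y).obj ((RD j).obj K))) :
    Triangle.PerfAt K x := by
  obtain ⟨U, j, _, y, E, hy, hE, -, he⟩ := exists_ge_of_stalk hK hge hx
  exact ⟨U, j, inferInstance, y, E, hy, hE, he⟩

/-- Perfect iff pseudo-coherent and locally of finite tor dimension. -/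
theorem isPerfect_iff_pc_tor (K : DCoh.D X) :
    DCoh.IsPerfect K ↔ (∀ m : ℤ, DCoh.IsPseudoCoherentD m K) ∧ DCoh.LocHasFiniteTorDim K := by
  constructor
  · intro h
    refine ⟨fun m => (iff_forall m K).2 fun x => ?_, fun x => ?_⟩
    · obtain ⟨U, j, _, y, E, hy, hE, ⟨e⟩⟩ := (Triangle.isPerfect_iff K).1 h x
      exact ⟨U, j, inferInstance, y, E, e.inv, hy, hE, Ascent.Good.of_isIso m _⟩
    · obtain ⟨V, hx, hV⟩ := h x
      let e := DerivedCategory.Q.objObjPreimageIso K
      obtain ⟨E, ⟨⟨a, b, hv⟩, hlf⟩, ⟨i⟩⟩ := hV _ ⟨e⟩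
      refine ⟨V, a, b, hx, fun F ⟨eF⟩ => ⟨E, hv,
        fun k => TensorMod.FPConv.isFlat_of_isFinLocFree (hlf k), ⟨?_⟩⟩⟩
      exact i.symm ≪≫ (RDQ V.ι _).symm ≪≫ (RD V.ι).mapIso (e ≪≫ eF.symm) ≪≫ RDQ V.ι F
  · rintro ⟨hpc, htor⟩
    refine (Triangle.isPerfect_iff K).2 fun x => ?_
    obtain ⟨V, a, b, hx, hV⟩ := htor x
    let e := DerivedCategory.Q.objObjPreimageIso K
    have hamp : DCoh.HasFlatAmplitudeIn a b ((RD V.ι).obj K) := by
      obtain ⟨E, hv, hf, ⟨i⟩⟩ := hV _ ⟨e⟩
      exact ⟨E, hv, hf, ⟨i ≪≫ (RDQ V.ι _).symm ≪≫ (RD V.ι).mapIso e⟩⟩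
    refine Triangle.PerfAt.of_restrict (j := V.ι) (y := ⟨x, hx⟩) rfl
      (perfAt_of_stalk (a := a) (PCAt.restrict V.ι _ ((iff_forall (a - 1) K).1 (hpc _) x)) ?_ ?_)
    · obtain ⟨E, hv, -, ⟨i⟩⟩ := hamp
      exact isGE_of_iso' i (isGE_Q_of_isZero E a fun k hk => hv k (Or.inl hk))
    · intro U j _ y _
      exact ⟨b, bdd_stalk (flatAmp_restrict j hamp) y⟩

end Groth.Agent.Lib.Perfect.FlatPerfect
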