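import Groth.Agent.Lib.Perfect.FreeNear
import Groth.Agent.Lib.Perfect.Top
import Groth.Agent.Lib.Perfect.EulerChar

/-!
# The locus where the cohomology of a perfect object is locally free
-/

set_option autoImplicit false
set_option linter.style.haveILetI false

universe u

open CategoryTheory Limits AlgebraicGeometry

namespace Groth.Agent.Lib.Perfect.LocFreeCoh

open Groth.Agent.Lib Groth.Agent.Lib.Perfect.Basic Groth.Agent.Lib.Modules

attribute [local instance] HasDerivedCategory.standard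

variable {X U : Scheme.{u}}

/-- Cycles and homology are locally free in degrees `> c`. -/
def LFAbove (E : CochainComplex U.Modules ℤ) (c : ℤ) : Prop :=
  ∀ i, c < i → FlatMod.IsFinLocFree (E.cycles i) ∧ FlatMod.IsFinLocFree (E.homology i)

lemma lfAbove_map (j : U ⟶ X) [IsOpenImmersion j] {E : CochainComplex X.Modules ℤ} {c : ℤ}
    (h : LFAbove E c) : LFAbove ((rC j).obj E) c := fun i hi =>
  ⟨TensorMod.LocFree.of_iso ((E.sc i).mapCyclesIso (Scheme.Modules.restrictFunctor j)).symm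
      (TensorMod.LocFree.isFinLocFree_restrict j (h i hi).1),
    TensorMod.LocFree.of_iso ((E.sc i).mapHomologyIso (Scheme.Modules.restrictFunctor j)).symm
      (TensorMod.LocFree.isFinLocFree_restrict j (h i hi).2)⟩

/-- Free stalks of homology are inherited by restrictions. -/
lemma free_stalk_map (j : U ⟶ X) [IsOpenImmersion j] {E : CochainComplex X.Modules ℤ} (k : ℤ)
    (y : U) (h : Module.Free (X.presheaf.stalk (j y)) ((E.homology k).presheaf.stalk (j y))) :
    Module.Free (U.presheaf.stalk y) ((((rC j).obj E).homology k).presheaf.stalk y) :=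
  Module.Free.of_equiv' ((FreeNear.free_stalk_restrict_iff j (E.homology k) y).2 h)
    (StalkModule.stalkLinearEquiv ((E.sc k).mapHomologyIso (Scheme.Modules.restrictFunctor j)).symm y)

/-- One step down. -/
theorem step {E : CochainComplex U.Modules ℤ} (hE : DCoh.IsStrictlyPerfect E) {c : ℤ}
    (h : LFAbove E c) (x : U) (hx : Module.Free (U.presheaf.stalk x) ((E.homology c).presheaf.stalk x)) :
    ∃ V : U.Opens, x ∈ V ∧ LFAbove ((rC V.ι).obj E) (c - 1) := by
  -- the cycles in degree `c`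
  have hZ : FlatMod.IsFinLocFree (E.cycles c) := by
    obtain ⟨hZ', hH'⟩ := h (c + 1) (by omega)
    have hB := Top.isFinLocFree_kernel (E.homologyπ (c + 1)) hZ' hH'
    let q : E.X c ⟶ kernel (E.homologyπ (c + 1)) :=
      kernel.lift _ (E.toCycles c (c + 1)) (E.toCycles_comp_homologyπ _ _)
    have hse : (ShortComplex.mk (E.toCycles c (c + 1)) (E.homologyπ (c + 1))
        (E.toCycles_comp_homologyπ _ _)).Exact :=
      ShortComplex.exact_of_g_is_cokernel _ (E.homologyIsCokernel c (c + 1) (by simp))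
    haveI : Epi q := (ShortComplex.exact_iff_epi_kernel_lift _).1 hse
    refine TensorMod.LocFree.of_iso ?_ (Top.isFinLocFree_kernel q (hE.2 c) hB)
    exact (kernelCompMono q (kernel.ι _)).symm ≪≫ kernelIsoOfEq (kernel.lift_ι _ _ _) ≪≫
      (kernelCompMono (E.toCycles c (c + 1)) (E.iCycles (c + 1))).symm ≪≫
      kernelIsoOfEq (E.toCycles_i c (c + 1)) ≪≫
      (limit.isLimit _).conePointUniqueUpToIso (E.cyclesIsKernel c (c + 1) (by simp))
  -- the homology in degree `c`
  let δ := E.toCycles (c - 1) c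
  let eH : E.homology c ≅ cokernel δ :=
    (E.homologyIsCokernel (c - 1) c (by simp)).coconePointUniqueUpToIso (colimit.isColimit _)
  obtain ⟨V₁, a, hx₁, -, ⟨eZ⟩⟩ := Free.exists_free_le hZ (W := ⊤) (x := x) trivial
  obtain ⟨V₂, b, hx₂, hle, ⟨eX⟩⟩ := Free.exists_free_le (hE.2 (c - 1)) hx₁
  let R := Scheme.Modules.restrictFunctor V₂.ι
  haveI : PreservesColimitsOfSize.{0, 0} R :=
    (Scheme.Modules.restrictAdjunction V₂.ι).leftAdjoint_preservesColimits
  let eZ' := Free.freeOfLE hle eZ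
  obtain ⟨V, d, hxV, ⟨eF⟩⟩ := FreeNear.exists_free_near (M := R.obj (E.homology c))
    (eX.inv ≫ R.map δ ≫ eZ'.hom)
    (R.mapIso eH ≪≫ PreservesCokernel.iso R δ ≪≫ cokernel.mapIso (R.map δ) _ eX eZ' (by simp))
    ⟨x, hx₂⟩ ((FreeNear.free_stalk_restrict_iff V₂.ι (E.homology c) _).2 hx)
  let j := V.ι ≫ V₂.ι
  refine ⟨j.opensRange, ⟨⟨⟨x, hx₂⟩, hxV⟩, rfl⟩, fun i hi => ?_⟩
  rcases eq_or_lt_of_le (show c ≤ i by omega) with rfl | hlt
  · refine ⟨TensorMod.LocFree.of_iso ((E.sc c).mapCyclesIso (Scheme.Modules.restrictFunctor j.opensRange.ι)).symm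
      (TensorMod.LocFree.isFinLocFree_restrict _ hZ),
      TensorMod.LocFree.of_iso ((E.sc c).mapHomologyIso (Scheme.Modules.restrictFunctor j.opensRange.ι)).symm ?_⟩
    obtain ⟨e⟩ := Kaehler.LocFree.free_nhd_of_chart j
      ((Scheme.Modules.restrictFunctorComp V.ι V₂.ι).app (E.homology c) ≪≫ eF)
    exact TensorMod.LocFree.of_iso e.symm
      (TensorMod.LocFree.of_rank (TensorMod.LocFree.isFinLocFree_freeMod _ d))
  · exact lfAbove_map _ h i hlt

/-- If all stalks of the homology at `x` are free, the homology is locally free near `x`. -/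
theorem exists_lf_near : ∀ (n : ℕ) {U : Scheme.{u}} {E : CochainComplex U.Modules ℤ} (a b : ℤ),
    DCoh.VanishesOutside E a b → DCoh.IsStrictlyPerfect E → ∀ x : U,
    (∀ k, Module.Free (U.presheaf.stalk x) ((E.homology k).presheaf.stalk x)) →
    ∃ V : U.Opens, x ∈ V ∧ LFAbove ((rC V.ι).obj E) (b - n) := by
  intro n
  induction n with
  | zero =>
    intro U E a b hv _ x _
    refine ⟨⊤, trivial, lfAbove_map _ fun i hi => ?_⟩
    have hz := hv i (Or.inr (by omega))
    exact ⟨Stupid.isFinLocFree_isZero (IsZero.of_mono (E.iCycles i) hz),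
      Stupid.isFinLocFree_isZero (HomologicalComplex.ExactAt.of_isZero hz).isZero_homology⟩
  | succ n ih =>
    intro U E a b hv hE x hx
    obtain ⟨V, hxV, hV⟩ := ih a b hv hE x hx
    obtain ⟨W, hW, hW'⟩ := step (isStrictlyPerfect_map V.ι hE) hV ⟨x, hxV⟩
      (free_stalk_map V.ι _ ⟨x, hxV⟩ (hx _))
    let j := W.ι ≫ V.ι
    refine ⟨j.opensRange, ⟨⟨⟨x, hxV⟩, hW⟩, rfl⟩, fun i hi => ?_⟩
    have key := lfAbove_map j.isoOpensRange.inv hW' i (by omega)
    let ε : (rC j.isoOpensRange.inv).obj ((rC W.ι).obj ((rC V.ι).obj E)) ≅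
        (rC j.opensRange.ι).obj E :=
      (rC j.isoOpensRange.inv).mapIso ((rCComp W.ι V.ι).app E).symm ≪≫
        ((rCComp j.isoOpensRange.inv j).app E).symm ≪≫
        (rCCongr j.isoOpensRange_inv_comp).app E
    exact ⟨TensorMod.LocFree.of_iso ((HomologicalComplex.cyclesFunctor _ _ i).mapIso ε) key.1,
      TensorMod.LocFree.of_iso ((HomologicalComplex.homologyFunctor _ _ i).mapIso ε) key.2⟩

/-- Stalks of a module at points of a chart where it is free are finite free. -/
theorem free_stalk_of_chart {M : X.Modules} (j : U ⟶ X) [IsOpenImmersion j] {n : ℕ}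
    (e : M.restrict j ≅ FlatMod.freeMod U n) (y : U) :
    Module.Free (X.presheaf.stalk (j y)) (M.presheaf.stalk (j y)) ∧
      Module.Finite (X.presheaf.stalk (j y)) (M.presheaf.stalk (j y)) := by
  classical
  let b := (FreeStalk.stalkBasis U n y).map (StalkModule.stalkLinearEquiv e y).symm
  haveI : Module.Free (U.presheaf.stalk y) ((M.restrict j).presheaf.stalk y) :=
    Module.Free.of_basis b
  refine ⟨(FreeNear.free_stalk_restrict_iff j M y).1 this,
    ⟨⟨Finset.univ.image fun i => StalkRestrict.restrictStalkAddEquiv j M y (b i), ?_⟩⟩⟩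
  refine eq_top_iff.2 fun v _ => ?_
  obtain ⟨w, rfl⟩ := (StalkRestrict.restrictStalkAddEquiv j M y).surjective v
  have h1 : StalkRestrict.restrictStalkAddEquiv j M y w ∈
      (Submodule.span (X.presheaf.stalk (j y))
        (StalkRestrict.restrictStalkAddEquiv j M y '' Set.range b) : Set _) := by
    rw [StalkRestrict.span_image_restrictStalkAddEquiv]
    exact ⟨w, by rw [b.span_eq]; trivial, rfl⟩
  refine Submodule.span_mono ?_ h1
  rintro _ ⟨_, ⟨i, rfl⟩, rfl⟩
  exact Finset.mem_coe.2 (Finset.mem_image_of_mem _ (Finset.mem_univ i))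

/-- Near a point with free stalks, the cohomology of a perfect object is locally free. -/
theorem exists_nhd {K : DCoh.D X} (hK : DCoh.IsPerfect K) (x : X)
    (hx : ∀ k : ℤ, Module.Free (X.presheaf.stalk x) ((DCoh.HD K k).presheaf.stalk x)) :
    ∃ W : X.Opens, x ∈ W ∧ ∀ k : ℤ, FlatMod.IsFinLocFree ((DCoh.HD K k).restrict W.ι) := by
  obtain ⟨U, j, _, y, E, rfl, hE, ⟨i⟩⟩ := (Triangle.isPerfect_iff K).1 hK x
  let eH : ∀ k, E.homology k ≅ (DCoh.HD K k).restrict j := fun k =>
    ((DerivedCategory.homologyFunctorFactors U.Modules k).app E).symm ≪≫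
      (DerivedCategory.homologyFunctor U.Modules k).mapIso i.symm ≪≫ Coherent.homologyIso j K k
  obtain ⟨a, b, hv⟩ := hE.1
  obtain ⟨V, hyV, hV⟩ := exists_lf_near ((b - a).toNat + 1) a b hv hE y fun k =>
    haveI := (FreeNear.free_stalk_restrict_iff j (DCoh.HD K k) y).2 (hx k)
    Module.Free.of_equiv (StalkModule.stalkLinearEquiv (eH k).symm y)
  let l := V.ι ≫ j
  refine ⟨l.opensRange, ⟨⟨y, hyV⟩, by simp [l]⟩, fun k => ?_⟩
  have hk : FlatMod.IsFinLocFree ((E.homology k).restrict V.ι) := by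
    rcases lt_or_ge k a with h | h
    · exact Stupid.isFinLocFree_isZero ((Scheme.Modules.restrictFunctor V.ι).map_isZero
        (HomologicalComplex.ExactAt.of_isZero (hv k (Or.inl h))).isZero_homology)
    · exact TensorMod.LocFree.of_iso ((E.sc k).mapHomologyIso (Scheme.Modules.restrictFunctor V.ι))
        (hV k (by omega)).2
  exact TensorMod.LocFree.of_iso
    ((Scheme.Modules.restrictFunctor l.isoOpensRange.inv).mapIso
      ((Scheme.Modules.restrictFunctor V.ι).mapIso (eH k) ≪≫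
        ((Scheme.Modules.restrictFunctorComp V.ι j).app (DCoh.HD K k)).symm) ≪≫
      ((Scheme.Modules.restrictFunctorComp l.isoOpensRange.inv l).app (DCoh.HD K k)).symm ≪≫
      (Scheme.Modules.restrictFunctorCongr l.isoOpensRange_inv_comp).app (DCoh.HD K k))
    (TensorMod.LocFree.isFinLocFree_restrict _ hk)

/-- A module locally free on an open cover is finite locally free. -/
theorem isFinLocFree_of_local {M : X.Modules}
    (h : ∀ x : X, ∃ W : X.Opens, x ∈ W ∧ FlatMod.IsFinLocFree (M.restrict W.ι)) :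
    FlatMod.IsFinLocFree M :=
  Kaehler.LocFree.isFinLocFree_of_charts M fun x => by
    obtain ⟨W, hxW, hW⟩ := h x
    obtain ⟨V, n, hV, ⟨e⟩⟩ := hW ⟨x, hxW⟩
    exact ⟨_, V.ι ≫ W.ι, inferInstance, n, ⟨⟨⟨x, hxW⟩, hV⟩, rfl⟩,
      ⟨(Scheme.Modules.restrictFunctorComp V.ι W.ι).app M ≪≫ e⟩⟩

/-- The open locus where all cohomology sheaves of a perfect object are locally free. -/
theorem exists_locus {K : DCoh.D X} (hK : DCoh.IsPerfect K) :
    ∃ U : X.Opens,
      (U : Set X) = {x : X | ∀ i : ℤ, Module.Free (X.presheaf.stalk x) ((DCoh.HD K i).presheaf.stalk x) ∧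
        Module.Finite (X.presheaf.stalk x) ((DCoh.HD K i).presheaf.stalk x)} ∧
      (∀ i : ℤ, FlatMod.IsFinLocFree ((DCoh.HD K i).restrict U.ι)) ∧
      ∀ W : X.Opens, (∀ i : ℤ, FlatMod.IsFinLocFree ((DCoh.HD K i).restrict W.ι)) → W ≤ U := by
  let S : Set X := {x : X | ∀ i : ℤ, Module.Free (X.presheaf.stalk x) ((DCoh.HD K i).presheaf.stalk x) ∧
    Module.Finite (X.presheaf.stalk x) ((DCoh.HD K i).presheaf.stalk x)}
  have hsub : ∀ W : X.Opens, (∀ i : ℤ, FlatMod.IsFinLocFree ((DCoh.HD K i).restrict W.ι)) →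
      (W : Set X) ⊆ S := fun W hW x hx i => by
    obtain ⟨V, n, hV, ⟨e⟩⟩ := hW i ⟨x, hx⟩
    exact free_stalk_of_chart (M := DCoh.HD K i) (V.ι ≫ W.ι)
      ((Scheme.Modules.restrictFunctorComp V.ι W.ι).app (DCoh.HD K i) ≪≫ e) ⟨⟨x, hx⟩, hV⟩
  have hopen : IsOpen S := isOpen_iff_forall_mem_open.2 fun x hx => by
    obtain ⟨W, hxW, hW⟩ := exists_nhd hK x fun k => (hx k).1
    exact ⟨W, hsub W hW, W.2, hxW⟩
  refine ⟨⟨S, hopen⟩, rfl, fun i => isFinLocFree_of_local fun x => ?_, hsub⟩
  obtain ⟨W, hxW, hW⟩ := exists_nhd hK x.1 fun k => (x.2 k).1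
  let V : X.Opens := ⟨S, hopen⟩
  have hWV : W ≤ V := hsub W hW
  refine ⟨(X.homOfLE hWV).opensRange, ⟨⟨x.1, hxW⟩, Subtype.ext (by simp)⟩, ?_⟩
  exact TensorMod.LocFree.of_iso
    ((Scheme.Modules.restrictFunctor (X.homOfLE hWV).isoOpensRange.inv).mapIso
      ((Scheme.Modules.restrictFunctorCongr (X.homOfLE_ι hWV).symm).app _ ≪≫
        (Scheme.Modules.restrictFunctorComp (X.homOfLE hWV) V.ι).app _) ≪≫
      ((Scheme.Modules.restrictFunctorComp (X.homOfLE hWV).isoOpensRange.inv (X.homOfLE hWV)).app _).symm ≪≫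
      (Scheme.Modules.restrictFunctorCongr (X.homOfLE hWV).isoOpensRange_inv_comp).app _)
    (TensorMod.LocFree.isFinLocFree_restrict _ (hW i))

end Groth.Agent.Lib.Perfect.LocFreeCoh
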