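import Groth.Prelude.Def_KSix
import Groth.Agent.Lib.Perfect.FlatPerfect
import Groth.Agent.Lib.DerivedOX.AmplitudeStalk

/-!
# Perfect amplitude = pseudo-coherence + flat amplitude
-/

set_option autoImplicit false
set_option linter.style.haveILetI false

universe u

open CategoryTheory CategoryTheory.Limits CategoryTheory.Pretriangulated AlgebraicGeometry
open Groth.Agent.Lib
open Groth.Agent.Lib.DR Groth.Agent.Lib.DR.Basic Groth.Agent.Lib.DR.FiniteComplex
open Groth.Agent.Lib.DR.PseudoCoherent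

attribute [local instance] HasDerivedCategory.standard

namespace Groth.Agent.Lib.Perfect.PerfAmp

open Groth.Agent.Lib.Perfect.Basic Groth.Agent.Lib.Perfect.PseudoCoh
open Groth.Agent.Lib.Modules

variable {X : Scheme.{u}}

/-- Cutting a strictly perfect complex at the top of its cohomology. -/
theorem exists_truncLE {U : Scheme.{u}} {E : CochainComplex U.Modules ℤ}
    (hE : DCoh.IsStrictlyPerfect E) {a b : ℤ} (ha : ∀ i, i < a → IsZero (E.X i))
    (hle : E.IsLE b) :
    ∃ T : CochainComplex U.Modules ℤ, DCoh.VanishesOutside T a b ∧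
      (∀ i, FlatMod.IsFinLocFree (T.X i)) ∧
      Nonempty (DerivedCategory.Q.obj E ≅ DerivedCategory.Q.obj T) := by
  haveI : QuasiIso (E.ιTruncLE b) := (E.quasiIso_ιTruncLE_iff b).2 hle
  have hZ := Top.isFinLocFree_cycles hE b (fun i hi => (CochainComplex.isLE_iff E b).1 hle i hi) b le_rfl
  let eb : (E.truncLE b).X b ≅ kernel (E.d b (b + 1)) :=
    HomologicalComplex.truncLEXIsoCycles E (ComplexShape.embeddingUpIntLE b) (i := 0) (i' := b)
      (by simp) (by rw [ComplexShape.boundaryLE_embeddingUpIntLE_iff]) ≪≫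
      IsLimit.conePointUniqueUpToIso (E.cyclesIsKernel b (b + 1) (by simp)) (limit.isLimit _)
  refine ⟨E.truncLE b, fun i hi => ?_, fun i => ?_,
    ⟨(asIso (DerivedCategory.Q.map (E.ιTruncLE b))).symm⟩⟩
  · rcases lt_trichotomy i b with h | h | h
    · exact (ha i (by omega)).of_iso (E.truncLEXIso b i h)
    · subst h
      exact (IsZero.of_mono (kernel.ι _) (ha i (by omega))).of_iso eb
    · exact (E.truncLE b).isZero_of_isStrictlyLE b i h
  · rcases lt_trichotomy i b with h | h | h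
    · exact TensorMod.LocFree.of_iso (E.truncLEXIso b i h).symm (hE.2 i)
    · subst h
      exact TensorMod.LocFree.of_iso eb.symm hZ
    · exact Stupid.isFinLocFree_isZero ((E.truncLE b).isZero_of_isStrictlyLE b i h)

/-- Perfect amplitude from pseudo-coherence and flat amplitude. -/
theorem hasPerfectAmplitudeIn_of {K : DCoh.D X} {a b : ℤ} (hpc : DCoh.IsPseudoCoherentD (a - 1) K)
    (hfl : DCoh.HasFlatAmplitudeIn a b K) : KSix.HasPerfectAmplitudeIn a b K := fun x => by
  obtain ⟨F, hv, -, ⟨i⟩⟩ := id hfl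
  have hge : K.IsGE a := isGE_of_iso' i (isGE_Q_of_isZero F a fun k hk => hv k (Or.inl hk))
  have hle : K.IsLE b := isLE_of_iso' i (isLE_Q_of_isZero F b fun k hk => hv k (Or.inr hk))
  obtain ⟨U, j, _, y, E, hy, hE, hEa, ⟨e⟩⟩ := FlatPerfect.exists_ge_of_stalk (a := a)
    ((iff_forall (a - 1) K).1 hpc x) hge fun U j _ y _ =>
      ⟨b, FlatPerfect.bdd_stalk (FlatPerfect.flatAmp_restrict j hfl) y⟩
  have hEb : E.IsLE b := (DerivedCategory.isLE_Q_obj_iff E b).1
    (isLE_of_iso' e (ExactPush.isLE_map (Scheme.Modules.restrictFunctor j) hle))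
  obtain ⟨T, hTv, hTf, ⟨eT⟩⟩ := exists_truncLE hE hEa hEb
  let k := j.isoOpensRange.inv
  refine ⟨j.opensRange, ⟨y, hy⟩, fun F ⟨eF⟩ => ⟨(rC k).obj T,
    fun i hi => (Scheme.Modules.restrictFunctor k).map_isZero (hTv i hi),
    fun i => TensorMod.LocFree.isFinLocFree_restrict k (hTf i), ⟨?_⟩⟩⟩
  exact (RDQ j.opensRange.ι F).symm ≪≫ (RD j.opensRange.ι).mapIso eF ≪≫
    Triangle.RDCongr (Scheme.Hom.isoOpensRange_inv_comp j).symm K ≪≫ Triangle.RDComp k j K ≪≫
    (RD k).mapIso (e ≪≫ eT) ≪≫ RDQ k T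

/-- Perfect amplitude gives pseudo-coherence and flat amplitude. -/
theorem of_hasPerfectAmplitudeIn {K : DCoh.D X} {a b : ℤ} (hab : a ≤ b)
    (h : KSix.HasPerfectAmplitudeIn a b K) :
    DCoh.IsPseudoCoherentD (a - 1) K ∧ DCoh.HasFlatAmplitudeIn a b K := by
  let e := DerivedCategory.Q.objObjPreimageIso K
  have hloc : ∀ x : X, ∃ V : X.Opens, x ∈ V ∧
      ∃ E : CochainComplex (V : Scheme.{u}).Modules ℤ, DCoh.VanishesOutside E a b ∧
        (∀ i, FlatMod.IsFinLocFree (E.X i)) ∧ Nonempty ((RD V.ι).obj K ≅ DerivedCategory.Q.obj E) := by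
    intro x
    obtain ⟨V, hx, hV⟩ := h x
    obtain ⟨E, hv, hf, ⟨i⟩⟩ := hV _ ⟨e⟩
    exact ⟨V, hx, E, hv, hf, ⟨(RD V.ι).mapIso e.symm ≪≫ RDQ _ _ ≪≫ i⟩⟩
  choose V hxV E hv hf he using hloc
  refine ⟨(iff_forall (a - 1) K).2 fun x => ?_, ?_⟩
  · exact ⟨V x, (V x).ι, inferInstance, ⟨x, hxV x⟩, E x, (he x).some.inv, rfl,
      ⟨⟨a, b, hv x⟩, hf x⟩, Ascent.Good.of_isIso _ _⟩
  have hHD : ∀ i, i < a ∨ b < i → IsZero (DCoh.HD K i) := fun i hi => by
    refine Modules.Local.isZero_of_restrict V ?_ fun x => ?_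
    · exact eq_top_iff.2 fun z _ => TopologicalSpace.Opens.mem_iSup.2 ⟨z, hxV z⟩
    · exact ((((HomologicalComplex.ExactAt.of_isZero (hv x i hi)).isZero_homology).of_iso
        ((DerivedCategory.homologyFunctorFactors _ i).app (E x))).of_iso
        ((DerivedCategory.homologyFunctor _ i).mapIso (he x).some)).of_iso
        (Coherent.homologyIso (V x).ι K i).symm
  let K₀ := DerivedCategory.Q.objPreimage K
  have hK₀ : ∀ i, i < a ∨ b < i → K₀.ExactAt i := fun i hi => by
    rw [HomologicalComplex.exactAt_iff_isZero_homology]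
    exact (hHD i hi).of_iso (((DerivedCategory.homologyFunctorFactors X.Modules i).app K₀).symm ≪≫
      (DerivedCategory.homologyFunctor X.Modules i).mapIso e)
  obtain ⟨G, s, hG, hflat, hs⟩ := DerivedOX.FlatResolve.exists_flat_resolution K₀ b
    fun i hi => hK₀ i (Or.inr hi)
  haveI := hs
  let eG : DerivedCategory.Q.obj G ≅ K := asIso (DerivedCategory.Q.map s) ≪≫ e
  haveI : G.IsGE a := (DerivedCategory.isGE_Q_obj_iff G a).1
    (isGE_of_iso' eG.symm ((DerivedCategory.isGE_iff K a).2 fun i hi => hHD i (Or.inl hi)))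
  haveI : QuasiIso (G.πTruncGE a) := (G.quasiIso_πTruncGE_iff a).2 inferInstance
  have hcok : FlatMod.IsFlat (cokernel (G.d (a - 1) a)) := fun x => by
    let j := (V x).ι
    let y : (V x : Scheme.{u}) := ⟨x, hxV x⟩
    let R := Scheme.Modules.restrictFunctor j
    haveI : PreservesColimitsOfSize.{0, 0} R :=
      (Scheme.Modules.restrictAdjunction j).leftAdjoint_preservesColimits
    haveI : PreservesFiniteColimits (StalkModule.stalkModFunctor (V x : Scheme.{u}) y) :=
      PreservesColimitsOfSize.preservesFiniteColimits _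
    let S := StalkModule.stalkModFunctor (V x : Scheme.{u}) y
    let Gy := (S.mapHomologicalComplex (ComplexShape.up ℤ)).obj ((rC j).obj G)
    have hfl : ∀ i, flat _ (Gy.X i) := fun i => FlatPerfect.isFlat_restrict j (hflat i) y
    haveI := TorAmp.flat_coker Gy (a := a) (b := b) (c := b)
      (fun i hi => S.map_isZero (R.map_isZero (hG i hi))) hfl
      ((FlatPerfect.bdd_stalk (K := (RD j).obj K) (a := a) (b := b)
        ⟨E x, hv x, fun i => TensorMod.FPConv.isFlat_of_isFinLocFree (hf x i),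
          ⟨(he x).some.symm⟩⟩ y).of_iso
        ((FlatPerfect.SD y).mapIso ((RD j).mapIso eG.symm ≪≫ RDQ j G) ≪≫
          ExactPush.mapQ S ((rC j).obj G)))
    have hy : FlatMod.IsFlatAt ((cokernel (G.d (a - 1) a)).restrict j) y :=
      Module.Flat.of_linearEquiv ((S.mapIso (PreservesCokernel.iso R (G.d (a - 1) a)) ≪≫
        PreservesCokernel.iso S _ ≪≫
        ModuleCat.cokernelIsoRangeQuotient (Gy.d (a - 1) a)).toLinearEquiv)
    exact FlatPerfect.isFlatAt_of_restrict j y hy
  refine ⟨G.truncGE a, fun i hi => ?_, fun i => ?_,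
    ⟨(asIso (DerivedCategory.Q.map (G.πTruncGE a))).symm ≪≫ eG⟩⟩
  · rcases hi with hi | hi
    · exact (G.truncGE a).isZero_of_isStrictlyGE a i hi
    · exact (hG i hi).of_iso (G.truncGEXIso a i (lt_of_le_of_lt hab hi))
  · rcases lt_trichotomy i a with h' | h' | h'
    · exact DerivedOX.FlatResolve.good_isFlat.zero ((G.truncGE a).isZero_of_isStrictlyGE a i h')
    · subst h'
      exact DerivedOX.FlatResolve.good_isFlat.iso (IsColimit.coconePointUniqueUpToIso
        (cokernelIsCokernel _) (G.opcyclesIsCokernel (i - 1) i (by simp)) ≪≫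
          (G.truncGEXIsoOpcycles i).symm) hcok
    · exact DerivedOX.FlatResolve.good_isFlat.iso (G.truncGEXIso a i h').symm (hflat i)

end Groth.Agent.Lib.Perfect.PerfAmp
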