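import Mathlib.Algebra.Homology.DerivedCategory.KProjective
import Mathlib.Algebra.Homology.Embedding.CochainComplex
import Groth.Agent.Lib.Perfect.Pullback
import Groth.Agent.Lib.Perfect.PseudoCoh

/-!
# `Lf^*` preserves pseudo-coherence
-/

set_option autoImplicit false
set_option linter.style.haveILetI false

universe v v' u u'

open CategoryTheory Limits AlgebraicGeometry HomologicalComplex

namespace Groth.Agent.Lib.Perfect.PullPC

section

variable {C : Type u} [Category.{v} C] [Abelian C] {D : Type u'} [Category.{v'} D] [Abelian D]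

attribute [local instance] HasDerivedCategory.standard

/-- An additive functor keeps a K-projective complex exact in high degrees. -/
theorem exactAt_map_of_isKProjective (T : C ⥤ D) [T.Additive] (K : CochainComplex C ℤ)
    [K.IsKProjective] (m : ℤ) (h : ∀ i, m ≤ i → K.ExactAt i) (i : ℤ) (hi : m ≤ i) :
    ((T.mapHomologicalComplex (.up ℤ)).obj K).ExactAt i := by
  haveI : K.IsLE (m - 1) := (CochainComplex.isLE_iff K (m - 1)).2 fun j hj => h j (by omega)
  let qh := HomotopyCategory.quotient C (ComplexShape.up ℤ)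
  let ι : K.truncLE (m - 1) ⟶ K := K.ιTruncLE (m - 1)
  haveI : IsIso (DerivedCategory.Qh.map (qh.map ι)) :=
    (NatIso.isIso_map_iff (DerivedCategory.quotientCompQhIso C) ι).2
      (inferInstanceAs (IsIso (DerivedCategory.Q.map ι)))
  obtain ⟨s, hs⟩ := (CochainComplex.IsKProjective.Qh_map_bijective K (qh.obj (K.truncLE (m - 1)))).2
    (inv (DerivedCategory.Qh.map (qh.map ι)))
  obtain ⟨s₀, rfl⟩ := qh.map_surjective s
  have h1 : qh.map (s₀ ≫ ι) = qh.map (𝟙 K) :=
    (CochainComplex.IsKProjective.Qh_map_bijective K (qh.obj K)).1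
      (by rw [qh.map_comp, DerivedCategory.Qh.map_comp, hs, IsIso.inv_hom_id, qh.map_id,
        CategoryTheory.Functor.map_id])
  have H := T.mapHomotopy (HomotopyCategory.homotopyOfEq _ _ h1)
  rw [exactAt_iff_isZero_homology, IsZero.iff_id_eq_zero]
  have h2 : IsZero (((T.mapHomologicalComplex (.up ℤ)).obj (K.truncLE (m - 1))).homology i) :=
    ExactAt.isZero_homology (ExactAt.of_isZero
      (T.map_isZero ((K.truncLE (m - 1)).isZero_of_isStrictlyLE (m - 1) i (by omega))))
  calc 𝟙 _ = homologyMap ((T.mapHomologicalComplex (.up ℤ)).map (𝟙 K)) i := by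
        rw [CategoryTheory.Functor.map_id, homologyMap_id]
    _ = homologyMap ((T.mapHomologicalComplex (.up ℤ)).map (s₀ ≫ ι)) i := (H.homologyMap_eq i).symm
    _ = 0 := by
        rw [Functor.map_comp, homologyMap_comp, h2.eq_of_tgt (homologyMap _ i) 0, zero_comp]

/-- The mapping cone of a map of K-projective complexes is K-projective. -/
theorem isKProjective_mappingCone {K L : CochainComplex C ℤ} (φ : K ⟶ L) [hK : K.IsKProjective]
    [hL : L.IsKProjective] : (CochainComplex.mappingCone φ).IsKProjective :=
  (CochainComplex.isKProjective_iff_leftOrthogonal _).2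
    ((HomotopyCategory.subcategoryAcyclic C).leftOrthogonal.ext_of_isTriangulatedClosed₃
      (CochainComplex.mappingCone.triangleh φ)
      (HomotopyCategory.mappingCone_triangleh_distinguished φ)
      ((CochainComplex.isKProjective_iff_leftOrthogonal _).1 hK)
      ((CochainComplex.isKProjective_iff_leftOrthogonal _).1 hL))

end

open Groth.Agent.Lib.DerivedOX Groth.Agent.Lib.Modules StalkModule
open Groth.Agent.Lib.Perfect.Basic Groth.Agent.Lib.Perfect.Pullback
open Groth.Agent.Lib.Perfect.Ascent Groth.Agent.Lib.Perfect.PseudoCoh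

attribute [local instance] HasDerivedCategory.standard

variable {X Y : Scheme.{u}}

lemma exactAt_stalk {K : CochainComplex X.Modules ℤ} {i : ℤ} (h : K.ExactAt i) (x : X) :
    (((stalkModFunctor X x).mapHomologicalComplex (.up ℤ)).obj K).ExactAt i := by
  haveI : PreservesFiniteColimits (stalkModFunctor X x) :=
    PreservesColimitsOfSize.preservesFiniteColimits _
  exact h.map (stalkModFunctor X x)

lemma exactAt_of_stalk {K : CochainComplex X.Modules ℤ} {i : ℤ}
    (h : ∀ x : X, (((stalkModFunctor X x).mapHomologicalComplex (.up ℤ)).obj K).ExactAt i) :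
    K.ExactAt i := by
  rw [exactAt_iff_isZero_homology, IsZero.iff_id_eq_zero]
  refine hom_ext_stalkMapₗ fun x => ?_
  haveI : PreservesFiniteColimits (stalkModFunctor X x) :=
    PreservesColimitsOfSize.preservesFiniteColimits _
  have hz : IsZero ((stalkModFunctor X x).obj (K.homology i)) :=
    ((h x).isZero_homology).of_iso ((K.sc i).mapHomologyIso (stalkModFunctor X x)).symm
  exact congrArg ModuleCat.Hom.hom (hz.eq_of_src ((stalkModFunctor X x).map (𝟙 _))
    ((stalkModFunctor X x).map 0))

/-- Pullback keeps a map of complexes with K-projective stalks good. -/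
theorem good_pC (f : X ⟶ Y) {P Q : CochainComplex Y.Modules ℤ} (hP : StalkKProj P)
    (hQ : StalkKProj Q) (g : P ⟶ Q) {m : ℤ} (hg : Good m (DerivedCategory.Q.map g)) :
    Good m (DerivedCategory.Q.map ((pC f).map g)) := by
  refine (good_iff m _ (DerivedCategory.mappingCone_triangle_distinguished ((pC f).map g))).2
    fun i hi => ?_
  refine IsZero.of_iso ?_ ((DerivedCategory.homologyFunctorFactors X.Modules i).app _)
  refine ExactAt.isZero_homology (exactAt_of_stalk fun x => ?_)
  let T := ModuleCat.extendScalars.{u, u, u} (f.stalkMap x).hom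
  haveI : T.Additive := (ModuleCat.extendRestrictScalarsAdj.{u} (f.stalkMap x).hom).left_adjoint_additive
  let S := (stalkModFunctor Y (f.base x)).mapHomologicalComplex (ComplexShape.up ℤ)
  haveI := hP (f.base x)
  haveI := hQ (f.base x)
  haveI : CochainComplex.IsKProjective (S.obj (CochainComplex.mappingCone g)) := by
    haveI := isKProjective_mappingCone (S.map g)
    exact CochainComplex.isKProjective_of_iso
      (CochainComplex.mappingCone.mapHomologicalComplexIso g (stalkModFunctor Y (f.base x))).symm
  have hY : ∀ k, m ≤ k → (CochainComplex.mappingCone g).ExactAt k := fun k hk => by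
    rw [exactAt_iff_isZero_homology]
    exact ((good_iff m _ (DerivedCategory.mappingCone_triangle_distinguished g)).1 hg k hk).of_iso
      ((DerivedCategory.homologyFunctorFactors Y.Modules k).app _).symm
  have h2 := exactAt_map_of_isKProjective T (S.obj (CochainComplex.mappingCone g)) m
    (fun k hk => exactAt_stalk (hY k hk) (f.base x)) i hi
  let ψ : (Scheme.Modules.pullback f ⋙ stalkModFunctor X x).mapHomologicalComplex
      (ComplexShape.up ℤ) ≅
      (stalkModFunctor Y (f.base x) ⋙ T).mapHomologicalComplex (ComplexShape.up ℤ) :=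
    NatIso.mapHomologicalComplex (PullbackStalk.pullbackStalkIso f x).symm (ComplexShape.up ℤ)
  exact h2.of_iso ((ψ.app (CochainComplex.mappingCone g)).symm ≪≫
    ((stalkModFunctor X x).mapHomologicalComplex (.up ℤ)).mapIso
      (CochainComplex.mappingCone.mapHomologicalComplexIso g (Scheme.Modules.pullback f)))

/-- `Lf^*` preserves `m`-pseudo-coherence. -/
theorem isPseudoCoherent_Lpull (f : X ⟶ Y) [DCoh.HasLpull f] {m : ℤ} {K : DCoh.D Y}
    (hK : DCoh.IsPseudoCoherentD m K) : DCoh.IsPseudoCoherentD m ((DCoh.Lpull f).obj K) := by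
  obtain ⟨P, hP, ⟨eP⟩, ⟨eL⟩⟩ := exists_Lpull_iso f K
  refine (iff_forall _ _).2 fun x => PCAt.of_iso eL.symm ?_
  obtain ⟨V, j, _, v, E, α, hv, hE, hα⟩ :=
    ((iff_forall _ _).1 hK (f.base x)).of_iso eP.symm
  let α' : DerivedCategory.Q.obj E ⟶ DerivedCategory.Q.obj ((pC j).obj P) :=
    α ≫ (RDQ j P).hom ≫ DerivedCategory.Q.map ((rCIso j).hom.app P)
  obtain ⟨V', k, _, v', φ, hv', hφ⟩ := Lift.exists_map hE α' v
  have hφg : Good m (DerivedCategory.Q.map φ) := by
    have : DerivedCategory.Q.map φ =
        (RDQ k E).inv ≫ (RD k).map α' ≫ (RDQ k ((pC j).obj P)).hom := by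
      rw [hφ]; simp
    rw [this]
    exact (Good.of_isIso m _).comp ((good_restrict k (hα.comp (Good.of_isIso m _))).comp
      (Good.of_isIso m _))
  let J := k ≫ j
  let E' := (rC k).obj E
  let ψ : E' ⟶ (pC J).obj P :=
    φ ≫ (rCIso k).hom.app ((pC j).obj P) ≫ (pCComp k j).hom.app P
  have hψ : Good m (DerivedCategory.Q.map ψ) := by
    simp only [ψ, Functor.map_comp]
    exact hφg.comp (Good.of_isIso m _)
  obtain ⟨w, hw1, hw2⟩ := Scheme.Pullback.exists_preimage_pullback (f := f) (g := J) x v'
    (by simp [J, hv', hv])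
  let l := pullback.fst f J
  let h := pullback.snd f J
  haveI : IsOpenImmersion l := inferInstance
  have hh := good_pC h (stalkKProj_of_isStrictlyPerfect (isStrictlyPerfect_map k hE))
    (stalkKProj_pC_of_cof J hP) ψ hψ
  let e : (RD l).obj (DerivedCategory.Q.obj ((pC f).obj P)) ≅
      DerivedCategory.Q.obj ((pC h).obj ((pC J).obj P)) :=
    RDQ l ((pC f).obj P) ≪≫ DerivedCategory.Q.mapIso ((rCIso l).app _ ≪≫
      (pCComp l f).app P ≪≫ eqToIso (congrArg (fun g => (pC g).obj P) pullback.condition) ≪≫
      ((pCComp h J).app P).symm)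
  exact ⟨_, l, inferInstance, w, (pC h).obj E', DerivedCategory.Q.map ((pC h).map ψ) ≫ e.inv,
    hw1, isStrictlyPerfect_pC h (isStrictlyPerfect_map k hE), hh.comp (Good.of_isIso m _)⟩

end Groth.Agent.Lib.Perfect.PullPC
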