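import Groth.Agent.Lib.Perfect.EulerChar
import Groth.Agent.Lib.Perfect.PullPC
import Groth.Agent.Lib.Perfect.LocPres
import Groth.Agent.Lib.FlatCx.Rank
import Groth.Agent.Lib.QCoh.Pullback

/-!
# Fibre dimensions of the cohomology of complexes of free modules
-/

set_option autoImplicit false
set_option linter.style.haveILetI false

universe u

open CategoryTheory Limits AlgebraicGeometry Opposite

namespace Groth.Agent.Lib.Perfect.FibreDim

open Groth.Agent.Lib Groth.Agent.Lib.KRes Groth.Agent.Lib.Perfect.Basic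
open Groth.Agent.Lib.Perfect.EulerChar

attribute [local instance] HasDerivedCategory.standard

section Field

variable {L : CommRingCat.{u}}

lemma finrank_tilde (M : ModuleCat.{u} L) :
    deg (Spec L) (tilde M) = (Module.finrank L M : ℤ) := by
  let i : L ≃+* Γ(Spec L, ⊤) := (Scheme.ΓSpecIso L).symm.commRingCatIsoToRingEquiv
  let j : M ≃+ Γ(tilde M, ⊤) := (tilde.isoTop M).toLinearEquiv.toAddEquiv
  have hc : ∀ (r : L) (x : M), j (r • x) = i r • j x := fun r x => by
    refine ((tilde.isoTop M).toLinearEquiv.map_smul r x).trans ?_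
    refine (Scheme.Modules.smul_Spec_def _ _).trans ?_
    rw [show (⊤ : (Spec L).Opens).leTop.op = 𝟙 _ from rfl, CategoryTheory.Functor.map_id]
    rfl
  unfold deg
  congr 1
  exact (congrArg Cardinal.toNat (rank_eq_of_equiv_equiv i j i.bijective hc)).symm

variable {R : CommRingCat.{u}} (φ : R ⟶ L)

/-- The dimension of the fibre of `Ñ` at a field valued point. -/
theorem deg_pullback_tilde (hL : IsField L) (N : ModuleCat.{u} R) [Module.Finite R N]
    (s : Spec L) :
    deg (Spec L) ((Scheme.Modules.pullback (Spec.map φ)).obj (tilde N)) =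
      (FlatCx.Rank.fdim (A := R) N (Spec.map φ s) : ℤ) := by
  letI := hL.toField
  have hbot : (⊥ : Ideal L).IsPrime := Ideal.isPrime_bot
  letI : Algebra R L := φ.hom.toAlgebra
  let y : PrimeSpectrum L := s
  have e : deg (Spec L) ((Scheme.Modules.pullback (Spec.map φ)).obj (tilde N)) =
      deg (Spec L) (tilde ((ModuleCat.extendScalars φ.hom).obj N)) := by
    unfold deg
    congr 1
    let ε := (QCoh.Pullback.pullbackTildeIso φ).app N
    haveI : IsIso (ε.hom.app ⊤) :=
      (Scheme.Modules.Hom.isIso_iff_isIso_app (φ := ε.hom)).1 inferInstance ⊤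
    exact LinearEquiv.finrank_eq (LinearEquiv.ofBijective (CohBasics.Affine.secₗ ε.hom ⊤)
      (ConcreteCategory.bijective_of_isIso (ε.hom.app ⊤)))
  rw [e, finrank_tilde]
  congr 1
  have h1 : Module.finrank L (TensorProduct R L N) = FlatCx.Rank.fdim (A := L) (TensorProduct R L N) y := by
    haveI : Module.Free L (TensorProduct R L N) := Module.Free.of_divisionRing L _
    haveI : Module.Finite L (TensorProduct R L N) := Module.Finite.base_change R L N
    haveI : Module.Flat L (TensorProduct R L N) := @Module.Flat.of_free _ _ _ _ _ ‹_›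
    rw [FlatCx.Rank.fdim_eq_rankAtStalk, Module.rankAtStalk_eq_finrank_of_free]
    rfl
  refine h1.trans ?_
  rw [FlatCx.Rank.fdim_baseChange]
  rfl

end Field

lemma deg_congr {S : Scheme.{u}} {M M' : S.Modules} (e : M ≅ M') : deg S M = deg S M' := by
  unfold deg
  congr 1
  haveI : IsIso (e.hom.app ⊤) :=
    (Scheme.Modules.Hom.isIso_iff_isIso_app (φ := e.hom)).1 inferInstance ⊤
  exact LinearEquiv.finrank_eq (LinearEquiv.ofBijective (CohBasics.Affine.secₗ e.hom ⊤)
    (ConcreteCategory.bijective_of_isIso (e.hom.app ⊤)))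

/-- On a field, the dimension of `H^k` through the cokernels of the differentials. -/
theorem deg_homology {S : Scheme.{u}} [IsAffine S] [IsLocallyNoetherian S] (hF : IsField Γ(S, ⊤))
    (G : CochainComplex S.Modules ℤ) (hc : ∀ k, Coh.IsCoh (G.X k)) (k : ℤ) :
    deg S (G.homology k) + deg S (G.X (k + 1)) =
      deg S (cokernel (G.d (k - 1) k)) + deg S (cokernel (G.d k (k + 1))) := by
  haveI := CohP.iso S
  haveI := CohP.containsZero S
  haveI := CohP.kernels S
  let δ : G.X k ⟶ G.X (k + 1) := G.d k (k + 1)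
  let u : cokernel (G.d (k - 1) k) ⟶ G.X (k + 1) := cokernel.desc _ δ (G.d_comp_d _ _ _)
  have hQ : Coh.IsCoh (cokernel (G.d (k - 1) k)) :=
    CohBasics.Closure.isCoh_cokernel _ (hc _).1 (hc k)
  have hC : Coh.IsCoh (cokernel u) := CohBasics.Closure.isCoh_cokernel _ hQ.1 (hc _)
  have hH : Coh.IsCoh (G.homology k) := Coherent.isCoh_homology _ (hc _).1 (hc _) (hc _).1
  let eH : G.homology k ≅ kernel u :=
    G.homologyIsoSc' (k - 1) k (k + 1) (by simp) (by simp) ≪≫
      (ShortComplex.RightHomologyData.ofHasCokernelOfHasKernel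
        (G.sc' (k - 1) k (k + 1))).homologyIso
  have hex : (ShortComplex.mk u (cokernel.π u) (cokernel.condition u)).Exact :=
    ShortComplex.exact_cokernel u
  have e1 := KDb.clSub_eq_kernel_add (P := CohP.coh S) hex hQ (hc (k + 1)) hC
  dsimp only at e1
  have hs : (ShortComplex.mk (kernel.ι (cokernel.π u)) (cokernel.π u) (kernel.condition _)).ShortExact :=
    ShortComplex.ShortExact.mk' (ShortComplex.exact_kernel _) inferInstance inferInstance
  have e2 := KSub.rel (P := CohP.coh S) hs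
    ((CohP.coh S).prop_kernel (cokernel.π u) (hc (k + 1)) hC) (hc (k + 1)) hC
  dsimp only at e2
  let eC : cokernel u ≅ cokernel δ :=
    (cokernelEpiComp (cokernel.π (G.d (k - 1) k)) u).symm ≪≫
      cokernelIsoOfEq (cokernel.π_desc _ _ _)
  have key : KZero.clSub (CohP.coh S) (G.homology k) + KZero.clSub (CohP.coh S) (G.X (k + 1)) =
      KZero.clSub (CohP.coh S) (cokernel (G.d (k - 1) k)) + KZero.clSub (CohP.coh S) (cokernel δ) := by
    rw [KDb.clSub_congr (CohP.coh S) eH, e1, e2, ← KDb.clSub_congr (CohP.coh S) eC]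
    abel
  have := congrArg (degHom hF) key
  rwa [map_add, map_add, degHom, KSub.lift_cl _ _ hH, KSub.lift_cl _ _ (hc _), KSub.lift_cl _ _ hQ,
    KSub.lift_cl _ _ (CohBasics.Closure.isCoh_of_iso eC hC)] at this

open Groth.Agent.Lib.Perfect.Ascent Groth.Agent.Lib.Perfect.PseudoCoh

variable {X : Scheme.{u}}

/-- An affine chart on which `K` receives a good map from a complex of free modules. -/
theorem exists_chart {m : ℤ} {K : DCoh.D X} {x : X} (h : PCAt m K x) :
    ∃ (R : CommRingCat.{u}) (j : Spec R ⟶ X) (_ : IsOpenImmersion j) (p : Spec R)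
      (E : CochainComplex (Spec R).Modules ℤ) (α : DerivedCategory.Q.obj E ⟶ (RD j).obj K)
      (n : ℤ → ℕ), j p = x ∧ DCoh.IsStrictlyPerfect E ∧ Good m α ∧ n.HasFiniteSupport ∧
        ∀ k, Nonempty (E.X k ≅ FlatMod.freeMod (Spec R) (n k)) := by
  obtain ⟨U, j, _, y, E, α, hy, hE, hα⟩ := h
  obtain ⟨V, n, hyV, hn, he⟩ := exists_free_terms hE y
  obtain ⟨W, hW, hyW, -⟩ := exists_isAffineOpen_mem_and_subset (X := (V : Scheme.{u}))
    (x := ⟨y, hyV⟩) (U := ⊤) trivial
  let ι : Spec Γ(V, W) ⟶ U := hW.fromSpec ≫ V.ι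
  obtain ⟨p, hp⟩ : ⟨y, hyV⟩ ∈ Set.range hW.fromSpec := by rw [hW.range_fromSpec]; exact hyW
  refine ⟨_, ι ≫ j, inferInstance, p, (rC ι).obj E,
    (RDQ ι E).inv ≫ (RD ι).map α ≫ (Triangle.RDComp ι j K).inv, n, ?_, isStrictlyPerfect_map ι hE,
    (Good.of_isIso m _).comp ((good_restrict ι hα).comp (Good.of_isIso m _)), hn, fun k => ⟨?_⟩⟩
  · simp [ι, hp, hy]
  · exact (Scheme.Modules.restrictFunctorComp hW.fromSpec V.ι).app (E.X k) ≪≫
      (Scheme.Modules.restrictFunctor hW.fromSpec).mapIso (he k).some ≪≫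
      Modules.Free.restrictFreeIso hW.fromSpec (n k)

variable {R : CommRingCat.{u}} (j : Spec R ⟶ X) [IsOpenImmersion j]

/-- `Lf^*K` at a field valued point of a chart, computed by the complex of the chart in high
degrees. -/
theorem exists_Lpull_good {Z : Scheme.{u}} (f : Z ⟶ X) [DCoh.HasLpull f] (K : DCoh.D X)
    {E : CochainComplex (Spec R).Modules ℤ} (hE : DCoh.IsStrictlyPerfect E) {m : ℤ}
    (α : DerivedCategory.Q.obj E ⟶ (RD j).obj K) (hα : Good m α) (q : Spec R)
    (hf : ∀ z : Z, f z = j q) :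
    ∃ (g : Z ⟶ Spec R) (β : DerivedCategory.Q.obj ((Pullback.pC g).obj E) ⟶ (DCoh.Lpull f).obj K),
      g ≫ j = f ∧ Good m β := by
  obtain ⟨P, hP, ⟨eP⟩, ⟨eL⟩⟩ := Pullback.exists_Lpull_iso f K
  let α' : DerivedCategory.Q.obj E ⟶ DerivedCategory.Q.obj ((Pullback.pC j).obj P) :=
    α ≫ (RD j).map eP.inv ≫ (RDQ j P).hom ≫ DerivedCategory.Q.map ((Pullback.rCIso j).hom.app P)
  obtain ⟨V', k, _, v', φ, hv', hφ⟩ := Lift.exists_map hE α' q
  have hφg : Good m (DerivedCategory.Q.map φ) := by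
    have : DerivedCategory.Q.map φ =
        (RDQ k E).inv ≫ (RD k).map α' ≫ (RDQ k ((Pullback.pC j).obj P)).hom := by
      rw [hφ]; simp
    rw [this]
    exact (Good.of_isIso m _).comp ((good_restrict k (hα.comp (Good.of_isIso m _))).comp
      (Good.of_isIso m _))
  have hrange : Set.range f ⊆ Set.range (k ≫ j) := by
    rintro _ ⟨z, rfl⟩
    exact ⟨v', by rw [hf z]; simp [hv']⟩
  let h := IsOpenImmersion.lift (k ≫ j) f hrange
  let ψ : (rC k).obj E ⟶ (Pullback.pC (k ≫ j)).obj P :=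
    φ ≫ (Pullback.rCIso k).hom.app ((Pullback.pC j).obj P) ≫ (Pullback.pCComp k j).hom.app P
  have hψ : Good m (DerivedCategory.Q.map ψ) := by
    simp only [ψ, Functor.map_comp]
    exact hφg.comp (Good.of_isIso m _)
  have hh := PullPC.good_pC h (Pullback.stalkKProj_of_isStrictlyPerfect (isStrictlyPerfect_map k hE))
    (Pullback.stalkKProj_pC_of_cof (k ≫ j) hP) ψ hψ
  refine ⟨h ≫ k, DerivedCategory.Q.map ((Pullback.pCComp h k).inv.app E ≫
      (Pullback.pC h).map ((Pullback.rCIso k).inv.app E)) ≫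
    DerivedCategory.Q.map ((Pullback.pC h).map ψ) ≫
    DerivedCategory.Q.map ((Pullback.pCComp h (k ≫ j)).hom.app P ≫
      eqToHom (congrArg (fun g => (Pullback.pC g).obj P)
        (IsOpenImmersion.lift_fac (k ≫ j) f hrange))) ≫ eL.inv, ?_, ?_⟩
  · exact (Category.assoc _ _ _).trans (IsOpenImmersion.lift_fac _ _ _)
  · exact (Good.of_isIso m _).comp (hh.comp (Good.of_isIso m _))

variable {E : CochainComplex (Spec R).Modules ℤ}

/-- The cokernels of the differentials of a complex of free modules on an affine scheme. -/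
theorem exists_coker (n : ℤ → ℕ) (he : ∀ k, Nonempty (E.X k ≅ FlatMod.freeMod (Spec R) (n k)))
    (k : ℤ) : ∃ N : ModuleCat.{u} R, Module.FinitePresentation R N ∧
      Nonempty (cokernel (E.d (k - 1) k) ≅ tilde N) := by
  obtain ⟨N, hN, ⟨i⟩⟩ := LocPres.exists_tilde_iso R
    ((he (k - 1)).some.inv ≫ E.d (k - 1) k ≫ (he k).some.hom)
  exact ⟨N, hN, ⟨cokernel.mapIso _ _ (he (k - 1)).some (he k).some (by simp) ≪≫ i⟩⟩

variable {L : CommRingCat.{u}} (f : Spec L ⟶ X) [DCoh.HasLpull f] {K : DCoh.D X}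

/-- The dimension of the cohomology of the derived fibre. -/
theorem deg_fibre (hL : IsField L) (hE : DCoh.IsStrictlyPerfect E) {m : ℤ}
    (α : DerivedCategory.Q.obj E ⟶ (RD j).obj K) (hα : Good m α)
    (n : ℤ → ℕ) (he : ∀ k, Nonempty (E.X k ≅ FlatMod.freeMod (Spec R) (n k)))
    (N : ℤ → ModuleCat.{u} R) (hN : ∀ k, Module.FinitePresentation R (N k))
    (hi : ∀ k, Nonempty (cokernel (E.d (k - 1) k) ≅ tilde (N k)))
    (q : Spec R) (hf : ∀ z, f z = j q) (k : ℤ) (hk : m < k) :
    deg (Spec L) (DCoh.HD ((DCoh.Lpull f).obj K) k) + (n (k + 1) : ℤ) =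
      (FlatCx.Rank.fdim (A := R) (N k) q : ℤ) + (FlatCx.Rank.fdim (A := R) (N (k + 1)) q : ℤ) := by
  obtain ⟨g, β, hg, hβ⟩ := exists_Lpull_good j f K hE α hα q hf
  have hF : IsField Γ(Spec L, ⊤) :=
    ((Scheme.ΓSpecIso L).commRingCatIsoToRingEquiv.toMulEquiv).isField hL
  haveI : IsNoetherianRing L := by letI := hL.toField; infer_instance
  haveI : IsLocallyNoetherian (Spec L) := inferInstance
  haveI : Nontrivial Γ(Spec L, ⊤) := hF.nontrivial
  haveI : Nonempty (Spec L) := by
    haveI : Nontrivial L := hL.nontrivial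
    exact inferInstanceAs (Nonempty (PrimeSpectrum L))
  let G := (Pullback.pC g).obj E
  have hG : ∀ i, Nonempty (G.X i ≅ FlatMod.freeMod (Spec L) (n i)) := fun i =>
    ⟨(Scheme.Modules.pullback g).mapIso (he i).some ≪≫ TensorMod.LocFree.pullbackFreeModIso g (n i)⟩
  have hc : ∀ i, Coh.IsCoh (G.X i) := fun i =>
    CohBasics.Closure.isCoh_of_iso (hG i).some.symm (Coherent.isCoh_freeMod _ _)
  have hH := deg_homology hF G hc k
  obtain ⟨φ, rfl⟩ := Spec.map_surjective g
  haveI : PreservesColimitsOfSize.{0, 0} (Scheme.Modules.pullback (Spec.map φ)) :=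
    (Scheme.Modules.pullbackPushforwardAdjunction (Spec.map φ)).leftAdjoint_preservesColimits
  obtain ⟨s⟩ := ‹Nonempty (Spec L)›
  have hq : Spec.map φ s = q := j.isOpenEmbedding.injective (by
    rw [← hf s, ← hg]; rfl)
  have hC : ∀ i, deg (Spec L) (cokernel (G.d (i - 1) i)) =
      (FlatCx.Rank.fdim (A := R) (N i) q : ℤ) := fun i => by
    haveI := hN i
    rw [← hq, ← deg_pullback_tilde φ hL (N i) s]
    exact deg_congr ((PreservesCokernel.iso (Scheme.Modules.pullback (Spec.map φ)) _).symm ≪≫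
      (Scheme.Modules.pullback (Spec.map φ)).mapIso (hi i).some)
  have h1 : deg (Spec L) (G.X (k + 1)) = (n (k + 1) : ℤ) :=
    (deg_congr (hG _).some).trans (deg_freeMod _)
  have h2 : deg (Spec L) (G.homology k) = deg (Spec L) (DCoh.HD ((DCoh.Lpull f).obj K) k) := by
    haveI := hβ.1 k hk
    exact deg_congr (((DerivedCategory.homologyFunctorFactors _ k).app G).symm ≪≫
      asIso ((DerivedCategory.homologyFunctor _ k).map β))
  have h3 : deg (Spec L) (cokernel (G.d k (k + 1))) =
      (FlatCx.Rank.fdim (A := R) (N (k + 1)) q : ℤ) := by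
    have := hC (k + 1)
    rwa [show k + 1 - 1 = k by omega] at this
  rw [← h2, ← hC k, ← h3, ← h1]
  exact hH

/-- The Betti numbers above the degree of pseudo-coherence are upper semicontinuous. -/
theorem isOpen_betti_lt [∀ x : X, DCoh.HasLpull (X.fromSpecResidueField x)] {m : ℤ} {K : DCoh.D X}
    (hK : DCoh.IsPseudoCoherentD m K) (i : ℤ) (hi : m < i) (b : ℕ) :
    IsOpen {x : X | PerfD.betti K x i < b} := by
  rw [isOpen_iff_forall_mem_open]
  intro x hx
  obtain ⟨R, j, _, p, E, α, n, hp, hE, hα, -, he⟩ := exists_chart ((iff_forall m K).1 hK x)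
  choose N hN hiN using exists_coker n he
  have key : ∀ q : Spec R, (PerfD.betti K (j q) i : ℤ) + (n (i + 1) : ℤ) =
      (FlatCx.Rank.fdim (A := R) (N i) q : ℤ) + (FlatCx.Rank.fdim (A := R) (N (i + 1)) q : ℤ) :=
    fun q => deg_fibre j (X.fromSpecResidueField (j q))
      (Field.toIsField (IsLocalRing.ResidueField (X.presheaf.stalk (j q)))) hE α hα n he N hN hiN q
      (fun z => Scheme.fromSpecResidueField_apply _ z) i hi
  haveI := hN i
  haveI := hN (i + 1)
  let A : Set (Spec R) := (fun q : PrimeSpectrum R =>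
    FlatCx.Rank.fdim (A := R) (N i) q + FlatCx.Rank.fdim (A := R) (N (i + 1)) q) ⁻¹' Set.Iio (b + n (i + 1))
  have hA : IsOpen A := ((FlatCx.Rank.upperSemicontinuous_fdim (A := R) (N i)).add
    (FlatCx.Rank.upperSemicontinuous_fdim (A := R) (N (i + 1)))).isOpen_preimage _
  have hiff : ∀ q : Spec R, q ∈ A ↔ PerfD.betti K (j q) i < b := fun q => by
    have := key q
    simp only [A, Set.mem_preimage, Set.mem_Iio]
    omega
  refine ⟨j '' A, ?_, j.isOpenEmbedding.isOpenMap _ hA, p, (hiff p).2 ?_, hp⟩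
  · rintro _ ⟨q, hq, rfl⟩
    exact (hiff q).1 hq
  · subst hp
    exact hx

end Groth.Agent.Lib.Perfect.FibreDim
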