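import Groth.Agent.Lib.Perfect.OfCohomology
import Groth.Agent.Lib.Regular.Serre
import Groth.Agent.Lib.QCoh.Stalk
import Groth.Agent.Lib.Modules.Support
import Groth.Agent.Lib.Modules.FreeStalk
import Mathlib.Algebra.Category.ModuleCat.Kernels
import Mathlib.RingTheory.LocalRing.Module
import Mathlib.Algebra.Homology.DerivedCategory.SingleTriangle

/-!
# Coherent modules are perfect on regular schemes
-/

set_option autoImplicit false
set_option linter.style.haveILetI false

universe u

open CategoryTheory Limits AlgebraicGeometry TopologicalSpace CategoryTheory.Pretriangulated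

namespace Groth.Agent.Lib.Perfect.Regular

open Groth.Agent.Lib Groth.Agent.Lib.Perfect.Basic Groth.Agent.Lib.Perfect.Triangle
open Groth.Agent.Lib.Regular.PD Modules.StalkModule

attribute [local instance] HasDerivedCategory.standard

variable {X U : Scheme.{u}}

/-- Finite locally free modules are perfect. -/
lemma perfAt_inD {F : X.Modules} (hF : FlatMod.IsFinLocFree F) (x : X) :
    PerfAt (DCoh.inD X F) x := by
  let E := (CochainComplex.singleFunctor X.Modules 0).obj F
  have hz : ∀ i : ℤ, i ≠ 0 → IsZero (E.X i) := fun i hi =>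
    HomologicalComplex.isZero_single_obj_X _ _ _ _ hi
  refine ⟨X, 𝟙 X, inferInstance, x, (rC (𝟙 X)).obj E, rfl,
    isStrictlyPerfect_map _ ⟨⟨0, 0, fun i hi => hz i (by omega)⟩, fun i => ?_⟩, ⟨?_⟩⟩
  · by_cases hi : i = 0
    · subst hi
      exact TensorMod.LocFree.of_iso
        (HomologicalComplex.singleObjXSelf (ComplexShape.up ℤ) 0 F).symm hF
    · exact TensorMod.LocFree.of_iso (IsZero.iso ((IsZero.iff_id_eq_zero _).2
          (Sigma.hom_ext _ _ fun a => a.elim0)) (hz i hi))
        (TensorMod.LocFree.of_rank (TensorMod.LocFree.isFinLocFree_freeMod X 0))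
  · exact (RD (𝟙 X)).mapIso ((DerivedCategory.singleFunctorIsoCompQ X.Modules 0).app F) ≪≫
      RDQ (𝟙 X) E

/-- Derived restriction of a module. -/
noncomputable def RDinD (j : U ⟶ X) [IsOpenImmersion j] (M : X.Modules) :
    (RD j).obj (DCoh.inD X M) ≅ DCoh.inD U (M.restrict j) :=
  ((Scheme.Modules.restrictFunctor j).mapDerivedCategorySingleFunctor 0).app M

lemma isIso_restrict_of_not_mem {M N : X.Modules} (φ : M ⟶ N) (V : X.Opens)
    (hk : ∀ z ∈ V, z ∉ CohB1.support (kernel φ)) (hc : ∀ z ∈ V, z ∉ CohB1.support (cokernel φ)) :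
    IsIso ((Scheme.Modules.restrictFunctor V.ι).map φ) := by
  have key : ∀ P : X.Modules, (∀ z ∈ V, z ∉ CohB1.support P) →
      IsZero ((Scheme.Modules.restrictFunctor V.ι).obj P) := fun P hP =>
    Modules.Support.support_eq_empty_iff.1 (by
      rw [show (Scheme.Modules.restrictFunctor V.ι).obj P = P.restrict V.ι from rfl,
        Modules.Support.support_restrict]
      exact Set.eq_empty_iff_forall_notMem.2 fun z hz => hP _ z.2 hz)
  haveI : Mono ((Scheme.Modules.restrictFunctor V.ι).map φ) := Preadditive.mono_of_isZero_kernel _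
    ((key _ hk).of_iso (PreservesKernel.iso (Scheme.Modules.restrictFunctor V.ι) φ).symm)
  haveI : Epi ((Scheme.Modules.restrictFunctor V.ι).map φ) := Preadditive.epi_of_isZero_cokernel _
    ((key _ hc).of_iso (PreservesCokernel.iso (Scheme.Modules.restrictFunctor V.ι) φ).symm)
  exact isIso_of_mono_of_epi _

variable [IsAffine X] [IsLocallyNoetherian X]

/-- A coherent module with free stalk at `x` is free near `x`. -/
lemma exists_iso_free {M : X.Modules} (hM : Coh.IsCoh M) (x : X)
    [Module.Free (X.presheaf.stalk x) (M.presheaf.stalk x)]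
    [Module.Finite (X.presheaf.stalk x) (M.presheaf.stalk x)] :
    ∃ (V : X.Opens) (n : ℕ), x ∈ V ∧ Nonempty (M.restrict V.ι ≅ FlatMod.freeMod (↑V) n) := by
  haveI := hM.1
  let b := (Module.Free.chooseBasis (X.presheaf.stalk x) (M.presheaf.stalk x)).reindex
    (Fintype.equivFin _)
  choose f t hxf ht using fun i =>
    QCoh.Stalk.exists_smul_eq_germ (M := M) (isAffineOpen_top X) (x := x) trivial (b i)
  have hu : ∀ i, IsUnit (X.presheaf.germ ⊤ x trivial (f i)) := fun i =>
    (Scheme.mem_basicOpen X (f i) x trivial).1 (hxf i)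
  let b' := b.unitsSMul fun i => (hu i).unit
  let φ := Modules.Free.freeHom t
  have hφ : Function.Bijective (stalkMapₗ φ x) := by
    have : stalkMapₗ φ x =
        ((Modules.FreeStalk.stalkBasis X _ x).equiv b' (Equiv.refl _)).toLinearMap := by
      refine (Modules.FreeStalk.stalkBasis X _ x).ext fun i => ?_
      rw [LinearEquiv.coe_coe, Module.Basis.equiv_apply, Modules.FreeStalk.stalkBasis_apply]
      exact (Modules.Free.freeHom_stalk_germ t x i).trans
        ((ht i).symm.trans (by simp [b', Module.Basis.unitsSMul_apply, Units.smul_def]))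
    rw [this]
    exact LinearEquiv.bijective _
  have hF := Coherent.isCoh_freeMod X (Fintype.card (Module.Free.ChooseBasisIndex
    (X.presheaf.stalk x) (M.presheaf.stalk x)))
  have hk : Coh.IsCoh (kernel φ) := CohBasics.Closure.isCoh_kernel φ hF hM.1
  have hc : Coh.IsCoh (cokernel φ) := CohBasics.Closure.isCoh_cokernel φ hF.1 hM
  haveI := hk.2
  haveI := hc.2
  let V : X.Opens := ⟨(CohB1.support (kernel φ) ∪ CohB1.support (cokernel φ))ᶜ,
    ((Modules.Support.isClosed_support _).union (Modules.Support.isClosed_support _)).isOpen_compl⟩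
  have hxV : x ∈ V := by
    rintro (h | h)
    · refine h (subsingleton_of_forall_eq 0 fun v => ?_)
      have h1 : Function.Injective (stalkMapₗ (kernel.ι φ) x) :=
        (mono_iff_stalkMapₗ_injective _).1 inferInstance x
      apply h1
      apply hφ.1
      rw [← LinearMap.comp_apply, ← stalkMapₗ_comp, kernel.condition, map_zero, map_zero]
      exact congr_fun (congrArg DFunLike.coe ((stalkModFunctor X x).map_zero _ _ |>
        congrArg ModuleCat.Hom.hom)) v
    · refine h (subsingleton_of_forall_eq 0 fun v => ?_)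
      obtain ⟨w, rfl⟩ := (epi_iff_stalkMapₗ_surjective (cokernel.π φ)).1 inferInstance x v
      obtain ⟨z, rfl⟩ := hφ.2 w
      rw [← LinearMap.comp_apply, ← stalkMapₗ_comp, cokernel.condition]
      exact congr_fun (congrArg DFunLike.coe ((stalkModFunctor X x).map_zero _ _ |>
        congrArg ModuleCat.Hom.hom)) z
  have := isIso_restrict_of_not_mem φ V (fun z hz h => hz (Or.inl h)) (fun z hz h => hz (Or.inr h))
  exact ⟨V, _, hxV, ⟨(asIso ((Scheme.Modules.restrictFunctor V.ι).map φ)).symm ≪≫
    Modules.Free.restrictFreeIso V.ι _⟩⟩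

/-- A coherent module on an affine scheme whose stalk at `x` has finite projective dimension is
perfect near `x`. -/
theorem perfAt_of_pdle (x : X) (p : ℕ) : ∀ {M : X.Modules}, Coh.IsCoh M →
    PDle (X.presheaf.stalk x) (M.presheaf.stalk x) p → PerfAt (DCoh.inD X M) x := by
  induction p with
  | zero =>
    intro M hM hp
    haveI := hM.2
    haveI : Module.Finite (X.presheaf.stalk x) (M.presheaf.stalk x) :=
      Modules.GenStalk.finite_stalk M x
    haveI : Module.Projective (X.presheaf.stalk x) (M.presheaf.stalk x) := pdle_zero_iff.1 hp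
    haveI : Module.Free (X.presheaf.stalk x) (M.presheaf.stalk x) :=
      Module.free_of_flat_of_isLocalRing
    obtain ⟨V, n, hx, ⟨e⟩⟩ := exists_iso_free hM x
    let y : (V : Scheme.{u}) := ⟨x, hx⟩
    exact PerfAt.of_restrict (j := V.ι) (y := y) rfl
      ((perfAt_inD (TensorMod.LocFree.of_rank (TensorMod.LocFree.isFinLocFree_freeMod _ n))
        y).of_iso ((DerivedCategory.singleFunctor _ 0).mapIso e.symm ≪≫
          (RDinD V.ι M).symm))
  | succ p ih =>
    intro M hM hp
    haveI := hM.1
    haveI := CohBasics.Closure.finite_sections hM (isAffineOpen_top X)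
    obtain ⟨n, t, ht⟩ := Module.Finite.exists_fin (R := Γ(X, ⊤)) (M := Γ(M, ⊤))
    let π := Modules.Free.freeHom t
    haveI : Epi π := TensorMod.TensorQCoh.epi_freeHom t ht
    have hF := Coherent.isCoh_freeMod X n
    have hk : Coh.IsCoh (kernel π) := CohBasics.Closure.isCoh_kernel π hF hM.1
    haveI : Module.Free (X.presheaf.stalk x) ((FlatMod.freeMod X n).presheaf.stalk x) :=
      Module.Free.of_basis (Modules.FreeStalk.stalkBasis X n x)
    have h1 : PDle (X.presheaf.stalk x) (LinearMap.ker (stalkMapₗ π x)) p :=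
      (pdle_succ_iff ((epi_iff_stalkMapₗ_surjective π).1 inferInstance x) p).1 hp
    have h2 : PDle (X.presheaf.stalk x) ((kernel π).presheaf.stalk x) p :=
      pdle_of_equiv (PreservesKernel.iso (stalkModFunctor X x) π ≪≫
        ModuleCat.kernelIsoKer ((stalkModFunctor X x).map π)).toLinearEquiv.symm h1
    have hS : (ShortComplex.mk (kernel.ι π) π (kernel.condition π)).ShortExact :=
      ShortComplex.ShortExact.mk' (ShortComplex.exact_kernel π) inferInstance inferInstance
    exact perfAt₃ hS.singleTriangle_distinguished (ih hk h2)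
      (perfAt_inD (TensorMod.LocFree.of_rank (TensorMod.LocFree.isFinLocFree_freeMod X n)) x)

omit [IsAffine X]

/-- On a regular locally Noetherian scheme every coherent module is perfect. -/
theorem isPerfect_inD (hreg : ∀ x : X, IsRegularLocalRing (X.presheaf.stalk x)) {M : X.Modules}
    (hM : Coh.IsCoh M) : DCoh.IsPerfect (DCoh.inD X M) := by
  refine (isPerfect_iff _).2 fun x => ?_
  obtain ⟨W, hW, hx, -⟩ := exists_isAffineOpen_mem_and_subset (X := X) (x := x) (U := ⊤) trivial
  haveI : IsAffine (W : Scheme.{u}) := hW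
  haveI := isLocallyNoetherian_of_isOpenImmersion W.ι
  let y : (W : Scheme.{u}) := ⟨x, hx⟩
  have := hreg (W.ι y)
  haveI : IsRegularLocalRing ((W : Scheme.{u}).presheaf.stalk y) :=
    IsRegularLocalRing.of_ringEquiv (asIso (W.ι.stalkMap y)).commRingCatIsoToRingEquiv
  have hMW : Coh.IsCoh (M.restrict W.ι) := by
    haveI := hM.1
    haveI : Coh.IsQCoh (M.restrict W.ι) := inferInstance
    refine CohBasics.Closure.isCoh_of_finite_sections fun V hV => ?_
    exact (TensorMod.TensorQCoh.finite_restrict_iff W.ι M V).2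
      (CohBasics.Closure.finite_sections hM (hV.image_of_isOpenImmersion W.ι))
  haveI := hMW.2
  haveI : Module.Finite ((W : Scheme.{u}).presheaf.stalk y) ((M.restrict W.ι).presheaf.stalk y) :=
    Modules.GenStalk.finite_stalk _ y
  exact PerfAt.of_restrict (j := W.ι) (y := y) rfl
    ((perfAt_of_pdle y _ hMW (Groth.Agent.Lib.Regular.Serre.pdle_all _)).of_iso
      (RDinD W.ι M).symm)

end Groth.Agent.Lib.Perfect.Regular
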