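import Groth.Agent.Lib.Perfect.FibreStalk
import Mathlib.Algebra.Homology.DerivedCategory.FullyFaithful

/-!
# The open locus where a perfect object is a locally free module placed in one degree
-/

set_option autoImplicit false
set_option linter.style.haveILetI false

universe u

open CategoryTheory Limits AlgebraicGeometry

namespace Groth.Agent.Lib.Perfect.Amplitude

open Groth.Agent.Lib Groth.Agent.Lib.Perfect.Basic Groth.Agent.Lib.Perfect.Ascent
open Groth.Agent.Lib.DerivedOX Groth.Agent.Lib.Modules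
open Groth.Agent.Lib.Perfect.Pullback Groth.Agent.Lib.Perfect.EulerChar

attribute [local instance] HasDerivedCategory.standard

variable {X Y Z : Scheme.{u}}

/-- Complexes of the cofibrant class have K-projective stalks. -/
theorem stalkKProj_of_isCof {P : CochainComplex X.Modules ℤ} (hP : LeftExists.IsCof P) :
    StalkKProj P := fun x => by
  haveI := stalkKProj_pC_of_cof (𝟙 X) hP x
  let e : pC (𝟙 X) ≅ 𝟭 _ :=
    NatIso.ofComponents (fun F => HomologicalComplex.Hom.isoOfComponents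
        (fun i => (Scheme.Modules.pullbackId X).app (F.X i))
        (fun i k _ => ((Scheme.Modules.pullbackId X).hom.naturality (F.d i k)).symm))
      fun φ => HomologicalComplex.hom_ext _ _ fun i =>
        (Scheme.Modules.pullbackId X).hom.naturality (φ.f i)
  exact CochainComplex.isKProjective_of_iso
    (((StalkModule.stalkModFunctor X x).mapHomologicalComplex (.up ℤ)).mapIso (e.app P))

/-- Isomorphic complexes with K-projective stalks have isomorphic pullbacks. -/
theorem exists_pC_iso (f : Z ⟶ X) {A B : CochainComplex X.Modules ℤ} (hA : StalkKProj A)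
    (hB : StalkKProj B) (e : DerivedCategory.Q.obj A ≅ DerivedCategory.Q.obj B) :
    Nonempty (DerivedCategory.Q.obj ((pC f).obj A) ≅ DerivedCategory.Q.obj ((pC f).obj B)) := by
  obtain ⟨R, s, _, t, ht⟩ := DerivedCategory.right_fac e.hom
  haveI : IsIso (DerivedCategory.Q.map t) := by
    have : DerivedCategory.Q.map t = DerivedCategory.Q.map s ≫ e.hom := by
      rw [ht, IsIso.hom_inv_id_assoc]
    rw [this]; infer_instance
  haveI : QuasiIso s := (DerivedCategory.isIso_Q_map_iff_quasiIso _ s).1 inferInstance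
  haveI : QuasiIso t := (DerivedCategory.isIso_Q_map_iff_quasiIso _ t).1 inferInstance
  let π := (KFlat.aug X).app R
  haveI : QuasiIso π := (DerivedCategory.isIso_Q_map_iff_quasiIso _ π).1 inferInstance
  have hR : StalkKProj ((KFlat.res X).obj R) := stalkKProj_of_isCof (LeftExists.isCof_res R)
  haveI := quasiIso_pC f hR hA (π ≫ s)
  haveI := quasiIso_pC f hR hB (π ≫ t)
  exact ⟨(asIso (DerivedCategory.Q.map ((pC f).map (π ≫ s)))).symm ≪≫
    asIso (DerivedCategory.Q.map ((pC f).map (π ≫ t)))⟩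

variable {R : CommRingCat.{u}}

/-- The pullback of a cofibrant model to a point of a chart, computed by the complex of the
chart. -/
theorem exists_pull_iso (f : Z ⟶ X) {P : CochainComplex X.Modules ℤ} (hP : LeftExists.IsCof P)
    (j : Spec R ⟶ X) [IsOpenImmersion j] {E : CochainComplex (Spec R).Modules ℤ}
    (hE : DCoh.IsStrictlyPerfect E)
    (i : DerivedCategory.Q.obj E ≅ (RD j).obj (DerivedCategory.Q.obj P)) (q : Spec R)
    (hf : ∀ z : Z, f z = j q) :
    ∃ (g : Z ⟶ Spec R), g ≫ j = f ∧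
      Nonempty (DerivedCategory.Q.obj ((pC g).obj E) ≅ DerivedCategory.Q.obj ((pC f).obj P)) := by
  let i' : DerivedCategory.Q.obj E ≅ DerivedCategory.Q.obj ((pC j).obj P) :=
    i ≪≫ RDQ j P ≪≫ DerivedCategory.Q.mapIso ((rCIso j).app P)
  obtain ⟨V', k, _, v', φ, hv', hφ⟩ := Lift.exists_map hE i'.hom q
  haveI : IsIso (DerivedCategory.Q.map φ) := by
    have : DerivedCategory.Q.map φ =
        (RDQ k E).inv ≫ (RD k).map i'.hom ≫ (RDQ k ((pC j).obj P)).hom := by
      rw [hφ]; simp
    rw [this]; infer_instance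
  haveI : QuasiIso φ := (DerivedCategory.isIso_Q_map_iff_quasiIso _ φ).1 inferInstance
  have hrange : Set.range f ⊆ Set.range (k ≫ j) := by
    rintro _ ⟨z, rfl⟩
    exact ⟨v', by rw [hf z]; simp [hv']⟩
  let h := IsOpenImmersion.lift (k ≫ j) f hrange
  let ψ : (rC k).obj E ⟶ (pC (k ≫ j)).obj P :=
    φ ≫ (rCIso k).hom.app ((pC j).obj P) ≫ (pCComp k j).hom.app P
  haveI : QuasiIso ψ := inferInstance
  haveI : QuasiIso ((pC h).map ψ) := quasiIso_pC h
    (stalkKProj_of_isStrictlyPerfect (isStrictlyPerfect_map k hE))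
    (stalkKProj_pC_of_cof (k ≫ j) hP) ψ
  refine ⟨h ≫ k, (Category.assoc _ _ _).trans (IsOpenImmersion.lift_fac _ _ _), ⟨?_⟩⟩
  exact DerivedCategory.Q.mapIso (((pCComp h k).app E).symm ≪≫
      ((pC h).mapIso ((rCIso k).app E)).symm) ≪≫
    asIso (DerivedCategory.Q.map ((pC h).map ψ)) ≪≫
    DerivedCategory.Q.mapIso ((pCComp h (k ≫ j)).app P ≪≫
      eqToIso (congrArg (fun g => (pC g).obj P) (IsOpenImmersion.lift_fac (k ≫ j) f hrange)))

/-- An affine chart on which a perfect object is a complex of free modules. -/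
theorem exists_chart {K : DCoh.D X} {x : X} (h : Triangle.PerfAt K x) :
    ∃ (R : CommRingCat.{u}) (j : Spec R ⟶ X) (_ : IsOpenImmersion j) (p : Spec R)
      (E : CochainComplex (Spec R).Modules ℤ) (n : ℤ → ℕ), j p = x ∧ DCoh.IsStrictlyPerfect E ∧
        Nonempty (DerivedCategory.Q.obj E ≅ (RD j).obj K) ∧
        ∀ k, Nonempty (E.X k ≅ FlatMod.freeMod (Spec R) (n k)) := by
  obtain ⟨U, j, _, y, E, hy, hE, ⟨i⟩⟩ := h
  obtain ⟨V, n, hyV, -, he⟩ := exists_free_terms hE y
  obtain ⟨W, hW, hyW, -⟩ := exists_isAffineOpen_mem_and_subset (X := (V : Scheme.{u}))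
    (x := ⟨y, hyV⟩) (U := ⊤) trivial
  let ι : Spec Γ(V, W) ⟶ U := hW.fromSpec ≫ V.ι
  obtain ⟨p, hp⟩ : ⟨y, hyV⟩ ∈ Set.range hW.fromSpec := by rw [hW.range_fromSpec]; exact hyW
  refine ⟨_, ι ≫ j, inferInstance, p, (rC ι).obj E, n, ?_, isStrictlyPerfect_map ι hE,
    ⟨(RDQ ι E).symm ≪≫ (RD ι).mapIso i.symm ≪≫ (Triangle.RDComp ι j K).symm⟩, fun k => ⟨?_⟩⟩
  · simp [ι, hp, hy]
  · exact (Scheme.Modules.restrictFunctorComp hW.fromSpec V.ι).app (E.X k) ≪≫
      (Scheme.Modules.restrictFunctor hW.fromSpec).mapIso (he k).some ≪≫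
      Free.restrictFreeIso hW.fromSpec (n k)

lemma isStrictlyPerfect_single {M : X.Modules} {r : ℕ} (hM : FlatMod.IsFinLocFreeOfRank r M)
    (i : ℤ) : DCoh.IsStrictlyPerfect
      ((HomologicalComplex.single X.Modules (ComplexShape.up ℤ) i).obj M) := by
  refine ⟨⟨i, i, fun k hk => HomologicalComplex.isZero_single_obj_X _ i M k (by omega)⟩, fun k => ?_⟩
  by_cases hk : k = i
  · subst hk
    exact TensorMod.LocFree.of_iso (HomologicalComplex.singleObjXSelf _ k M).symm
      (TensorMod.LocFree.of_rank hM)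
  · exact Stupid.isFinLocFree_isZero (HomologicalComplex.isZero_single_obj_X _ i M k hk)

/-- `M[-i]` as the image of a complex. -/
noncomputable def shiftSingleIso (M : X.Modules) (i : ℤ) :
    (DCoh.inD X M)⟦-i⟧ ≅ DerivedCategory.Q.obj
      ((HomologicalComplex.single X.Modules (ComplexShape.up ℤ) i).obj M) :=
  ((DerivedCategory.singleFunctors X.Modules).shiftIso (-i) i 0 (neg_add_cancel i)).app M ≪≫
    (DerivedCategory.singleFunctorIsoCompQ X.Modules i).app M

/-- On a one-point scheme, a module of rank `r` has `r`-dimensional global sections. -/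
lemma deg_of_rank [IsAffine X] [Nontrivial Γ(X, ⊤)] [Subsingleton X] [Nonempty X] {M : X.Modules}
    {r : ℕ} (hM : FlatMod.IsFinLocFreeOfRank r M) : deg X M = (r : ℤ) := by
  obtain ⟨x⟩ := ‹Nonempty X›
  obtain ⟨U, hxU, ⟨e⟩⟩ := hM x
  obtain rfl : U = ⊤ := eq_top_iff.2 fun z _ => by rwa [Subsingleton.elim z x]
  let k : X ⟶ ((⊤ : X.Opens) : Scheme.{u}) := X.topIso.inv
  let e' : M ≅ FlatMod.freeMod X r :=
    Scheme.Modules.restrictFunctorId.symm.app M ≪≫
      (Scheme.Modules.restrictFunctorCongr (show 𝟙 X = k ≫ (⊤ : X.Opens).ι by simp [k])).app M ≪≫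
      (Scheme.Modules.restrictFunctorComp k (⊤ : X.Opens).ι).app M ≪≫
      (Scheme.Modules.restrictFunctor k).mapIso e ≪≫ Free.restrictFreeIso k r
  rw [FibreDim.deg_congr e', deg_freeMod]

variable {E : DCoh.D X} {i : ℤ} {r : ℕ}

/-- The locus where `E` is a locally free module of rank `r` in degree `i`. -/
def locus (E : DCoh.D X) (i : ℤ) (r : ℕ) : Set X :=
  {x | ∃ W : X.Opens, x ∈ W ∧ (∀ k : ℤ, k ≠ i → IsZero ((DCoh.HD E k).restrict W.ι)) ∧
    FlatMod.IsFinLocFreeOfRank r ((DCoh.HD E i).restrict W.ι)}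

lemma isOpen_locus : IsOpen (locus E i r) :=
  isOpen_iff_forall_mem_open.2 fun _ ⟨W, hx, h⟩ => ⟨W, fun _ hz => ⟨W, hz, h⟩, W.2, hx⟩

/-- The locus as an open subset. -/
def locusOpens (E : DCoh.D X) (i : ℤ) (r : ℕ) : X.Opens := ⟨locus E i r, isOpen_locus⟩

/-- Ranks of stalks do not change under restriction. -/
lemma finrank_stalk_restrict (j : Z ⟶ X) [IsOpenImmersion j] (M : X.Modules) (z : Z) :
    Module.finrank (Z.presheaf.stalk z) ((M.restrict j).presheaf.stalk z) =
      Module.finrank (X.presheaf.stalk (j z)) (M.presheaf.stalk (j z)) := by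
  let σ : X.presheaf.stalk (j z) ≃+* Z.presheaf.stalk z :=
    (asIso (j.stalkMap z)).commRingCatIsoToRingEquiv
  let ε := StalkRestrict.restrictStalkAddEquiv j M z
  refine (congrArg Cardinal.toNat (rank_eq_of_equiv_equiv σ ε.symm σ.bijective fun a v => ?_)).symm
  apply ε.injective
  change ε (ε.symm (a • v)) = ε (j.stalkMap z a • ε.symm v)
  rw [StalkRestrict.restrictStalkAddEquiv_smul, ε.apply_symm_apply, ε.apply_symm_apply]

/-- On its locus, `E` is a module in degree `i`. -/
theorem exists_single :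
    ∃ M : (locusOpens E i r : Scheme.{u}).Modules,
      FlatMod.IsFinLocFreeOfRank r M ∧
      Nonempty ((RD (locusOpens E i r).ι).obj E ≅
        (DerivedCategory.singleFunctor _ i).obj M) := by
  let U : X.Opens := locusOpens E i r
  let K := (RD U.ι).obj E
  have hk : ∀ k, k ≠ i → IsZero (DCoh.HD K k) := fun k hk => by
    refine IsZero.of_iso ?_ (Coherent.homologyIso U.ι E k)
    refine Modules.Local.isZero_of_restrict
      (fun W : {W : X.Opens // ∀ k : ℤ, k ≠ i → IsZero ((DCoh.HD E k).restrict W.ι)} => U.ι ⁻¹ᵁ W.1)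
      (eq_top_iff.2 fun z _ => ?_) fun W => ?_
    · obtain ⟨W, hz, h1, -⟩ := z.2
      exact TopologicalSpace.Opens.mem_iSup.2 ⟨⟨W, h1⟩, hz⟩
    · obtain ⟨W, hW⟩ := W
      let l := U.ι ∣_ W
      exact ((Scheme.Modules.restrictFunctor l).map_isZero (hW k hk)).of_iso
        (((Scheme.Modules.restrictFunctorComp (U.ι ⁻¹ᵁ W).ι U.ι).app (DCoh.HD E k)).symm ≪≫
          (Scheme.Modules.restrictFunctorCongr (morphismRestrict_ι U.ι W).symm).app (DCoh.HD E k) ≪≫
          (Scheme.Modules.restrictFunctorComp l W.ι).app (DCoh.HD E k))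
  haveI : K.IsGE i := (DerivedCategory.isGE_iff K i).2 fun k h => hk k (by omega)
  haveI : K.IsLE i := (DerivedCategory.isLE_iff K i).2 fun k h => hk k (by omega)
  obtain ⟨M, ⟨e⟩⟩ := DerivedCategory.exists_iso_singleFunctor_obj_of_isGE_of_isLE K i
  refine ⟨M, fun z => ?_, ⟨e⟩⟩
  obtain ⟨W, hz, -, hW⟩ := z.2
  let eM : M ≅ (DCoh.HD E i).restrict U.ι :=
    ((DerivedCategory.singleFunctorCompHomologyFunctorIso _ i).app M).symm ≪≫
      (DerivedCategory.homologyFunctor _ i).mapIso e.symm ≪≫ Coherent.homologyIso U.ι E i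
  let l := U.ι ∣_ W
  obtain ⟨V, hV, ⟨eV⟩⟩ := TensorMod.LocFree.rank_of_iso
    (((Scheme.Modules.restrictFunctor (U.ι ⁻¹ᵁ W).ι).mapIso eM ≪≫
        ((Scheme.Modules.restrictFunctorComp (U.ι ⁻¹ᵁ W).ι U.ι).app (DCoh.HD E i)).symm ≪≫
        (Scheme.Modules.restrictFunctorCongr (morphismRestrict_ι U.ι W).symm).app (DCoh.HD E i) ≪≫
        (Scheme.Modules.restrictFunctorComp l W.ι).app (DCoh.HD E i)) ≪≫
      (Scheme.Modules.restrictFunctorIsoPullback l).app _).symm
    (TensorMod.LocFree.rank_pullback l hW) ⟨z, hz⟩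
  let q := V.ι ≫ (U.ι ⁻¹ᵁ W).ι
  exact ⟨q.opensRange, ⟨⟨⟨z, hz⟩, hV⟩, rfl⟩, Kaehler.LocFree.free_nhd_of_chart q
    ((Scheme.Modules.restrictFunctorComp V.ι (U.ι ⁻¹ᵁ W).ι).app M ≪≫ eV)⟩

/-- Pullbacks of `E` landing in the locus are modules in degree `i`. -/
theorem of_range_subset (f : Y ⟶ X) [DCoh.HasLpull f] (hf : Set.range f.base ⊆ locus E i r) :
    ∃ V : Y.Modules, FlatMod.IsFinLocFreeOfRank r V ∧
      Nonempty ((DCoh.Lpull f).obj E ≅ (DCoh.inD Y V)⟦-i⟧) := by
  obtain ⟨M, hM, ⟨e⟩⟩ := exists_single (E := E) (i := i) (r := r)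
  let U : X.Opens := locusOpens E i r
  obtain ⟨P, hP, ⟨eP⟩, ⟨eL⟩⟩ := exists_Lpull_iso f E
  let f' := IsOpenImmersion.lift U.ι f (by rw [Scheme.Opens.range_ι]; exact hf)
  let SM := (HomologicalComplex.single _ (ComplexShape.up ℤ) i).obj M
  obtain ⟨eq⟩ := exists_pC_iso f' (stalkKProj_pC_of_cof U.ι hP)
    (stalkKProj_of_isStrictlyPerfect (isStrictlyPerfect_single hM i))
    ((DerivedCategory.Q.mapIso ((rCIso U.ι).app P)).symm ≪≫ (RDQ U.ι P).symm ≪≫
      (RD U.ι).mapIso eP ≪≫ e ≪≫ (DerivedCategory.singleFunctorIsoCompQ _ i).app M)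
  refine ⟨(Scheme.Modules.pullback f').obj M, TensorMod.LocFree.rank_pullback f' hM, ⟨?_⟩⟩
  exact eL ≪≫ DerivedCategory.Q.mapIso
      (eqToIso (congrArg (fun g => (pC g).obj P) (IsOpenImmersion.lift_fac U.ι f _).symm) ≪≫
        ((pCComp f' U.ι).app P).symm) ≪≫ eq ≪≫
    DerivedCategory.Q.mapIso
      ((HomologicalComplex.singleMapHomologicalComplex (Scheme.Modules.pullback f') _ i).app M) ≪≫
    (shiftSingleIso _ i).symm

/-- A point over which `E` has fibre cohomology `r` in degree `i` only is in the locus. -/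
theorem mem_locus_of_fibre (hE : DCoh.IsPerfect E) {P : CochainComplex X.Modules ℤ}
    (hP : LeftExists.IsCof P) (eP : DerivedCategory.Q.obj P ≅ E) {L : CommRingCat.{u}}
    (hL : IsField L) (h : Spec L ⟶ X) (s : Spec L) (M : (Spec L).Modules)
    (hM : FlatMod.IsFinLocFreeOfRank r M)
    (e : DerivedCategory.Q.obj ((pC h).obj P) ≅
      DerivedCategory.Q.obj ((HomologicalComplex.single _ (ComplexShape.up ℤ) i).obj M)) :
    h s ∈ locus E i r := by
  obtain ⟨R, j, _, p, F, n, hp, hF, ⟨α⟩, he⟩ := exists_chart ((Triangle.isPerfect_iff E).1 hE (h s))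
  choose N hN hiN using FibreDim.exists_coker n he
  haveI : Subsingleton (Spec L) := by
    letI := hL.toField
    exact inferInstanceAs (Subsingleton (PrimeSpectrum L))
  obtain ⟨g, hg, ⟨β⟩⟩ := exists_pull_iso h hP j hF (α ≪≫ (RD j).mapIso eP.symm) p
    (fun z => by rw [Subsingleton.elim z s, hp])
  have hFld : IsField Γ(Spec L, ⊤) :=
    ((Scheme.ΓSpecIso L).commRingCatIsoToRingEquiv.toMulEquiv).isField hL
  haveI : IsNoetherianRing L := by letI := hL.toField; infer_instance
  haveI : IsLocallyNoetherian (Spec L) := inferInstance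
  haveI : Nontrivial Γ(Spec L, ⊤) := hFld.nontrivial
  haveI : Nonempty (Spec L) := ⟨s⟩
  let G := (pC g).obj F
  have hG : ∀ k, Nonempty (G.X k ≅ FlatMod.freeMod (Spec L) (n k)) := fun k =>
    ⟨(Scheme.Modules.pullback g).mapIso (he k).some ≪≫ TensorMod.LocFree.pullbackFreeModIso g (n k)⟩
  have hc : ∀ k, Coh.IsCoh (G.X k) := fun k =>
    CohBasics.Closure.isCoh_of_iso (hG k).some.symm (Coherent.isCoh_freeMod _ _)
  obtain ⟨φ, rfl⟩ := Spec.map_surjective g
  haveI : PreservesColimitsOfSize.{0, 0} (Scheme.Modules.pullback (Spec.map φ)) :=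
    (Scheme.Modules.pullbackPushforwardAdjunction (Spec.map φ)).leftAdjoint_preservesColimits
  have hq : Spec.map φ s = p := j.isOpenEmbedding.injective (by rw [hp, ← hg]; rfl)
  have hC : ∀ k, deg (Spec L) (cokernel (G.d (k - 1) k)) =
      (FlatCx.Rank.fdim (A := R) (N k) p : ℤ) := fun k => by
    haveI := hN k
    rw [← hq, ← FibreDim.deg_pullback_tilde φ hL (N k) s]
    exact FibreDim.deg_congr ((PreservesCokernel.iso (Scheme.Modules.pullback (Spec.map φ)) _).symm ≪≫
      (Scheme.Modules.pullback (Spec.map φ)).mapIso (hiN k).some)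
  let SM := (HomologicalComplex.single (Spec L).Modules (ComplexShape.up ℤ) i).obj M
  let eH : ∀ k, G.homology k ≅ SM.homology k := fun k =>
    ((DerivedCategory.homologyFunctorFactors _ k).app G).symm ≪≫
      (DerivedCategory.homologyFunctor _ k).mapIso (β ≪≫ e) ≪≫
      (DerivedCategory.homologyFunctorFactors _ k).app SM
  have hsum : ∀ k, deg (Spec L) (SM.homology k) + (n (k + 1) : ℤ) =
      (FlatCx.Rank.fdim (A := R) (N k) p : ℤ) + (FlatCx.Rank.fdim (A := R) (N (k + 1)) p : ℤ) := by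
    intro k
    have h1 := FibreDim.deg_homology hFld G hc k
    have h2 := hC (k + 1)
    rw [show k + 1 - 1 = k by omega] at h2
    rw [FibreDim.deg_congr (eH k), FibreDim.deg_congr (hG (k + 1)).some, deg_freeMod, hC k, h2] at h1
    exact h1
  obtain ⟨a, b, hv⟩ := hF.1
  obtain ⟨hz, hfree, hfin, hrank⟩ := FibreStalk.stalk_concentrated F a b hv n he N hN hiN p i r
    (fun k hk => by
      have h1 := hsum k
      have h0 : deg (Spec L) (SM.homology k) = 0 := by
        have hz : IsZero (SM.homology k) :=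
          (HomologicalComplex.ExactAt.of_isZero (HomologicalComplex.isZero_single_obj_X _ i M k hk)).isZero_homology
        haveI : Subsingleton Γ(SM.homology k, ⊤) := by
          have := (DCoh.gammaAb (Spec L)).map_isZero hz
          exact AddCommGrpCat.subsingleton_of_isZero this
        simp [deg, Module.finrank_zero_of_subsingleton]
      rw [h0] at h1
      omega)
    (by
      have h1 := hsum i
      rw [FibreDim.deg_congr ((HomologicalComplex.singleObjHomologySelfIso _ i M)), deg_of_rank hM] at h1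
      omega)
  let eK : ∀ k, F.homology k ≅ (DCoh.HD E k).restrict j := fun k =>
    ((DerivedCategory.homologyFunctorFactors _ k).app F).symm ≪≫
      (DerivedCategory.homologyFunctor _ k).mapIso α ≪≫ Coherent.homologyIso j E k
  -- locally free near `h s`
  have hfreeK : ∀ k, Module.Free (X.presheaf.stalk (j p)) ((DCoh.HD E k).presheaf.stalk (j p)) := by
    intro k
    refine (FreeNear.free_stalk_restrict_iff j (DCoh.HD E k) p).1 ?_
    refine Module.Free.of_equiv' ?_ (StalkModule.stalkLinearEquiv (eK k) p)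
    by_cases hk : k = i
    · subst hk; exact hfree
    · haveI := hz k hk
      exact Module.Free.of_subsingleton _ _
  obtain ⟨W, hxW, hW⟩ := LocFreeCoh.exists_nhd hE (j p) hfreeK
  have hmk : ∀ k, FlatMod.IsFinLocFree ((F.homology k).restrict (j ⁻¹ᵁ W).ι) := fun k => by
    let l := j ∣_ W
    exact TensorMod.LocFree.of_iso
      (((Scheme.Modules.restrictFunctorComp l W.ι).app (DCoh.HD E k)).symm ≪≫
        (Scheme.Modules.restrictFunctorCongr (morphismRestrict_ι j W)).app (DCoh.HD E k) ≪≫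
        (Scheme.Modules.restrictFunctorComp (j ⁻¹ᵁ W).ι j).app (DCoh.HD E k) ≪≫
        ((Scheme.Modules.restrictFunctor (j ⁻¹ᵁ W).ι).mapIso (eK k)).symm)
      (TensorMod.LocFree.isFinLocFree_restrict l (hW k))
  have hnear : ∀ k, ∃ V : (Spec R).Opens, p ∈ V ∧
      Nonempty ((F.homology k).restrict V.ι ≅ FlatMod.freeMod (↑V) (if k = i then r else 0)) := by
    intro k
    obtain ⟨V, d, hV, ⟨ev⟩⟩ := hmk k ⟨p, hxW⟩
    let q := V.ι ≫ (j ⁻¹ᵁ W).ι
    obtain ⟨e'⟩ := Kaehler.LocFree.free_nhd_of_chart q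
      ((Scheme.Modules.restrictFunctorComp V.ι (j ⁻¹ᵁ W).ι).app (F.homology k) ≪≫ ev)
    let w : (q.opensRange : Scheme.{u}) := ⟨p, ⟨⟨⟨p, hxW⟩, hV⟩, rfl⟩⟩
    have hd : d = if k = i then r else 0 := by
      have h1 := (FibreStalk.finite_free_stalk e' w).2.2
      have h3 : Module.finrank ((Spec R).presheaf.stalk p) ((F.homology k).presheaf.stalk p) = d :=
        (finrank_stalk_restrict q.opensRange.ι (F.homology k) w).symm.trans h1
      rw [← h3]
      split_ifs with hk
      · subst hk; exact hrank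
      · haveI := hz k hk
        exact Module.finrank_zero_of_subsingleton
    exact ⟨q.opensRange, w.2, hd ▸ ⟨e'⟩⟩
  choose V hpV hV using hnear
  let O : (Spec R).Opens := (Finset.Icc a b).inf V ⊓ V i
  have hpO : p ∈ O := by
    refine ⟨?_, hpV i⟩
    suffices ∀ s : Finset ℤ, p ∈ s.inf V from this _
    intro s
    induction s using Finset.induction_on with
    | empty => simp
    | insert k s _ ih => rw [Finset.inf_insert]; exact ⟨hpV k, ih⟩
  let q := O.ι ≫ j
  refine ⟨q.opensRange, ⟨⟨p, hpO⟩, by simp [q, hp]⟩, fun k hk => ?_, ?_⟩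
  · have h0 : IsZero ((F.homology k).restrict O.ι) := by
      by_cases hab : k ∈ Finset.Icc a b
      · obtain ⟨ev⟩ := hV k
        rw [if_neg hk] at ev
        exact ((IsZero.iff_id_eq_zero _).2 (Sigma.hom_ext _ _ fun a => a.elim0)).of_iso
          (Free.freeOfLE (le_trans inf_le_left (Finset.inf_le hab)) ev)
      · exact (Scheme.Modules.restrictFunctor O.ι).map_isZero
          (HomologicalComplex.ExactAt.of_isZero (hv k (by simp only [Finset.mem_Icc] at hab; omega))).isZero_homology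
    refine ((Scheme.Modules.restrictFunctor q.isoOpensRange.inv).map_isZero (h0.of_iso
      ((Scheme.Modules.restrictFunctorComp O.ι j).app (DCoh.HD E k) ≪≫
        (Scheme.Modules.restrictFunctor O.ι).mapIso (eK k).symm))).of_iso ?_
    exact (Scheme.Modules.restrictFunctorCongr q.isoOpensRange_inv_comp.symm).app _ ≪≫
      (Scheme.Modules.restrictFunctorComp q.isoOpensRange.inv q).app _
  · obtain ⟨ev⟩ := hV i
    rw [if_pos rfl] at ev
    obtain ⟨e'⟩ := Kaehler.LocFree.free_nhd_of_chart q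
      ((Scheme.Modules.restrictFunctorComp O.ι j).app (DCoh.HD E i) ≪≫
        (Scheme.Modules.restrictFunctor O.ι).mapIso (eK i).symm ≪≫ Free.freeOfLE inf_le_right ev)
    exact fun z => ⟨⊤, trivial, ⟨(Scheme.Modules.restrictFunctor _).mapIso e' ≪≫
      Free.restrictFreeIso _ r⟩⟩

/-- The universal property of the locus. -/
theorem range_subset_iff (hE : DCoh.IsPerfect E) (f : Y ⟶ X) [DCoh.HasLpull f] :
    Set.range f.base ⊆ locus E i r ↔
      ∃ V : Y.Modules, FlatMod.IsFinLocFreeOfRank r V ∧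
        Nonempty ((DCoh.Lpull f).obj E ≅ (DCoh.inD Y V)⟦-i⟧) := by
  refine ⟨of_range_subset f, ?_⟩
  rintro ⟨V, hV, ⟨e⟩⟩ _ ⟨y, rfl⟩
  obtain ⟨P, hP, ⟨eP⟩, ⟨eL⟩⟩ := exists_Lpull_iso f E
  let l := Y.fromSpecResidueField y
  obtain ⟨s⟩ : Nonempty (Spec (Y.residueField y)) :=
    inferInstanceAs (Nonempty (PrimeSpectrum (IsLocalRing.ResidueField (Y.presheaf.stalk y))))
  obtain ⟨eq⟩ := exists_pC_iso l (stalkKProj_pC_of_cof f hP)
    (stalkKProj_of_isStrictlyPerfect (isStrictlyPerfect_single hV i))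
    (eL.symm ≪≫ e ≪≫ shiftSingleIso V i)
  have := mem_locus_of_fibre (i := i) (r := r) hE hP eP
    (Field.toIsField (IsLocalRing.ResidueField (Y.presheaf.stalk y))) (l ≫ f) s
    ((Scheme.Modules.pullback l).obj V) (TensorMod.LocFree.rank_pullback l hV)
    (DerivedCategory.Q.mapIso ((pCComp l f).app P).symm ≪≫ eq ≪≫ DerivedCategory.Q.mapIso
      ((HomologicalComplex.singleMapHomologicalComplex (Scheme.Modules.pullback l) _ i).app V))
  simpa [l] using this

end Groth.Agent.Lib.Perfect.Amplitude
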