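import Groth.Agent.Lib.Perfect.Ascent
import Groth.Agent.Lib.Perfect.Basic

/-!
# The stupid truncation `σ_{≥ n}` as a subcomplex
-/

set_option autoImplicit false
set_option linter.style.haveILetI false

universe w v u

open CategoryTheory Limits AlgebraicGeometry

namespace Groth.Agent.Lib.Perfect.Stupid

section

variable {C : Type u} [Category.{v} C] [Abelian C] (E : CochainComplex C ℤ) (n : ℤ)

/-- The map whose kernel is the degree `i` term of `σ_{≥ n} E`. -/
noncomputable def p (i : ℤ) : E.X i ⟶ E.X i := if i < n then 𝟙 _ else 0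

lemma ι_d_p (i j : ℤ) : (kernel.ι (p E n i) ≫ E.d i j) ≫ p E n j = 0 := by
  by_cases hr : (ComplexShape.up ℤ).Rel i j
  · have hij : i + 1 = j := hr
    by_cases h : i < n
    · have h0 : kernel.ι (p E n i) ≫ 𝟙 _ = 0 := by
        have := kernel.condition (p E n i)
        rwa [show p E n i = 𝟙 _ from if_pos h] at this ⊢
      rw [Category.comp_id] at h0
      rw [h0, zero_comp, zero_comp]
    · rw [show p E n j = 0 from if_neg (by omega), comp_zero]
  · rw [E.shape i j hr]; simp

/-- `σ_{≥ n} E`. -/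
noncomputable def trunc : CochainComplex C ℤ where
  X i := kernel (p E n i)
  d i j := kernel.lift _ (kernel.ι (p E n i) ≫ E.d i j) (ι_d_p E n i j)
  shape i j h := by rw [← cancel_mono (kernel.ι _), kernel.lift_ι, E.shape i j h]; simp
  d_comp_d' i j k _ _ := by
    rw [← cancel_mono (kernel.ι _), Category.assoc, kernel.lift_ι, kernel.lift_ι_assoc]
    simp

/-- The inclusion `σ_{≥ n} E ⟶ E`. -/
noncomputable def ι : trunc E n ⟶ E where
  f i := kernel.ι _
  comm' i j _ := (kernel.lift_ι _ _ _).symm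

lemma isZero_trunc (i : ℤ) (hi : i < n) : IsZero ((trunc E n).X i) := by
  have h0 := kernel.condition (p E n i)
  exact IsZero.of_mono_eq_zero (X := kernel (p E n i)) (kernel.ι (p E n i)) (by
    have h1 : p E n i = 𝟙 _ := if_pos hi
    calc kernel.ι (p E n i) = kernel.ι (p E n i) ≫ 𝟙 _ := (Category.comp_id _).symm
      _ = kernel.ι (p E n i) ≫ p E n i := congrArg (kernel.ι (p E n i) ≫ ·) h1.symm
      _ = 0 := h0)

lemma isIso_ι (i : ℤ) (hi : n ≤ i) : IsIso ((ι E n).f i) := by
  have hp : p E n i = 0 := if_neg (by omega)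
  haveI : IsSplitEpi ((ι E n).f i) :=
    ⟨⟨⟨kernel.lift _ (𝟙 _) (by rw [hp, comp_zero]), kernel.lift_ι _ _ _⟩⟩⟩
  haveI : Mono ((ι E n).f i) := inferInstanceAs (Mono (kernel.ι _))
  exact isIso_of_mono_of_isSplitEpi _

variable [HasDerivedCategory.{w} C]

/-- The inclusion is an isomorphism above degree `n` and an epimorphism in degree `n`. -/
theorem good_ι : Ascent.Good n (DerivedCategory.Q.map (ι E n)) := by
  refine ⟨fun i hi => (NatIso.isIso_map_iff (DerivedCategory.homologyFunctorFactors C i) _).2 ?_, ?_⟩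
  · let φ := (HomologicalComplex.shortComplexFunctor C (ComplexShape.up ℤ) i).map (ι E n)
    haveI : IsIso φ.τ₁ := isIso_ι E n _ (by simp; omega)
    haveI : IsIso φ.τ₂ := isIso_ι E n _ (by omega)
    haveI : IsIso φ.τ₃ := isIso_ι E n _ (by simp; omega)
    haveI : IsIso φ := ShortComplex.isIso_of_isIso φ
    exact inferInstanceAs (IsIso (ShortComplex.homologyMap φ))
  · refine ((MorphismProperty.epimorphisms C).arrow_mk_iso_iff
      (((Functor.mapArrowFunctor _ _).mapIso (DerivedCategory.homologyFunctorFactors C n)).app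
        (Arrow.mk (ι E n)))).2 ?_
    let φ := (HomologicalComplex.shortComplexFunctor C (ComplexShape.up ℤ) n).map (ι E n)
    haveI : IsIso φ.τ₂ := isIso_ι E n _ le_rfl
    haveI : IsIso φ.τ₃ := isIso_ι E n _ (by simp)
    haveI : IsIso (ShortComplex.cyclesMap φ) := ShortComplex.isIso_cyclesMap_of_isIso_of_mono φ
    have hn := ShortComplex.homologyπ_naturality φ
    have hc := epi_comp (ShortComplex.cyclesMap φ) (ShortComplex.homologyπ _)
    rw [← hn] at hc
    exact @epi_of_epi _ _ _ _ _ _ _ hc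

end

variable {X : Scheme.{u}}

lemma isFinLocFree_isZero {M : X.Modules} (h : IsZero M) : FlatMod.IsFinLocFree M := fun x =>
  ⟨⊤, 0, trivial, ⟨((Scheme.Modules.restrictFunctor _).map_isZero h).iso
    ((IsZero.iff_id_eq_zero _).2 (Sigma.hom_ext _ _ fun a => a.elim0))⟩⟩

lemma isStrictlyPerfect_trunc {E : CochainComplex X.Modules ℤ} (hE : DCoh.IsStrictlyPerfect E)
    (n : ℤ) : DCoh.IsStrictlyPerfect (trunc E n) := by
  obtain ⟨⟨a, b, h⟩, hlf⟩ := hE
  refine ⟨⟨a, b, fun i hi => ?_⟩, fun i => ?_⟩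
  · haveI : Mono ((ι E n).f i) := inferInstanceAs (Mono (kernel.ι _))
    exact IsZero.of_mono ((ι E n).f i) (h i hi)
  · by_cases hi : n ≤ i
    · haveI := isIso_ι E n i hi
      exact TensorMod.LocFree.of_iso (asIso ((ι E n).f i)).symm (hlf i)
    · exact isFinLocFree_isZero (isZero_trunc E n i (by omega))

end Groth.Agent.Lib.Perfect.Stupid
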