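import Groth.Agent.Lib.DR.PseudoCoherent
import Groth.Agent.Lib.FlatCx.BaseChange
import Mathlib.RingTheory.Localization.Integer
import Mathlib.Data.Int.Interval
import Mathlib.LinearAlgebra.Matrix.ToLin
import Mathlib.RingTheory.TensorProduct.Free

/-!
# Bounded complexes of free modules over a localization come from the ring
-/

set_option autoImplicit false
set_option linter.style.haveILetI false

universe u

open CategoryTheory CategoryTheory.Limits TensorProduct
open Groth.Agent.Lib Groth.Agent.Lib.DR.PseudoCoherent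

namespace Groth.Agent.Lib.Perfect.SpreadFree

variable {R S : Type u} [CommRing R] [CommRing S]

/-- Matrices over a localization with vanishing consecutive products are, up to units, matrices
over the ring with vanishing consecutive products. -/
theorem exists_matrices [Algebra R S] (M : Submonoid R) [IsLocalization M S] (a b : ℤ) (n : ℤ → ℕ)
    (hn : ∀ i, i < a ∨ b < i → n i = 0) (D : ∀ i, Matrix (Fin (n (i + 1))) (Fin (n i)) S)
    (hD : ∀ i, D (i + 1) * D i = 0) :
    ∃ (A : ∀ i, Matrix (Fin (n (i + 1))) (Fin (n i)) R) (u : ℤ → Sˣ),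
      (∀ i, A (i + 1) * A i = 0) ∧
      ∀ i, (u (i + 1) : S) • (A i).map (algebraMap R S) = (u i : S) • D i := by
  classical
  have h1 : ∀ i, ∃ (s : M) (B : Matrix (Fin (n (i + 1))) (Fin (n i)) R),
      B.map (algebraMap R S) = algebraMap R S s • D i := fun i => by
    obtain ⟨s, hs⟩ := IsLocalization.exist_integer_multiples_of_finite M
      (fun p : Fin (n (i + 1)) × Fin (n i) => D i p.1 p.2)
    choose B hB using hs
    refine ⟨s, Matrix.of fun r k => B (r, k), ?_⟩
    ext r k
    simp [hB (r, k), Algebra.smul_def]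
  choose s B hB using h1
  have h2 : ∀ i, ∃ t : M, ∀ r k, (t : R) * (B (i + 1) * B i) r k = 0 := fun i => by
    have h0 : ((B (i + 1) * B i).map (algebraMap R S)) = 0 := by
      rw [Matrix.map_mul, hB, hB, Matrix.smul_mul, Matrix.mul_smul, hD, smul_zero, smul_zero]
    have : ∀ p : Fin (n (i + 1 + 1)) × Fin (n i), ∃ t : M, (t : R) * (B (i + 1) * B i) p.1 p.2 = 0 :=
      fun p => (IsLocalization.map_eq_zero_iff M S _).1 (congrFun (congrFun h0 p.1) p.2)
    choose t ht using this
    refine ⟨∏ p, t p, fun r k => ?_⟩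
    rw [← Finset.prod_erase_mul _ _ (Finset.mem_univ (r, k)), Submonoid.coe_mul, mul_assoc, ht (r, k),
      mul_zero]
  choose t ht using h2
  let T : M := ∏ i ∈ Finset.Icc a b, t i
  let A : ∀ i, Matrix (Fin (n (i + 1))) (Fin (n i)) R := fun i => (T : R) • B i
  have hA : ∀ i, A (i + 1) * A i = 0 := fun i => by
    by_cases hi : a ≤ i ∧ i ≤ b
    · ext r k
      have hT : T = (∏ j ∈ (Finset.Icc a b).erase i, t j) * t i :=
        (Finset.prod_erase_mul _ _ (Finset.mem_Icc.2 hi)).symm
      simp only [A, Matrix.smul_mul, Matrix.mul_smul, Matrix.smul_apply, smul_eq_mul, Matrix.zero_apply]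
      rw [← mul_assoc]
      nth_rewrite 2 [hT]
      rw [Submonoid.coe_mul, mul_assoc, mul_assoc, ht i r k, mul_zero, mul_zero]
    · ext r k
      have := hn i (by omega)
      exact absurd k.2 (by omega)
  let w : ℤ → Sˣ := fun i => (IsLocalization.map_units S (T * s i)).unit
  let u : ℤ → Sˣ := fun i => (∏ j ∈ Finset.Ico a i, w j)⁻¹
  refine ⟨A, u, hA, fun i => ?_⟩
  by_cases hi : a ≤ i
  · have hu : u (i + 1) * w i = u i := by
      have : Finset.Ico a (i + 1) = insert i (Finset.Ico a i) := by
        ext j; simp; omega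
      simp only [u, this, Finset.prod_insert (show i ∉ Finset.Ico a i by simp), mul_inv_rev]
      rw [inv_mul_cancel_right]
    rw [← hu, Units.val_mul, mul_smul]
    congr 1
    ext r k
    simp only [A, Matrix.map_apply, Matrix.smul_apply, smul_eq_mul, map_mul, w, IsUnit.unit_spec,
      Submonoid.coe_mul]
    have := congrFun (congrFun (hB i) r) k
    simp only [Matrix.map_apply, Matrix.smul_apply, smul_eq_mul] at this
    rw [this, mul_assoc]
  · ext r k
    have := hn i (by omega)
    exact absurd k.2 (by omega)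

/-- A bounded complex of finite free modules over a localization is extended from the ring. -/
theorem exists_model (σ : R →+* S) (M : Submonoid R)
    (hloc : letI := σ.toAlgebra; IsLocalization M S) (E : DRing.Cx S) (a b : ℤ)
    (hv : ∀ i, i < a ∨ b < i → IsZero (E.X i)) (hp : ∀ i, ff S (E.X i)) [Nontrivial S] :
    ∃ P : DRing.Cx R, (∀ i, i < a ∨ b < i → IsZero (P.X i)) ∧ (∀ i, ff R (P.X i)) ∧
      Nonempty (((ModuleCat.extendScalars.{u, u, u} σ).mapHomologicalComplex
        (ComplexShape.up ℤ)).obj P ≅ E) := by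
  classical
  letI : Algebra R S := σ.toAlgebra
  haveI : IsLocalization M S := hloc
  haveI := fun i => (hp i).1
  haveI := fun i => (hp i).2
  let n : ℤ → ℕ := fun i => Module.finrank S (E.X i)
  let B : ∀ i, Module.Basis (Fin (n i)) S (E.X i) := fun i => Module.finBasis S (E.X i)
  have hn : ∀ i, i < a ∨ b < i → n i = 0 := fun i hi => by
    haveI := ModuleCat.subsingleton_of_isZero (hv i hi)
    exact Module.finrank_zero_of_subsingleton
  let D : ∀ i, Matrix (Fin (n (i + 1))) (Fin (n i)) S := fun i =>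
    LinearMap.toMatrix (B i) (B (i + 1)) (E.d i (i + 1)).hom
  have hD : ∀ i, D (i + 1) * D i = 0 := fun i => by
    rw [← LinearMap.toMatrix_comp (B i) (B (i + 1)) (B (i + 1 + 1)),
      show (E.d (i + 1) (i + 1 + 1)).hom ∘ₗ (E.d i (i + 1)).hom = 0 from
        congrArg ModuleCat.Hom.hom (E.d_comp_d i (i + 1) (i + 1 + 1)), map_zero]
  obtain ⟨A, u, hA, hu⟩ := exists_matrices (R := R) (S := S) M a b n hn D hD
  let P : DRing.Cx R := CochainComplex.of (fun i => ModuleCat.of R (Fin (n i) → R))
    (fun i => ModuleCat.ofHom (Matrix.toLin' (A i))) (fun i => by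
      apply ModuleCat.hom_ext
      change Matrix.toLin' (A (i + 1)) ∘ₗ Matrix.toLin' (A i) = 0
      rw [← Matrix.toLin'_mul, hA, map_zero])
  refine ⟨P, fun i hi => ?_, fun i =>
    ⟨inferInstanceAs (Module.Finite R (Fin (n i) → R)), inferInstanceAs (Module.Free R (Fin (n i) → R))⟩,
    ⟨?_⟩⟩
  · haveI : Subsingleton (Fin (n i) → R) := by
      rw [hn i hi]; infer_instance
    exact ModuleCat.isZero_of_subsingleton _
  let θ₀ : ∀ i, (S ⊗[R] (Fin (n i) → R)) ≃ₗ[S] E.X i := fun i =>
    (Algebra.TensorProduct.basis S (Pi.basisFun R (Fin (n i)))).equiv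
      ((B i).unitsSMul fun _ => u i) (Equiv.refl _)
  have hθ₀ : ∀ i k, θ₀ i (1 ⊗ₜ Pi.single k 1) = (u i : S) • B i k := fun i k => by
    rw [show (1 : S) ⊗ₜ[R] (Pi.single k 1 : Fin (n i) → R) =
      Algebra.TensorProduct.basis S (Pi.basisFun R (Fin (n i))) k by simp,
      Module.Basis.equiv_apply, Module.Basis.unitsSMul_apply]
    rfl
  let θ : ∀ i, ((ModuleCat.extendScalars.{u, u, u} (algebraMap R S)).obj (P.X i)) ≅ E.X i := fun i =>
    (FlatCx.BaseChange.extEquiv S (P.X i) ≪≫ₗ θ₀ i).toModuleIso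
  refine HomologicalComplex.Hom.isoOfComponents θ ?_
  rintro i _ rfl
  apply ModuleCat.hom_ext
  ext z
  change (E.d i (i + 1)).hom (θ₀ i (FlatCx.BaseChange.extEquiv S (P.X i) z)) =
    θ₀ (i + 1) (FlatCx.BaseChange.extEquiv S (P.X (i + 1))
      ((ModuleCat.extendScalars.{u, u, u} (algebraMap R S)).map (P.d i (i + 1)) z))
  rw [FlatCx.BaseChange.extEquiv_map]
  obtain ⟨w, rfl⟩ := (FlatCx.BaseChange.extEquiv S (P.X i)).symm.surjective z
  rw [LinearEquiv.apply_symm_apply]
  refine LinearMap.congr_fun (f := (E.d i (i + 1)).hom ∘ₗ (θ₀ i).toLinearMap)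
    (g := (θ₀ (i + 1)).toLinearMap ∘ₗ (P.d i (i + 1)).hom.baseChange S) ?_ w
  refine (Algebra.TensorProduct.basis S (Pi.basisFun R (Fin (n i)))).ext fun k => ?_
  simp only [Algebra.TensorProduct.basis_apply, Pi.basisFun_apply, LinearMap.comp_apply,
    LinearEquiv.coe_coe, hθ₀, map_smul]
  rw [show (P.d i (i + 1)).hom.baseChange S (1 ⊗ₜ[R] Pi.single k 1) =
      ∑ r, algebraMap R S (A i r k) • ((1 : S) ⊗ₜ[R] (Pi.single r 1 : Fin (n (i + 1)) → R)) by
    rw [show P.d i (i + 1) = ModuleCat.ofHom (Matrix.toLin' (A i)) from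
      CochainComplex.of_d (fun i => ModuleCat.of R (Fin (n i) → R))
        (fun i => ModuleCat.ofHom (Matrix.toLin' (A i))) i]
    simp only [LinearMap.baseChange_tmul, algebraMap_smul, ← TensorProduct.tmul_smul,
      ← TensorProduct.tmul_sum]
    congr 1
    funext r
    simp [Finset.sum_apply, Pi.single_apply]
    have : Matrix.toLin' (A i) (Pi.single k (1 : R)) r = A i r k := by
      rw [Matrix.toLin'_apply, Matrix.mulVec_single_one]
      rfl
    exact this]
  simp only [map_sum, map_smul, hθ₀]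
  have hd : (E.d i (i + 1)).hom (B i k) = ∑ r, D i r k • B (i + 1) r := by
    rw [← (B (i + 1)).sum_repr ((E.d i (i + 1)).hom (B i k))]
    exact Finset.sum_congr rfl fun r _ => by simp [D, LinearMap.toMatrix_apply]
  rw [hd, Finset.smul_sum]
  refine Finset.sum_congr rfl fun r _ => ?_
  have := congrFun (congrFun (hu i) r) k
  simp only [Matrix.smul_apply, Matrix.map_apply, smul_eq_mul] at this
  rw [smul_smul, smul_smul, ← this, mul_comm]

end Groth.Agent.Lib.Perfect.SpreadFree
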