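import Groth.Prelude.Def_DerSch
import Groth.Agent.Lib.Perfect.SpreadFree
import Groth.Agent.Lib.Perfect.Triangle
import Groth.Agent.Lib.DR.ExactPush
import Groth.Agent.Lib.DerivedOX.TildeStalk
import Groth.Agent.Lib.DerivedOX.StalkCx
import Groth.Agent.S12451
import Mathlib.Algebra.Category.ModuleCat.ChangeOfRingsExact

/-!
# Spreading out a perfect complex of the local ring
-/

set_option autoImplicit false
set_option linter.style.haveILetI false

universe u

open CategoryTheory CategoryTheory.Limits AlgebraicGeometry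
open Groth.Agent.Lib Groth.Agent.Lib.DR.PseudoCoherent

attribute [local instance] HasDerivedCategory.standard

namespace Groth.Agent.Lib.Perfect.Spread

open Groth.Agent.Lib.Perfect.Basic Groth.Agent.Lib.Modules Groth.Agent.Lib.DerivedOX

variable {X U : Scheme.{u}}

lemma ff_restrictScalars {R S : Type u} [CommRing R] [CommRing S] (σ : R ≃+* S) (M : ModuleCat.{u} S)
    (h : ff S M) : ff R ((ModuleCat.restrictScalars σ.toRingHom).obj M) := by
  haveI := RingHomInvPair.of_ringEquiv σ
  haveI := RingHomInvPair.of_ringEquiv σ.symm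
  let e : ((ModuleCat.restrictScalars σ.toRingHom).obj M) ≃ₛₗ[(σ : R →+* S)] M :=
    { toFun := fun m => m
      invFun := fun m => m
      map_add' := fun _ _ => rfl
      map_smul' := fun _ _ => rfl
      left_inv := fun _ => rfl
      right_inv := fun _ => rfl }
  haveI := h.1
  haveI := h.2
  exact ⟨Module.Finite.of_surjective e.symm.toLinearMap e.symm.surjective,
    (Module.Free.iff_of_equiv e).2 inferInstance⟩

/-- Stalks and restriction along an open immersion. -/
noncomputable def stalkRestrictIso (j : U ⟶ X) [IsOpenImmersion j] (y : U) :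
    StalkModule.stalkModFunctor X (j y) ⋙
        ModuleCat.restrictScalars.{u}
          ((asIso (j.stalkMap y)).commRingCatIsoToRingEquiv).symm.toRingHom ≅
      Scheme.Modules.restrictFunctor j ⋙ StalkModule.stalkModFunctor U y :=
  NatIso.ofComponents (fun M =>
    let σ : X.presheaf.stalk (j y) ≃+* U.presheaf.stalk y :=
      (asIso (j.stalkMap y)).commRingCatIsoToRingEquiv
    let e₀ : (((ModuleCat.restrictScalars.{u} σ.symm.toRingHom).obj
          ((StalkModule.stalkModFunctor X (j y)).obj M)) : Type u) ≃ₗ[U.presheaf.stalk y]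
        (((Scheme.Modules.restrictFunctor j ⋙ StalkModule.stalkModFunctor U y).obj M) : Type u) :=
      { (StalkRestrict.restrictStalkAddEquiv j M y).symm with
        map_smul' := fun a v => by
          let e := StalkRestrict.restrictStalkAddEquiv j M y
          obtain ⟨a, rfl⟩ := σ.surjective a
          apply e.injective
          change e (e.symm (σ.symm (σ a) • (show M.presheaf.stalk (j y) from v))) =
            e (j.stalkMap y a • e.symm v)
          rw [StalkRestrict.restrictStalkAddEquiv_smul, σ.symm_apply_apply,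
            e.apply_symm_apply, e.apply_symm_apply] }
    e₀.toModuleIso)
    (fun {M N} φ => by
      ext v
      exact ConcreteCategory.congr_hom ((Local.restrictStalkIso j y).inv.naturality φ) v)

/-- Restricting scalars along an isomorphism and back. -/
noncomputable def restrictRestrictIso {R S : Type u} [CommRing R] [CommRing S] (σ : R ≃+* S) :
    ModuleCat.restrictScalars.{u} σ.symm.toRingHom ⋙ ModuleCat.restrictScalars.{u} σ.toRingHom ≅
      𝟭 (ModuleCat.{u} R) :=
  NatIso.ofComponents (fun M =>
    let e : (((ModuleCat.restrictScalars.{u} σ.symm.toRingHom ⋙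
        ModuleCat.restrictScalars.{u} σ.toRingHom).obj M) : Type u) ≃ₗ[R] (M : Type u) :=
      { toFun := fun m => m
        invFun := fun m => m
        map_add' := fun _ _ => rfl
        map_smul' := fun r m => by
          change σ.symm (σ r) • (show M from m) = r • (show M from m)
          rw [σ.symm_apply_apply]
        left_inv := fun _ => rfl
        right_inv := fun _ => rfl }
    e.toModuleIso) (fun {M N} φ => rfl)

/-- A perfect complex over the local ring at `x` comes from a neighbourhood of `x`. -/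
theorem exists_spread (x : X) (P : Dual.D (X.presheaf.stalk x : Type u))
    (hP : DRing.IsPerfect (X.presheaf.stalk x : Type u) P) :
    ∃ (U : X.Opens) (F' : CochainComplex X.Modules ℤ), x ∈ U ∧
      DCoh.IsPerfect (DerivedCategory.Q.obj ((DCoh.restrictCx U).obj F')) ∧
      Nonempty (DRing.toD (((DerSch.stalkFunctor X x).mapHomologicalComplex
        (ComplexShape.up ℤ)).obj F') ≅ P) := by
  obtain ⟨E, a, b, hv, hp, ⟨eP⟩⟩ := hP
  obtain ⟨V, hV, hxV, -⟩ := exists_isAffineOpen_mem_and_subset (X := X) (x := x) (U := ⊤) trivial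
  obtain ⟨p, rfl⟩ : x ∈ Set.range hV.fromSpec := by rw [hV.range_fromSpec]; exact hxV
  let j := hV.fromSpec
  let σ : X.presheaf.stalk (j p) ≃+* (Spec Γ(X, V)).presheaf.stalk p :=
    (asIso (j.stalkMap p)).commRingCatIsoToRingEquiv
  let S' := ModuleCat.restrictScalars.{u} σ.symm.toRingHom
  let S := ModuleCat.restrictScalars.{u} σ.toRingHom
  haveI : ∀ i, Module.Finite (X.presheaf.stalk (j p)) (E.X i) := fun i => (hp i).1
  haveI : ∀ i, Module.Projective (X.presheaf.stalk (j p)) (E.X i) := fun i => (hp i).2
  have hff : ∀ i, ff (X.presheaf.stalk (j p)) (E.X i) := fun i =>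
    ⟨inferInstance, Module.free_of_flat_of_isLocalRing⟩
  let E' := (S'.mapHomologicalComplex (ComplexShape.up ℤ)).obj E
  let q : PrimeSpectrum Γ(X, V) := p
  obtain ⟨P₀, hv₀, hp₀, ⟨e₀⟩⟩ := SpreadFree.exists_model (TildeStalk.σ Γ(X, V) p) q.asIdeal.primeCompl
    (by
      show @IsLocalization _ _ q.asIdeal.primeCompl ((Spec Γ(X, V)).presheaf.stalk p) _
        (TildeStalk.σ Γ(X, V) p).toAlgebra
      exact StructureSheaf.IsLocalization.to_stalk Γ(X, V) q)
    E' a b (fun i hi => S'.map_isZero (hv i hi)) (fun i => ff_restrictScalars σ.symm _ (hff i))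
  let G := ((tilde.functor Γ(X, V)).mapHomologicalComplex (ComplexShape.up ℤ)).obj P₀
  let F' := ((Scheme.Modules.pushforward j).mapHomologicalComplex (ComplexShape.up ℤ)).obj G
  let c := Scheme.Modules.restrictAdjunction j
  let eG : (rC j).obj F' ≅ G :=
    (NatIso.mapHomologicalComplex (asIso c.counit) (ComplexShape.up ℤ)).app G
  refine ⟨j.opensRange, F', ⟨p, rfl⟩, ?_, ⟨?_⟩⟩
  · let k := j.isoOpensRange.inv
    have hG : DCoh.IsStrictlyPerfect G :=
      ⟨⟨a, b, fun i hi => (tilde.functor Γ(X, V)).map_isZero (hv₀ i hi)⟩, fun i =>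
        (S12451.result (R := Γ(X, V)) (P₀.X i)).2 (fproj_of_ff _ (hp₀ i))⟩
    refine (Triangle.isPerfect_iff _).2 fun y =>
      ⟨_, 𝟙 _, inferInstance, y, (rC (𝟙 _)).obj ((rC k).obj G), by simp,
        isStrictlyPerfect_map _ (isStrictlyPerfect_map k hG), ⟨?_⟩⟩
    exact RDQ (𝟙 _) _ ≪≫ DerivedCategory.Q.mapIso ((rC (𝟙 _)).mapIso
      ((rCCongr (Scheme.Hom.isoOpensRange_inv_comp j).symm).app F' ≪≫ (rCComp k j).app F' ≪≫
        (rC k).mapIso eG))
  · let St := StalkModule.stalkModFunctor X (j p)
    let Sp := StalkModule.stalkModFunctor (Spec Γ(X, V)) p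
    let e1 : (S'.mapHomologicalComplex (ComplexShape.up ℤ)).obj
        ((St.mapHomologicalComplex (ComplexShape.up ℤ)).obj F') ≅ E' :=
      (NatIso.mapHomologicalComplex (stalkRestrictIso j p) (ComplexShape.up ℤ)).app F' ≪≫
        (Sp.mapHomologicalComplex (ComplexShape.up ℤ)).mapIso eG ≪≫
        ((NatIso.mapHomologicalComplex (TildeStalk.tildeStalkIso Γ(X, V) p) (ComplexShape.up ℤ)).app P₀).symm ≪≫
        e₀
    let r := NatIso.mapHomologicalComplex (restrictRestrictIso σ) (ComplexShape.up ℤ)
    let e2 : (St.mapHomologicalComplex (ComplexShape.up ℤ)).obj F' ≅ E :=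
      (r.app ((St.mapHomologicalComplex (ComplexShape.up ℤ)).obj F')).symm ≪≫
        (S.mapHomologicalComplex (ComplexShape.up ℤ)).mapIso e1 ≪≫ r.app E
    exact DerivedCategory.Q.mapIso ((NatIso.mapHomologicalComplex (StalkCx.derStalkIso (j p))
      (ComplexShape.up ℤ)).app F' ≪≫ e2) ≪≫ eP

end Groth.Agent.Lib.Perfect.Spread
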