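import Groth.Agent.Lib.Perfect.Amplitude

/-!
# Direct summands of perfect objects are perfect
-/

set_option autoImplicit false
set_option linter.style.haveILetI false

universe u

open CategoryTheory Limits AlgebraicGeometry

namespace Groth.Agent.Lib.Perfect.SummandPerfect

open Groth.Agent.Lib Groth.Agent.Lib.Perfect.Basic Groth.Agent.Lib.Perfect.Ascent
open Groth.Agent.Lib.DerivedOX Groth.Agent.Lib.Modules Groth.Agent.Lib.Perfect.PseudoCoh
open Groth.Agent.Lib.Perfect.Pullback Groth.Agent.Lib.Perfect.EulerChar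

attribute [local instance] HasDerivedCategory.standard

variable {X : Scheme.{u}}

/-- A direct sum of K-projectives is K-projective. -/
lemma isKProjective_biprod {C : Type*} [Category C] [Abelian C] (A B : CochainComplex C ℤ)
    [A.IsKProjective] [B.IsKProjective] : CochainComplex.IsKProjective (A ⊞ B) where
  nonempty_homotopy_zero {L} f hL :=
    ⟨(Homotopy.ofEq (show f = biprod.fst ≫ biprod.inl ≫ f + biprod.snd ≫ biprod.inr ≫ f by
        rw [← Category.assoc, ← Category.assoc, ← Preadditive.add_comp, biprod.total,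
          Category.id_comp])).trans
      ((((CochainComplex.IsKProjective.homotopyZero (biprod.inl ≫ f) hL).compLeft biprod.fst).add
        ((CochainComplex.IsKProjective.homotopyZero (biprod.inr ≫ f) hL).compLeft biprod.snd)).trans
          (Homotopy.ofEq (by simp)))⟩

lemma stalkKProj_biprod {A B : CochainComplex X.Modules ℤ} (hA : StalkKProj A) (hB : StalkKProj B) :
    StalkKProj (A ⊞ B) := fun x => by
  let F := (StalkModule.stalkModFunctor X x).mapHomologicalComplex (ComplexShape.up ℤ)
  haveI := hA x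
  haveI := hB x
  haveI := isKProjective_biprod (F.obj A) (F.obj B)
  haveI : PreservesBinaryBiproducts F := preservesBinaryBiproducts_of_preservesBiproducts F
  exact CochainComplex.isKProjective_of_iso (F.mapBiprod A B).symm

/-- Restriction along the identity. -/
lemma exists_RD_id (K : DCoh.D X) : Nonempty ((RD (𝟙 X)).obj K ≅ K) :=
  ⟨(RD (𝟙 X)).mapIso (DerivedCategory.Q.objObjPreimageIso K).symm ≪≫ RDQ _ _ ≪≫
    DerivedCategory.Q.mapIso ((rCId X).app _) ≪≫ DerivedCategory.Q.objObjPreimageIso K⟩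

variable {R : CommRingCat.{u}}

/-- If the fibre dimensions of the cokernels in degrees `a - 1` and `a` add up to the rank in degree
`a`, the cokernel in degree `a` is free at the point. -/
theorem free_stalk_coker (E : CochainComplex (Spec R).Modules ℤ) (n : ℤ → ℕ)
    (he : ∀ k, Nonempty (E.X k ≅ FlatMod.freeMod (Spec R) (n k)))
    (N : ℤ → ModuleCat.{u} R) (hN : ∀ k, Module.FinitePresentation R (N k))
    (hi : ∀ k, Nonempty (cokernel (E.d (k - 1) k) ≅ tilde (N k))) (p : Spec R) (a : ℤ)
    (h0 : FlatCx.Rank.fdim (A := R) (N (a - 1)) p + FlatCx.Rank.fdim (A := R) (N a) p = n a) :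
    Module.Free ((Spec R).presheaf.stalk p) ((cokernel (E.d (a - 1) a)).presheaf.stalk p) := by
  let F := StalkModule.stalkModFunctor (Spec R) p
  haveI : PreservesFiniteColimits F := PreservesColimitsOfSize.preservesFiniteColimits _
  let C : ℤ → (Spec R).Modules := fun k => cokernel (E.d (k - 1) k)
  let π : ∀ k, E.X k ⟶ C k := fun k => cokernel.π _
  let u : C (a - 1) ⟶ E.X a := cokernel.desc _ (E.d (a - 1) a) (E.d_comp_d _ _ _)
  have hu : π (a - 1) ≫ u = E.d (a - 1) a := cokernel.π_desc _ _ _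
  haveI : ∀ k, Module.Free ((Spec R).presheaf.stalk p) (F.obj (E.X k)) := fun k =>
    (FibreStalk.finite_free_stalk (he k).some p).1
  haveI : ∀ k, Module.Finite ((Spec R).presheaf.stalk p) (F.obj (E.X k)) := fun k =>
    (FibreStalk.finite_free_stalk (he k).some p).2.1
  have hπs : ∀ k, Function.Surjective (F.map (π k)).hom := fun k =>
    (ModuleCat.epi_iff_surjective _).1 inferInstance
  haveI : Module.Finite ((Spec R).presheaf.stalk p) (F.obj (C (a - 1))) :=
    Module.Finite.of_surjective _ (hπs (a - 1))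
  have hC : ∀ k, FlatCx.Rank.fdim (A := (Spec R).presheaf.stalk p) (F.obj (C k))
      (IsLocalRing.closedPoint _) = FlatCx.Rank.fdim (A := R) (N k) p := fun k => by
    haveI := hN k
    rw [← FibreStalk.fdim_stalk_tilde (N k) p]
    exact congrFun (FlatCx.Rank.fdim_congr _ (StalkModule.stalkLinearEquiv (hi k).some p)) _
  obtain ⟨g, hg⟩ := LocalCx.exists_surjection (A := (Spec R).presheaf.stalk p) (F.obj (C (a - 1)))
  have hex : LinearMap.range ((F.map u).hom ∘ₗ g) = LinearMap.ker (F.map (π a)).hom := by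
    rw [LinearMap.range_comp_of_range_eq_top _ (LinearMap.range_eq_top.2 hg)]
    have h1 : LinearMap.range (F.map (E.d (a - 1) a)).hom = LinearMap.ker (F.map (π a)).hom :=
      ((ShortComplex.exact_cokernel (E.d (a - 1) a)).map F).moduleCat_range_eq_ker
    rw [← h1, ← hu, F.map_comp, ModuleCat.hom_comp,
      LinearMap.range_comp_of_range_eq_top _ (LinearMap.range_eq_top.2 (hπs (a - 1)))]
  refine (LocalCx.injective_and_free _ (F.map (π a)).hom (hπs a) hex ?_).2
  rw [Module.finrank_fin_fun, hC a, hC (a - 1), add_comm, h0]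
  exact (FibreStalk.finite_free_stalk (he a).some p).2.2.symm

/-- The pullback of a summand has no cohomology where that of the sum has none. -/
theorem isZero_pC_homology {Y Z : Scheme.{u}} (h : Z ⟶ Y) {A B G : CochainComplex Y.Modules ℤ}
    (hA : StalkKProj A) (hB : StalkKProj B) (hG : StalkKProj G)
    (e : DerivedCategory.Q.obj A ⊞ DerivedCategory.Q.obj B ≅ DerivedCategory.Q.obj G) (k : ℤ)
    (hk : IsZero (((pC h).obj G).homology k)) : IsZero (((pC h).obj A).homology k) := by
  haveI : PreservesBinaryBiproducts (DerivedCategory.Q (C := Y.Modules)) :=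
    preservesBinaryBiproducts_of_preservesBiproducts _
  obtain ⟨eq⟩ := Amplitude.exists_pC_iso h (stalkKProj_biprod hA hB) hG
    (DerivedCategory.Q.mapBiprod A B ≪≫ e)
  have hz : IsZero (((pC h).obj (A ⊞ B)).homology k) :=
    hk.of_iso (((DerivedCategory.homologyFunctorFactors Z.Modules k).app _).symm ≪≫
      (DerivedCategory.homologyFunctor Z.Modules k).mapIso eq ≪≫
      (DerivedCategory.homologyFunctorFactors Z.Modules k).app _)
  let T := pC h ⋙ HomologicalComplex.homologyFunctor Z.Modules (ComplexShape.up ℤ) k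
  have h1 : T.map (biprod.inl : A ⟶ A ⊞ B) ≫ T.map biprod.fst = 𝟙 _ := by
    rw [← T.map_comp, biprod.inl_fst, T.map_id]
  refine (IsZero.iff_id_eq_zero _).2 ?_
  change 𝟙 (T.obj A) = 0
  exact h1.symm.trans ((congrArg (· ≫ T.map biprod.fst) (hz.eq_of_tgt (T.map biprod.inl) 0)).trans zero_comp)

/-- An object without cohomology below `a`, which receives a map from `E` that is an isomorphism
on cohomology in degrees `≥ a`, is the truncation of `E`. -/
theorem exists_truncGE_iso {Y : Scheme.{u}} {E : CochainComplex Y.Modules ℤ} {K : DCoh.D Y}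
    (α : DerivedCategory.Q.obj E ⟶ K) (a : ℤ)
    (hα : ∀ i, a ≤ i → IsIso ((DerivedCategory.homologyFunctor Y.Modules i).map α))
    (hK : ∀ i, i < a → IsZero (DCoh.HD K i)) :
    Nonempty (K ≅ DerivedCategory.Q.obj (E.truncGE a)) := by
  let L := DerivedCategory.Q.objPreimage K
  let eL : DerivedCategory.Q.obj L ≅ K := DerivedCategory.Q.objObjPreimageIso K
  obtain ⟨T, s, _, t, ht⟩ := DerivedCategory.right_fac (α ≫ eL.inv)
  haveI : QuasiIso s := (DerivedCategory.isIso_Q_map_iff_quasiIso _ s).1 inferInstance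
  have hqt : ∀ i, a ≤ i → QuasiIsoAt t i := fun i hi => by
    rw [quasiIsoAt_iff_isIso_homologyMap]
    refine (NatIso.isIso_map_iff (DerivedCategory.homologyFunctorFactors Y.Modules i) t).1 ?_
    have h' : DerivedCategory.Q.map t = DerivedCategory.Q.map s ≫ α ≫ eL.inv := by
      rw [ht, IsIso.hom_inv_id_assoc]
    change IsIso ((DerivedCategory.homologyFunctor Y.Modules i).map (DerivedCategory.Q.map t))
    rw [h', Functor.map_comp, Functor.map_comp]
    haveI := hα i hi
    infer_instance
  haveI : QuasiIso (CochainComplex.truncGEMap t a) := (CochainComplex.quasiIso_truncGEMap_iff t a).2 hqt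
  haveI : QuasiIso (CochainComplex.truncGEMap s a) :=
    (CochainComplex.quasiIso_truncGEMap_iff s a).2 fun i _ => inferInstance
  haveI : L.IsGE a := (CochainComplex.isGE_iff L a).2 fun i hi => by
    rw [HomologicalComplex.exactAt_iff_isZero_homology]
    exact (hK i hi).of_iso (((DerivedCategory.homologyFunctorFactors Y.Modules i).app L).symm ≪≫
      (DerivedCategory.homologyFunctor Y.Modules i).mapIso eL)
  exact ⟨eL.symm ≪≫ asIso (DerivedCategory.Q.map (L.πTruncGE a)) ≪≫
    (asIso (DerivedCategory.Q.map (CochainComplex.truncGEMap t a))).symm ≪≫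
    asIso (DerivedCategory.Q.map (CochainComplex.truncGEMap s a))⟩

/-- The local statement on an affine chart. -/
theorem perfAt_chart (K L : DCoh.D (Spec R)) (p : Spec R)
    (G : CochainComplex (Spec R).Modules ℤ) (hG : DCoh.IsStrictlyPerfect G) (a : ℤ)
    (hGa : ∀ i, i < a → IsZero (G.X i)) (e : K ⊞ L ≅ DerivedCategory.Q.obj G)
    (E : CochainComplex (Spec R).Modules ℤ) (α : DerivedCategory.Q.obj E ⟶ K)
    (hE : DCoh.IsStrictlyPerfect E) (hα : Good (a - 2) α) (n : ℤ → ℕ)
    (he : ∀ k, Nonempty (E.X k ≅ FlatMod.freeMod (Spec R) (n k))) :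
    Triangle.PerfAt K p := by
  choose N hN hiN using FibreDim.exists_coker n he
  let Lc := (Spec R).residueField p
  let h := (Spec R).fromSpecResidueField p
  haveI : DCoh.HasLpull h := LeftExists.hasLpull h
  obtain ⟨PK, hPK, ⟨eK⟩, ⟨eLK⟩⟩ := exists_Lpull_iso h K
  obtain ⟨PL, hPL, ⟨eL⟩, -⟩ := exists_Lpull_iso h L
  have hz : IsZero (DCoh.HD ((DCoh.Lpull h).obj K) (a - 1)) := by
    have hG0 : IsZero (((pC h).obj G).homology (a - 1)) :=
      (HomologicalComplex.ExactAt.of_isZero
        ((Scheme.Modules.pullback h).map_isZero (hGa (a - 1) (by omega)))).isZero_homology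
    exact (isZero_pC_homology h (Amplitude.stalkKProj_of_isCof hPK) (Amplitude.stalkKProj_of_isCof hPL)
      (stalkKProj_of_isStrictlyPerfect hG) (biprod.mapIso eK eL ≪≫ e) (a - 1) hG0).of_iso
      ((DerivedCategory.homologyFunctor _ (a - 1)).mapIso eLK ≪≫
        (DerivedCategory.homologyFunctorFactors _ (a - 1)).app _)
  have hd0 : deg (Spec Lc) (DCoh.HD ((DCoh.Lpull h).obj K) (a - 1)) = 0 := by
    haveI : Subsingleton Γ(DCoh.HD ((DCoh.Lpull h).obj K) (a - 1), ⊤) :=
      AddCommGrpCat.subsingleton_of_isZero ((DCoh.gammaAb (Spec Lc)).map_isZero hz)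
    simp [deg, Module.finrank_zero_of_subsingleton]
  have hfib := FibreDim.deg_fibre (𝟙 (Spec R)) h
    (Field.toIsField (IsLocalRing.ResidueField ((Spec R).presheaf.stalk p))) (K := K) hE
    (α ≫ (exists_RD_id K).some.inv) (hα.comp (Good.of_isIso _ _)) n he N hN hiN p
    (fun z => Scheme.fromSpecResidueField_apply _ z) (a - 1) (by omega)
  rw [hd0, show a - 1 + 1 = a by omega] at hfib
  have hfree := free_stalk_coker E n he N hN hiN p a (by omega)
  obtain ⟨V, d, hpV, ⟨eV⟩⟩ := FreeNear.exists_free_near (M := cokernel (E.d (a - 1) a))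
    ((he (a - 1)).some.inv ≫ E.d (a - 1) a ≫ (he a).some.hom)
    (cokernel.mapIso _ _ (he (a - 1)).some (he a).some (by simp)) p hfree
  have hK : ∀ i, i < a → IsZero (DCoh.HD K i) := fun i hi => by
    have hzG : IsZero ((DerivedCategory.homologyFunctor _ i).obj (K ⊞ L)) :=
      (HomologicalComplex.ExactAt.of_isZero (hGa i hi)).isZero_homology.of_iso
        ((DerivedCategory.homologyFunctor _ i).mapIso e ≪≫
          (DerivedCategory.homologyFunctorFactors _ i).app G)
    exact IsZero.of_mono ((DerivedCategory.homologyFunctor _ i).map (biprod.inl : K ⟶ K ⊞ L)) hzG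
  obtain ⟨eT⟩ := exists_truncGE_iso α a (fun i hi => hα.1 i (by omega)) hK
  refine Triangle.PerfAt.of_restrict (j := V.ι) (y := ⟨p, hpV⟩) rfl
    ⟨V, 𝟙 _, inferInstance, ⟨p, hpV⟩, (rC (𝟙 (V : Scheme.{u}))).obj ((rC V.ι).obj (E.truncGE a)), rfl,
      isStrictlyPerfect_map _ ?_, ⟨(RD (𝟙 (V : Scheme.{u}))).mapIso
        ((RD V.ι).mapIso eT ≪≫ RDQ V.ι _) ≪≫ RDQ _ _⟩⟩
  obtain ⟨⟨a', b, hv⟩, hlf⟩ := hE
  refine ⟨⟨a, max a b, fun i hi => (Scheme.Modules.restrictFunctor V.ι).map_isZero ?_⟩, fun i => ?_⟩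
  · rcases hi with hi | hi
    · exact CochainComplex.isZero_of_isStrictlyGE _ a i hi
    · exact (hv i (Or.inr (lt_of_le_of_lt (le_max_right a b) hi))).of_iso
        (E.truncGEXIso a i (lt_of_le_of_lt (le_max_left a b) hi))
  · rcases lt_trichotomy i a with hi | rfl | hi
    · exact Stupid.isFinLocFree_isZero ((Scheme.Modules.restrictFunctor V.ι).map_isZero
        (CochainComplex.isZero_of_isStrictlyGE _ a i hi))
    · refine TensorMod.LocFree.of_iso ((Scheme.Modules.restrictFunctor V.ι).mapIso
        ((E.opcyclesIsCokernel (i - 1) i (by simp)).coconePointUniqueUpToIso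
          (colimit.isColimit _)).symm ≪≫
          (Scheme.Modules.restrictFunctor V.ι).mapIso (E.truncGEXIsoOpcycles i).symm) ?_
      exact TensorMod.LocFree.of_iso eV.symm
        (TensorMod.LocFree.of_rank (TensorMod.LocFree.isFinLocFree_freeMod _ d))
    · exact TensorMod.LocFree.of_iso
        ((Scheme.Modules.restrictFunctor V.ι).mapIso (E.truncGEXIso a i hi).symm)
        (TensorMod.LocFree.isFinLocFree_restrict _ (hlf i))

/-- A summand of a perfect object is perfect. -/
theorem isPerfect_of_biprod (K L : DCoh.D X) (h : DCoh.IsPerfect (K ⊞ L)) : DCoh.IsPerfect K := by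
  have hPC : ∀ m, DCoh.IsPseudoCoherentD m (K ⊞ L) := fun m =>
    (iff_forall _ _).2 fun x => by
      obtain ⟨U, j, _, y, E, hy, hE, ⟨i⟩⟩ := (Triangle.isPerfect_iff _).1 h x
      exact ⟨U, j, inferInstance, y, E, i.inv, hy, hE, Good.of_isIso m _⟩
  refine (Triangle.isPerfect_iff K).2 fun x => ?_
  obtain ⟨U, j, _, y, G, rfl, hG, ⟨i⟩⟩ := (Triangle.isPerfect_iff _).1 h x
  obtain ⟨a, b, hv⟩ := hG.1
  have hKm := pcAt_of_biprod K L ((iff_forall _ _).1 (hPC (a - 2))) (j y)
  obtain ⟨R, l, _, p, E, α, n, hp, hE, hα, -, he⟩ := FibreDim.exists_chart (hKm.restrict j y)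
  haveI : PreservesBinaryBiproducts (RD j ⋙ RD l) :=
    preservesBinaryBiproducts_of_preservesBiproducts _
  refine Triangle.PerfAt.of_restrict (j := j) (y := y) rfl
    (Triangle.PerfAt.of_restrict (j := l) (y := p) hp ?_)
  exact perfAt_chart _ ((RD l).obj ((RD j).obj L)) p ((rC l).obj G) (isStrictlyPerfect_map l hG) a
    (fun k hk => (Scheme.Modules.restrictFunctor l).map_isZero (hv k (Or.inl hk)))
    (((RD j ⋙ RD l).mapBiprod K L).symm ≪≫ (RD l).mapIso i ≪≫ RDQ l G) E α hE hα n he

end Groth.Agent.Lib.Perfect.SummandPerfect
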