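import Groth.Agent.Lib.Perfect.Coherent
import Groth.Agent.Lib.DerCat.TStruct
import Mathlib.Algebra.Homology.DerivedCategory.FullyFaithful

/-!
# A bounded object with perfect cohomology sheaves is perfect
-/

set_option autoImplicit false
set_option linter.style.haveILetI false

universe u

open CategoryTheory Limits AlgebraicGeometry CategoryTheory.Pretriangulated DerivedCategory
open scoped ZeroObject

namespace Groth.Agent.Lib.Perfect.OfCohomology

open Groth.Agent.Lib.Perfect Groth.Agent.Lib.DerCat.TStruct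

attribute [local instance] HasDerivedCategory.standard

variable {X : Scheme.{u}}

lemma isPerfect_single {M : X.Modules} (hM : DCoh.IsPerfect (DCoh.inD X M)) (n : ℤ) :
    DCoh.IsPerfect ((singleFunctor X.Modules n).obj M) :=
  Triangle.isPerfect_of_iso
    (((singleFunctors X.Modules).shiftIso (-n) n 0 (neg_add_cancel n)).app M)
    (Triangle.isPerfect_shift hM (-n))

lemma isPerfect_of_isZero {K : DCoh.D X} (hK : IsZero K) : DCoh.IsPerfect K := by
  refine (Triangle.isPerfect_iff K).2 fun x => ⟨X, 𝟙 X, inferInstance, x, 0, rfl,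
    ⟨⟨0, 0, fun i _ => (HomologicalComplex.eval X.Modules _ i).map_isZero (isZero_zero _)⟩,
      fun i x => ⟨⊤, 0, trivial, ⟨?_⟩⟩⟩, ⟨IsZero.iso ?_ ?_⟩⟩
  · exact IsZero.iso ((Scheme.Modules.restrictFunctor _).map_isZero
        ((HomologicalComplex.eval X.Modules _ i).map_isZero (isZero_zero _)))
      ((IsZero.iff_id_eq_zero _).2 (Sigma.hom_ext _ _ fun a => a.elim0))
  · exact (Basic.RD (𝟙 X)).map_isZero hK
  · exact DerivedCategory.Q.map_isZero (isZero_zero _)

/-- A bounded object all whose cohomology sheaves are perfect is perfect. -/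
theorem isPerfect_of_cohomology {K : DCoh.D X} (h : ∀ i : ℤ, DCoh.IsPerfect (DCoh.inD X (DCoh.HD K i)))
    (hb : ∃ a b : ℤ, K.IsGE a ∧ K.IsLE b) : DCoh.IsPerfect K := by
  obtain ⟨a, b, ha, hb⟩ := hb
  obtain ⟨n, hn⟩ : ∃ n : ℕ, b < a + n := ⟨(b - a).toNat + 1, by omega⟩
  induction n generalizing K b with
  | zero => exact isPerfect_of_isZero (TStructure.t.isZero K b a (by omega))
  | succ n ih =>
    by_cases hbn : b < a + n
    · exact ih h b ha hb hbn
    have hT := TStructure.t.triangleLTGE_distinguished b K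
    let K' := (TStructure.t.truncLT b).obj K
    let K'' := (TStructure.t.truncGE b).obj K
    have hlo : ∀ i, i < b →
        IsIso ((homologyFunctor _ i).map ((TStructure.t.triangleLTGE b).obj K).mor₁) :=
      fun i hi => @isIso_homologyMap_mor₁ _ _ _ _ _ hT b
        (inferInstance : TStructure.t.IsGE K'' b) i hi
    have hhi : ∀ i, b - 1 < i →
        IsIso ((homologyFunctor _ i).map ((TStructure.t.triangleLTGE b).obj K).mor₂) :=
      fun i hi => @isIso_homologyMap_mor₂ _ _ _ _ _ hT (b - 1)
        (inferInstance : TStructure.t.IsLE K' (b - 1)) i hi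
    have h' : ∀ i, DCoh.IsPerfect (DCoh.inD X (DCoh.HD K' i)) := fun i => by
      by_cases hi : i < b
      · exact Triangle.isPerfect_of_iso
          ((singleFunctor _ 0).mapIso (@asIso _ _ _ _ _ (hlo i hi)).symm) (h i)
      · exact isPerfect_of_isZero ((singleFunctor _ 0).map_isZero
          (isZero_of_isLE K' (b - 1) i (by omega)))
    have ha' : K'.IsGE a := (isGE_iff _ _).2 fun i hi => by
      by_cases hib : i < b
      · exact (isZero_of_isGE K a i hi).of_iso (@asIso _ _ _ _ _ (hlo i hib))
      · exact isZero_of_isLE K' (b - 1) i (by omega)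
    have hb'' : K''.IsLE b := (isLE_iff _ _).2 fun i hi => by
      exact (isZero_of_isLE K b i hi).of_iso (@asIso _ _ _ _ _ (hhi i (by omega))).symm
    obtain ⟨M, ⟨e⟩⟩ := exists_iso_singleFunctor_obj_of_isGE_of_isLE K'' b
    have hM : DCoh.IsPerfect (DCoh.inD X M) := Triangle.isPerfect_of_iso
      ((singleFunctor _ 0).mapIso (@asIso _ _ _ _ _ (hhi b (by omega)) ≪≫
        (homologyFunctor _ b).mapIso e ≪≫ (singleFunctorCompHomologyFunctorIso _ b).app M)) (h b)
    exact Triangle.isPerfect₂ hT (ih h' (b - 1) ha' inferInstance (by omega))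
      (Triangle.isPerfect_of_iso e.symm (isPerfect_single hM b))

end Groth.Agent.Lib.Perfect.OfCohomology
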