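import Mathlib.Algebra.Homology.DerivedCategory.HomologySequence
import Mathlib.Algebra.Homology.DerivedCategory.ShortExact
import Mathlib.Algebra.Homology.DerivedCategory.TStructure
import Mathlib.CategoryTheory.Abelian.DiagramLemmas.Four
import Mathlib.CategoryTheory.Limits.Preserves.Shapes.Kernels

/-!
# Maps which are isomorphisms in high degrees
-/

set_option autoImplicit false
set_option linter.style.haveILetI false

universe w v u

open CategoryTheory Limits CategoryTheory.Pretriangulated DerivedCategory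

namespace Groth.Agent.Lib.Perfect.Ascent

variable {C : Type u} [Category.{v} C] [Abelian C] [HasDerivedCategory.{w} C]

local notation "H" => DerivedCategory.homologyFunctor C

/-- `f` is an isomorphism on `H^i` for `i > m` and an epimorphism on `H^m`. -/
def Good (m : ℤ) {X Y : DerivedCategory C} (f : X ⟶ Y) : Prop :=
  (∀ i, m < i → IsIso ((H i).map f)) ∧ Epi ((H m).map f)

lemma Good.of_isIso (m : ℤ) {X Y : DerivedCategory C} (f : X ⟶ Y) [IsIso f] : Good m f :=
  ⟨fun _ _ => inferInstance, inferInstance⟩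

lemma Good.epi {m : ℤ} {X Y : DerivedCategory C} {f : X ⟶ Y} (h : Good m f) {i : ℤ} (hi : m ≤ i) :
    Epi ((H i).map f) := by
  rcases eq_or_lt_of_le hi with rfl | hlt
  · exact h.2
  · have := h.1 i hlt; infer_instance

lemma Good.mono' {m m' : ℤ} {X Y : DerivedCategory C} {f : X ⟶ Y} (h : Good m f) (hm : m ≤ m') :
    Good m' f :=
  ⟨fun i hi => h.1 i (by omega), h.epi hm⟩

lemma Good.comp {m : ℤ} {X Y Z : DerivedCategory C} {f : X ⟶ Y} {g : Y ⟶ Z} (hf : Good m f)
    (hg : Good m g) : Good m (f ≫ g) := by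
  refine ⟨fun i hi => ?_, ?_⟩
  · have := hf.1 i hi; have := hg.1 i hi
    rw [Functor.map_comp]; infer_instance
  · have := hf.2; have := hg.2
    rw [Functor.map_comp]; infer_instance

/-- `Good` read off the third vertex of a triangle. -/
lemma good_iff (m : ℤ) (T : Triangle (DerivedCategory C)) (hT : T ∈ distTriang (DerivedCategory C)) :
    Good m T.mor₁ ↔ ∀ i, m ≤ i → IsZero ((H i).obj T.obj₃) := by
  constructor
  · intro h i hi
    have := h.epi hi
    have h2 : (H i).map T.mor₂ = 0 := (HomologySequence.epi_homologyMap_mor₁_iff T hT i).1 this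
    have := h.1 (i + 1) (by omega)
    have h3 : HomologySequence.δ T i (i + 1) rfl = 0 :=
      (HomologySequence.mono_homologyMap_mor₁_iff T hT i (i + 1) rfl).1 inferInstance
    exact (HomologySequence.exact₃ T hT i (i + 1) rfl).isZero_X₂ h2 h3
  · intro h
    have he : ∀ i, m ≤ i → Epi ((H i).map T.mor₁) := fun i hi =>
      (HomologySequence.epi_homologyMap_mor₁_iff T hT i).2 ((h i hi).eq_of_tgt _ _)
    refine ⟨fun i hi => ?_, he m le_rfl⟩
    have := he i hi.le
    have : Mono ((H i).map T.mor₁) :=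
      (HomologySequence.mono_homologyMap_mor₁_iff T hT (i - 1) i (by omega)).2
        ((h (i - 1) (by omega)).eq_of_src _ _)
    exact isIso_of_mono_of_epi _

lemma Good.shift {m m' : ℤ} (n : ℤ) (hn : n + m' = m) {X Y : DerivedCategory C} {f : X ⟶ Y}
    (h : Good m f) : Good m' (f⟦n⟧') := by
  refine ⟨fun i hi => ?_, ?_⟩
  · exact (NatIso.isIso_map_iff ((H 0).shiftIso n i (n + i) rfl) f).2 (h.1 (n + i) (by omega))
  · exact ((MorphismProperty.epimorphisms C).arrow_mk_iso_iff
      (((Functor.mapArrowFunctor _ _).mapIso ((H 0).shiftIso n m' (n + m') rfl)).app (Arrow.mk f))).2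
      (h.epi (by omega))

/-- Ascent: for a morphism of triangles, if the first map is good in degree `m + 1` and the second
in degree `m`, the third is good in degree `m`. -/
theorem good₃ {m : ℤ} {T T' : Triangle (DerivedCategory C)}
    (hT : T ∈ distTriang (DerivedCategory C)) (hT' : T' ∈ distTriang (DerivedCategory C))
    (φ : T ⟶ T') (h₁ : Good (m + 1) φ.hom₁) (h₂ : Good m φ.hom₂) : Good m φ.hom₃ := by
  let seq : ∀ i : ℤ, (H 0).homologySequenceComposableArrows₅ T i (i + 1) rfl ⟶
      (H 0).homologySequenceComposableArrows₅ T' i (i + 1) rfl := fun i =>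
    ComposableArrows.homMk₅ ((H i).map φ.hom₁) ((H i).map φ.hom₂) ((H i).map φ.hom₃)
      ((H (i + 1)).map φ.hom₁) ((H (i + 1)).map φ.hom₂) ((H (i + 1)).map φ.hom₃)
      (by change (H i).map T.mor₁ ≫ _ = _ ≫ (H i).map T'.mor₁
          rw [← Functor.map_comp, ← Functor.map_comp, φ.comm₁])
      (by change (H i).map T.mor₂ ≫ _ = _ ≫ (H i).map T'.mor₂
          rw [← Functor.map_comp, ← Functor.map_comp, φ.comm₂])
      ((H 0).homologySequenceδ_naturality T T' φ i (i + 1) rfl).symm
      (by change (H (i + 1)).map T.mor₁ ≫ _ = _ ≫ (H (i + 1)).map T'.mor₁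
          rw [← Functor.map_comp, ← Functor.map_comp, φ.comm₁])
      (by change (H (i + 1)).map T.mor₂ ≫ _ = _ ≫ (H (i + 1)).map T'.mor₂
          rw [← Functor.map_comp, ← Functor.map_comp, φ.comm₂])
  have hR := fun i => (H 0).homologySequenceComposableArrows₅_exact T hT i (i + 1) rfl
  have hR' := fun i => (H 0).homologySequenceComposableArrows₅_exact T' hT' i (i + 1) rfl
  refine ⟨fun i hi => ?_, ?_⟩
  · refine Abelian.isIso_of_epi_of_isIso_of_isIso_of_mono' (k := 0) (by omega : 0 + 4 ≤ 5) (hR i) (hR' i) (seq i) 0 1 2 3 4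
      rfl rfl rfl rfl rfl ?_ ?_ ?_ ?_
    · exact h₁.epi (i := i) (by omega)
    · exact h₂.1 i hi
    · exact h₁.1 (i + 1) (by omega)
    · have := h₂.1 (i + 1) (by omega)
      exact (inferInstance : Mono ((H (i + 1)).map φ.hom₂))
  · refine Abelian.epi_of_epi_of_epi_of_mono'' (k := 1) (by omega : 1 + 3 ≤ 5) (hR m) (hR' m) (seq m) 1 2 3 4
      rfl rfl rfl rfl ?_ ?_ ?_
    · exact h₂.2
    · exact h₁.2
    · have := h₂.1 (m + 1) (by omega)
      exact (inferInstance : Mono ((H (m + 1)).map φ.hom₂))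

end Groth.Agent.Lib.Perfect.Ascent
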