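import Groth.Agent.Lib.FlatCx.Rank
import Mathlib.RingTheory.LocalRing.Module
import Mathlib.RingTheory.Finiteness.Prod
import Mathlib.LinearAlgebra.FiniteDimensional.Basic

/-!
# Complexes of free modules over a local ring with concentrated fibre cohomology
-/

set_option autoImplicit false
set_option linter.style.haveILetI false

universe u

namespace Groth.Agent.Lib.Perfect.LocalCx

open Groth.Agent.Lib.FlatCx.Rank

variable {A : Type u} [CommRing A] [IsLocalRing A]

local notation "cp" => IsLocalRing.closedPoint A

lemma fdim_free (M : Type u) [AddCommGroup M] [Module A M] [Module.Finite A M] [Module.Free A M] :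
    fdim M cp = Module.finrank A M := by
  rw [fdim_eq_rankAtStalk, Module.rankAtStalk_eq_finrank_of_free]
  rfl

/-- A finite module is generated by `fdim` elements. -/
lemma exists_surjection (N : Type u) [AddCommGroup N] [Module A N] [Module.Finite A N] :
    ∃ g : (Fin (fdim N cp) → A) →ₗ[A] N, Function.Surjective g := by
  obtain ⟨g, hg⟩ := exists_generators_near N cp
  refine ⟨g, ?_⟩
  rw [← LinearMap.range_eq_top, ← Submodule.Quotient.subsingleton_iff,
    ← Module.support_eq_empty_iff (R := A)]
  exact Set.eq_empty_of_forall_notMem fun y hy =>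
    hg (Module.mem_support_mono (IsLocalRing.le_maximalIdeal y.isPrime.ne_top) hy)

lemma bijective_of_surjective {M M' : Type u} [AddCommGroup M] [Module A M] [AddCommGroup M']
    [Module A M'] [Module.Finite A M] [Module.Free A M] [Module.Finite A M'] [Module.Free A M']
    (h : M →ₗ[A] M') (hs : Function.Surjective h)
    (hd : Module.finrank A M = Module.finrank A M') : Function.Bijective h := by
  let e := LinearEquiv.ofFinrankEq M' M hd.symm
  have := OrzechProperty.bijective_of_surjective_endomorphism
    (e.toLinearMap ∘ₗ h) (e.surjective.comp hs)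
  exact ⟨fun a b hab => this.1 (congrArg e hab), hs⟩

/-- A surjection onto a free module with the same fibre dimension is bijective. -/
lemma injective_of_fdim {N I : Type u} [AddCommGroup N] [Module A N] [Module.Finite A N]
    [AddCommGroup I] [Module A I] [Module.Finite A I] [Module.Free A I] (q : N →ₗ[A] I)
    (hq : Function.Surjective q) (hd : fdim N cp = Module.finrank A I) : Function.Injective q := by
  obtain ⟨g, hg⟩ := exists_surjection (A := A) N
  have := bijective_of_surjective (q ∘ₗ g) (hq.comp hg) (by rw [Module.finrank_fin_fun]; exact hd)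
  intro a b hab
  obtain ⟨a, rfl⟩ := hg a
  obtain ⟨b, rfl⟩ := hg b
  rw [this.1 hab]

/-- A map of free modules whose cokernel has the minimal fibre dimension is injective with free
cokernel. -/
lemma injective_and_free {M Y C : Type u} [AddCommGroup M] [Module A M] [Module.Finite A M]
    [Module.Free A M] [AddCommGroup Y] [Module A Y] [Module.Finite A Y] [Module.Free A Y]
    [AddCommGroup C] [Module A C] (u : M →ₗ[A] Y) (π : Y →ₗ[A] C) (hπ : Function.Surjective π)
    (hex : LinearMap.range u = LinearMap.ker π)
    (hd : fdim C cp + Module.finrank A M = Module.finrank A Y) :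
    Function.Injective u ∧ Module.Free A C := by
  haveI : Module.Finite A C := Module.Finite.of_surjective π hπ
  obtain ⟨g, hg⟩ := exists_surjection (A := A) C
  obtain ⟨g', hg'⟩ := Module.projective_lifting_property π g hπ
  let h : M × (Fin (fdim C cp) → A) →ₗ[A] Y := u.coprod g'
  have hs : Function.Surjective h := fun y => by
    obtain ⟨w, hw⟩ := hg (π y)
    have : y - g' w ∈ LinearMap.ker π := by
      rw [LinearMap.mem_ker, map_sub, ← LinearMap.comp_apply π g', hg', hw, sub_self]
    rw [← hex] at this
    obtain ⟨m, hm⟩ := this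
    exact ⟨(m, w), by simp [h, hm]⟩
  have hb := bijective_of_surjective h hs
    (by rw [Module.finrank_prod, Module.finrank_fin_fun, ← hd, add_comm])
  refine ⟨fun a b hab => congrArg Prod.fst (hb.1 (a₁ := (a, 0)) (a₂ := (b, 0)) (by simp [h, hab])),
    Module.Free.of_equiv (LinearEquiv.ofBijective g ⟨(injective_iff_map_eq_zero g).2 fun w hw => ?_, hg⟩)⟩
  have : g' w ∈ LinearMap.ker π := by
    rw [LinearMap.mem_ker, ← LinearMap.comp_apply π g', hg', hw]
  rw [← hex] at this
  obtain ⟨m, hm⟩ := this
  exact congrArg Prod.snd (hb.1 (a₁ := (-m, w)) (a₂ := 0) (by simp [h, hm]))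

variable {P Q : ℤ → Type u} [∀ k, AddCommGroup (P k)] [∀ k, Module A (P k)]
  [∀ k, Module.Finite A (P k)] [∀ k, Module.Free A (P k)]
  [∀ k, AddCommGroup (Q k)] [∀ k, Module A (Q k)]
  (u : ∀ k, Q k →ₗ[A] P (k + 1)) (π : ∀ k, P k →ₗ[A] Q k)

/-- `Q k` plays the role of the cokernels of the differentials of a bounded complex `P`; if the
fibre cohomology is concentrated in degree `i`, so is the cohomology, and it is free there. -/
theorem concentrated (hπ : ∀ k, Function.Surjective (π k))
    (hex : ∀ k, LinearMap.range (u k) = LinearMap.ker (π (k + 1)))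
    (a b : ℤ) (hz : ∀ k, k < a ∨ b < k → Subsingleton (Q k)) (i : ℤ)
    (hβ : ∀ k, k ≠ i → fdim (Q k) cp + fdim (Q (k + 1)) cp = Module.finrank A (P (k + 1))) :
    (∀ k, k ≠ i → Function.Injective (u k)) ∧ Module.Free A (LinearMap.ker (u i)) ∧
      Module.Finite A (LinearMap.ker (u i)) ∧
      Module.finrank A (LinearMap.ker (u i)) + Module.finrank A (P (i + 1)) =
        fdim (Q i) cp + fdim (Q (i + 1)) cp := by
  haveI hfin : ∀ k, Module.Finite A (Q k) := fun k => Module.Finite.of_surjective (π k) (hπ k)
  have hzf : ∀ k, k < a ∨ b < k → Module.Free A (Q k) := fun k hk => by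
    haveI := hz k hk
    exact Module.Free.of_subsingleton A (Q k)
  -- upwards
  have stepU : ∀ k, k ≠ i → Module.Free A (Q k) →
      Function.Injective (u k) ∧ Module.Free A (Q (k + 1)) := fun k hk hf => by
    refine injective_and_free (u k) (π (k + 1)) (hπ _) (hex k) ?_
    rw [← hβ k hk, ← fdim_free (Q k), add_comm]
  have up : ∀ (n : ℕ) k, k ≤ i → k < a + n → Module.Free A (Q k) := by
    intro n
    induction n with
    | zero => exact fun k _ hk => hzf k (Or.inl (by omega))
    | succ n ih =>
      intro k hk hkn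
      have := (stepU (k - 1) (by omega) (ih (k - 1) (by omega) (by omega))).2
      rwa [show k - 1 + 1 = k by omega] at this
  -- downwards
  have stepD : ∀ k, k ≠ i → Module.Free A (Q (k + 1)) →
      Function.Injective (u k) ∧ Module.Free A (Q k) := fun k hk hf => by
    obtain ⟨s, hs⟩ := Module.projective_lifting_property (π (k + 1)) LinearMap.id (hπ _)
    haveI : Module.Projective A (LinearMap.ker (π (k + 1))) := Module.Projective.of_split
      (LinearMap.ker (π (k + 1))).subtype
      ((LinearMap.id - s ∘ₗ π (k + 1)).codRestrict _ fun y => by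
        simp [← LinearMap.comp_apply (π (k + 1)) s, hs])
      (by ext ⟨y, hy⟩; simp [LinearMap.mem_ker.1 hy])
    haveI : Module.Finite A (LinearMap.ker (π (k + 1))) := by
      rw [← hex k]
      exact Module.Finite.range (u k)
    haveI : Module.Free A (LinearMap.ker (π (k + 1))) := Module.free_of_flat_of_isLocalRing
    let q : Q k →ₗ[A] LinearMap.ker (π (k + 1)) :=
      (u k).codRestrict _ fun y => hex k ▸ LinearMap.mem_range_self (u k) y
    have hq : Function.Surjective q := fun ⟨y, hy⟩ => by
      rw [← hex k] at hy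
      obtain ⟨z, hz⟩ := hy
      exact ⟨z, Subtype.ext hz⟩
    have hrk : fdim (Q k) cp = Module.finrank A (LinearMap.ker (π (k + 1))) := by
      let e : P (k + 1) →ₗ[A] LinearMap.ker (π (k + 1)) × Q (k + 1) :=
        ((LinearMap.id - s ∘ₗ π (k + 1)).codRestrict _ fun y => by
          simp [← LinearMap.comp_apply (π (k + 1)) s, hs]).prod (π (k + 1))
      have he : Function.Bijective e := by
        refine ⟨(injective_iff_map_eq_zero e).2 fun y hy => ?_, fun ⟨⟨w, hw⟩, v⟩ => ⟨w + s v, ?_⟩⟩
        · have h1 : π (k + 1) y = 0 := congrArg Prod.snd hy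
          have h2 := congrArg (fun p => (p.1 : P (k + 1))) hy
          simpa [e, h1] using h2
        · have hw' := LinearMap.mem_ker.1 hw
          refine Prod.ext (Subtype.ext ?_) ?_ <;> simp [e, hw', ← LinearMap.comp_apply (π (k + 1)) s, hs]
      have := (LinearEquiv.ofBijective e he).finrank_eq
      rw [Module.finrank_prod, ← fdim_free (Q (k + 1)), ← hβ k hk] at this
      omega
    have hinj := injective_of_fdim q hq hrk
    exact ⟨fun x y hxy => hinj (Subtype.ext hxy),
      Module.Free.of_equiv (LinearEquiv.ofBijective q ⟨hinj, hq⟩).symm⟩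
  have down : ∀ (n : ℕ) k, i < k → b < k + n → Module.Free A (Q k) := by
    intro n
    induction n with
    | zero => exact fun k _ hk => hzf k (Or.inr (by omega))
    | succ n ih =>
      intro k hk hkn
      exact (stepD k (by omega) (ih (k + 1) (by omega) (by omega))).2
  have free : ∀ k, Module.Free A (Q k) := fun k => by
    rcases le_or_gt k i with h | h
    · exact up ((k - a).toNat + 1) k h (by omega)
    · exact down ((b - k).toNat + 1) k h (by omega)
  refine ⟨fun k hk => (stepU k hk (free k)).1, ?_⟩
  haveI := free i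
  haveI := free (i + 1)
  obtain ⟨s, hs⟩ := Module.projective_lifting_property (π (i + 1)) LinearMap.id (hπ _)
  haveI : Module.Projective A (LinearMap.ker (π (i + 1))) := Module.Projective.of_split
    (LinearMap.ker (π (i + 1))).subtype
    ((LinearMap.id - s ∘ₗ π (i + 1)).codRestrict _ fun y => by
      simp [← LinearMap.comp_apply (π (i + 1)) s, hs])
    (by ext ⟨y, hy⟩; simp [LinearMap.mem_ker.1 hy])
  let q : Q i →ₗ[A] LinearMap.ker (π (i + 1)) :=
    (u i).codRestrict _ fun y => hex i ▸ LinearMap.mem_range_self (u i) y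
  have hker : LinearMap.ker q = LinearMap.ker (u i) := LinearMap.ker_codRestrict _ _ _
  have hq : Function.Surjective q := fun ⟨y, hy⟩ => by
    rw [← hex i] at hy
    obtain ⟨z, hz⟩ := hy
    exact ⟨z, Subtype.ext hz⟩
  obtain ⟨t, ht⟩ := Module.projective_lifting_property q LinearMap.id hq
  have hr : ∀ y : Q i, (LinearMap.id - t ∘ₗ q : Q i →ₗ[A] Q i) y ∈ LinearMap.ker (u i) := fun y => by
    rw [← hker, LinearMap.mem_ker]
    change q (y - t (q y)) = 0
    rw [map_sub, show q (t (q y)) = q y from LinearMap.congr_fun ht (q y), sub_self]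
  let r : Q i →ₗ[A] LinearMap.ker (u i) := (LinearMap.id - t ∘ₗ q).codRestrict _ hr
  have hrsub : r ∘ₗ (LinearMap.ker (u i)).subtype = LinearMap.id := by
    ext ⟨y, hy⟩
    have : q y = 0 := by rw [← LinearMap.mem_ker, hker]; exact hy
    simp [r, this]
  haveI : Module.Projective A (LinearMap.ker (u i)) := Module.Projective.of_split _ r hrsub
  haveI : Module.Finite A (LinearMap.ker (u i)) := Module.Finite.of_surjective r
    fun y => ⟨y, LinearMap.congr_fun hrsub y⟩
  haveI : Module.Free A (LinearMap.ker (u i)) := Module.free_of_flat_of_isLocalRing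
  refine ⟨inferInstance, inferInstance, ?_⟩
  haveI : Module.Finite A (LinearMap.ker (π (i + 1))) := by
    rw [← hex i]
    exact Module.Finite.range (u i)
  haveI : Module.Free A (LinearMap.ker (π (i + 1))) := Module.free_of_flat_of_isLocalRing
  let e₁ : Q i →ₗ[A] LinearMap.ker (u i) × LinearMap.ker (π (i + 1)) := r.prod q
  have he₁ : Function.Bijective e₁ := by
    refine ⟨(injective_iff_map_eq_zero e₁).2 fun y hy => ?_, fun ⟨w, v⟩ => ⟨w + t v, ?_⟩⟩
    · have h1 : q y = 0 := congrArg Prod.snd hy
      have h2 := congrArg (fun p => (p.1 : Q i)) hy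
      simpa [e₁, r, h1] using h2
    · have hw : q w.1 = 0 := by rw [← LinearMap.mem_ker, hker]; exact w.2
      have htv : q (t v) = v := LinearMap.congr_fun ht v
      refine Prod.ext (Subtype.ext ?_) ?_
      · simp [e₁, r, hw, htv]
      · simp [e₁, hw, htv]
  let e₂ : P (i + 1) →ₗ[A] LinearMap.ker (π (i + 1)) × Q (i + 1) :=
    ((LinearMap.id - s ∘ₗ π (i + 1)).codRestrict _ fun y => by
      simp [← LinearMap.comp_apply (π (i + 1)) s, hs]).prod (π (i + 1))
  have he₂ : Function.Bijective e₂ := by
    refine ⟨(injective_iff_map_eq_zero e₂).2 fun y hy => ?_, fun ⟨⟨w, hw⟩, v⟩ => ⟨w + s v, ?_⟩⟩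
    · have h1 : π (i + 1) y = 0 := congrArg Prod.snd hy
      have h2 := congrArg (fun p => (p.1 : P (i + 1))) hy
      simpa [e₂, h1] using h2
    · have hw' := LinearMap.mem_ker.1 hw
      refine Prod.ext (Subtype.ext ?_) ?_ <;> simp [e₂, hw', ← LinearMap.comp_apply (π (i + 1)) s, hs]
  have a1 := (LinearEquiv.ofBijective e₁ he₁).finrank_eq
  have a2 := (LinearEquiv.ofBijective e₂ he₂).finrank_eq
  rw [Module.finrank_prod, ← fdim_free (Q i)] at a1
  rw [Module.finrank_prod, ← fdim_free (Q (i + 1))] at a2
  omega

end Groth.Agent.Lib.Perfect.LocalCx
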