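import Groth.Agent.Lib.Perfect.FibreDim
import Groth.Agent.Lib.Perfect.LocalCx
import Groth.Agent.Lib.Perfect.LocFreeCoh

/-!
# Stalks of cohomology from concentrated fibre cohomology
-/

set_option autoImplicit false
set_option linter.style.haveILetI false

universe u

open CategoryTheory Limits AlgebraicGeometry

namespace Groth.Agent.Lib.Perfect.FibreStalk

open Groth.Agent.Lib Groth.Agent.Lib.Modules

variable {R : CommRingCat.{u}}

/-- The fibre dimension of a stalk of `Ñ` is that of `N`. -/
theorem fdim_stalk_tilde (N : ModuleCat.{u} R) [Module.Finite R N] (p : Spec R) :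
    FlatCx.Rank.fdim (A := (Spec R).presheaf.stalk p) ((tilde N).presheaf.stalk p)
        (IsLocalRing.closedPoint _) = FlatCx.Rank.fdim (A := R) N p := by
  let q : PrimeSpectrum R := p
  letI : Algebra R ((Spec R).presheaf.stalk p) := StructureSheaf.stalkAlgebra R q
  haveI : IsLocalization q.asIdeal.primeCompl ((Spec R).presheaf.stalk p) :=
    StructureSheaf.IsLocalization.to_stalk R q
  haveI : IsScalarTower R ((Spec R).presheaf.stalk p) ((tilde N).presheaf.stalk p) :=
    .of_algebraMap_smul fun _ _ => rfl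
  let e := (IsLocalizedModule.isBaseChange q.asIdeal.primeCompl ((Spec R).presheaf.stalk p)
    (tilde.toStalk N q).hom).equiv
  rw [← FlatCx.Rank.fdim_congr _ e, FlatCx.Rank.fdim_baseChange]
  congr 1
  exact PrimeSpectrum.ext (IsLocalization.AtPrime.under_maximalIdeal
    ((Spec R).presheaf.stalk p) q.asIdeal)

/-- Stalks of a finite free module. -/
lemma finite_free_stalk {U : Scheme.{u}} {M : U.Modules} {n : ℕ}
    (e : M ≅ FlatMod.freeMod U n) (x : U) :
    Module.Free (U.presheaf.stalk x) (M.presheaf.stalk x) ∧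
      Module.Finite (U.presheaf.stalk x) (M.presheaf.stalk x) ∧
      Module.finrank (U.presheaf.stalk x) (M.presheaf.stalk x) = n := by
  let b := (FreeStalk.stalkBasis U n x).map (StalkModule.stalkLinearEquiv e x).symm
  exact ⟨Module.Free.of_basis b, Module.Finite.of_basis b, by
    rw [Module.finrank_eq_card_basis b, Fintype.card_fin]⟩

/-- If the fibre cohomology at `p` of a complex of free modules is concentrated in degree `i`, so
are the stalks of its cohomology, and the stalk in degree `i` is free. -/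
theorem stalk_concentrated (E : CochainComplex (Spec R).Modules ℤ) (a b : ℤ)
    (hv : DCoh.VanishesOutside E a b) (n : ℤ → ℕ)
    (he : ∀ k, Nonempty (E.X k ≅ FlatMod.freeMod (Spec R) (n k)))
    (N : ℤ → ModuleCat.{u} R) (hN : ∀ k, Module.FinitePresentation R (N k))
    (hi : ∀ k, Nonempty (cokernel (E.d (k - 1) k) ≅ tilde (N k))) (p : Spec R) (i : ℤ) (r : ℕ)
    (h0 : ∀ k, k ≠ i → FlatCx.Rank.fdim (A := R) (N k) p + FlatCx.Rank.fdim (A := R) (N (k + 1)) p =
      n (k + 1))
    (hr : FlatCx.Rank.fdim (A := R) (N i) p + FlatCx.Rank.fdim (A := R) (N (i + 1)) p =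
      r + n (i + 1)) :
    (∀ k, k ≠ i → Subsingleton ((E.homology k).presheaf.stalk p)) ∧
      Module.Free ((Spec R).presheaf.stalk p) ((E.homology i).presheaf.stalk p) ∧
      Module.Finite ((Spec R).presheaf.stalk p) ((E.homology i).presheaf.stalk p) ∧
      Module.finrank ((Spec R).presheaf.stalk p) ((E.homology i).presheaf.stalk p) = r := by
  let F := StalkModule.stalkModFunctor (Spec R) p
  haveI : PreservesFiniteColimits F := PreservesColimitsOfSize.preservesFiniteColimits _
  let C : ℤ → (Spec R).Modules := fun k => cokernel (E.d (k - 1) k)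
  let π : ∀ k, E.X k ⟶ C k := fun k => cokernel.π _
  let u : ∀ k, C k ⟶ E.X (k + 1) := fun k => cokernel.desc _ (E.d k (k + 1)) (E.d_comp_d _ _ _)
  have hu : ∀ k, π k ≫ u k = E.d k (k + 1) := fun k => cokernel.π_desc _ _ _
  have huπ : ∀ k, u k ≫ π (k + 1) = 0 := fun k => by
    rw [← cancel_epi (π k), comp_zero, ← Category.assoc, hu k]
    have h : E.d (k + 1 - 1) (k + 1) ≫ π (k + 1) = 0 := cokernel.condition _
    rwa [show k + 1 - 1 = k by omega] at h
  have hex : ∀ k, (ShortComplex.mk (u k) (π (k + 1)) (huπ k)).Exact := fun k => by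
    have h1 : (ShortComplex.mk (E.d k (k + 1)) (π (k + 1))
        (by rw [← hu k, Category.assoc, huπ k, comp_zero])).Exact := by
      refine ShortComplex.exact_of_g_is_cokernel _ (CokernelCofork.IsColimit.ofπ' _ _ fun t ht => ?_)
      have ht' : E.d (k + 1 - 1) (k + 1) ≫ t = 0 := by
        rw [show k + 1 - 1 = k by omega]; exact ht
      exact ⟨cokernel.desc _ t ht', cokernel.π_desc _ _ _⟩
    let φ : ShortComplex.mk (E.d k (k + 1)) (π (k + 1))
        (by rw [← hu k, Category.assoc, huπ k, comp_zero]) ⟶ ShortComplex.mk (u k) (π (k + 1)) (huπ k) :=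
      { τ₁ := π k, τ₂ := 𝟙 _, τ₃ := 𝟙 _, comm₁₂ := by simp [hu k], comm₂₃ := by simp }
    haveI : Epi φ.τ₁ := inferInstanceAs (Epi (cokernel.π _))
    haveI : IsIso φ.τ₂ := inferInstanceAs (IsIso (𝟙 _))
    haveI : Mono φ.τ₃ := inferInstanceAs (Mono (𝟙 _))
    exact (ShortComplex.exact_iff_of_epi_of_isIso_of_mono φ).1 h1
  haveI : ∀ k, Module.Free ((Spec R).presheaf.stalk p) (F.obj (E.X k)) := fun k =>
    (finite_free_stalk (he k).some p).1
  haveI : ∀ k, Module.Finite ((Spec R).presheaf.stalk p) (F.obj (E.X k)) := fun k =>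
    (finite_free_stalk (he k).some p).2.1
  have hn : ∀ k, Module.finrank ((Spec R).presheaf.stalk p) (F.obj (E.X k)) = n k := fun k =>
    (finite_free_stalk (he k).some p).2.2
  have hC : ∀ k, FlatCx.Rank.fdim (A := (Spec R).presheaf.stalk p) (F.obj (C k))
      (IsLocalRing.closedPoint _) = FlatCx.Rank.fdim (A := R) (N k) p := fun k => by
    haveI := hN k
    rw [← fdim_stalk_tilde (N k) p]
    exact congrFun (FlatCx.Rank.fdim_congr _ (StalkModule.stalkLinearEquiv (hi k).some p)) _
  have hzC : ∀ k, k < a ∨ b < k → Subsingleton (F.obj (C k)) := fun k hk =>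
    ModuleCat.subsingleton_of_isZero (F.map_isZero (IsZero.of_epi (π k) (hv k hk)))
  have hπs : ∀ k, Function.Surjective (F.map (π k)).hom := fun k =>
    (ModuleCat.epi_iff_surjective _).1 inferInstance
  have hexs : ∀ k, LinearMap.range (F.map (u k)).hom = LinearMap.ker (F.map (π (k + 1))).hom :=
    fun k => ((hex k).map F).moduleCat_range_eq_ker
  obtain ⟨hinj, hfree, hfin, hrk⟩ := LocalCx.concentrated (A := (Spec R).presheaf.stalk p)
    (P := fun k => F.obj (E.X k)) (Q := fun k => F.obj (C k))
    (fun k => (F.map (u k)).hom) (fun k => (F.map (π k)).hom) hπs hexs a b hzC i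
    (fun k hk => by rw [hC k, hC (k + 1), hn (k + 1)]; exact h0 k hk)
  let eH : ∀ k, F.obj (E.homology k) ≅ ModuleCat.of ((Spec R).presheaf.stalk p)
      (LinearMap.ker (F.map (u k)).hom) := fun k =>
    F.mapIso (E.homologyIsoSc' (k - 1) k (k + 1) (by simp) (by simp) ≪≫
      (ShortComplex.RightHomologyData.ofHasCokernelOfHasKernel
        (E.sc' (k - 1) k (k + 1))).homologyIso) ≪≫
      PreservesKernel.iso F (u k) ≪≫ ModuleCat.kernelIsoKer _
  refine ⟨fun k hk => ?_, ?_, ?_, ?_⟩
  · haveI : Subsingleton (LinearMap.ker (F.map (u k)).hom) := by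
      rw [LinearMap.ker_eq_bot.2 (hinj k hk)]
      infer_instance
    exact (eH k).toLinearEquiv.toEquiv.subsingleton
  · exact Module.Free.of_equiv' hfree (eH i).toLinearEquiv.symm
  · haveI := hfin
    exact Module.Finite.equiv (eH i).toLinearEquiv.symm
  · have := (eH i).toLinearEquiv.finrank_eq
    rw [hC i, hC (i + 1), hn (i + 1), hr] at hrk
    have h' : Module.finrank ((Spec R).presheaf.stalk p) (LinearMap.ker (F.map (u i)).hom) = r := by
      omega
    exact this.trans h'

end Groth.Agent.Lib.Perfect.FibreStalk
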