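import Groth.Agent.Lib.Perfect.FlatPerfect
import Groth.Agent.Lib.DR.TorDim
import Mathlib.Algebra.Category.ModuleCat.ChangeOfRingsExact

/-!
# Pseudo-coherent with bounded cohomology and finite tor dimension of stalk modules
-/

set_option autoImplicit false
set_option linter.style.haveILetI false

universe u

open CategoryTheory CategoryTheory.Limits CategoryTheory.Pretriangulated AlgebraicGeometry
open Groth.Agent.Lib
open Groth.Agent.Lib.DR Groth.Agent.Lib.DR.Basic Groth.Agent.Lib.DR.FiniteComplex
open Groth.Agent.Lib.DR.PseudoCoherent Groth.Agent.Lib.DR.BaseChange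

attribute [local instance] HasDerivedCategory.standard

namespace Groth.Agent.Lib.Perfect.StalkTorDim

open Groth.Agent.Lib.Perfect.Basic Groth.Agent.Lib.Perfect.PseudoCoh

/-- All modules have finite flat amplitude. -/
def AllAmp (A : Type u) [CommRing A] : Prop :=
  ∀ M : ModuleCat.{u} A, ∃ a b : ℤ,
    Bdd (flat A) a b ((DerivedCategory.singleFunctor (ModuleCat.{u} A) 0).obj M)

lemma allAmp_of_hasFiniteTorDim {A : Type u} [CommRing A]
    (h : ∀ (M : Type u) [AddCommGroup M] [Module A M], DRing.HasFiniteTorDim A M) : AllAmp A := fun M => by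
  obtain ⟨d, hd⟩ := h M
  exact ⟨_, _, (TorDim.hasTorDimLE_iff M d).1 hd⟩

lemma flat_restrictScalars {R S : Type u} [CommRing R] [CommRing S] (σ : R ≃+* S) (M : ModuleCat.{u} S)
    (h : flat S M) : flat R ((ModuleCat.restrictScalars σ.toRingHom).obj M) := by
  letI : Algebra R S := σ.toRingHom.toAlgebra
  let e : S ≃ₗ[R] R :=
    { σ.symm.toAddEquiv with
      map_smul' := fun r x => by
        change σ.symm (σ r * x) = r * σ.symm x
        rw [map_mul, σ.symm_apply_apply] }
  haveI : Module.Flat R S := Module.Flat.of_linearEquiv e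
  letI : Module S ((ModuleCat.restrictScalars σ.toRingHom).obj M) := inferInstanceAs (Module S M)
  haveI : IsScalarTower R S ((ModuleCat.restrictScalars σ.toRingHom).obj M) :=
    IsScalarTower.of_algebraMap_smul fun _ _ => rfl
  haveI : Module.Flat S M := h
  haveI : Module.Flat S ((ModuleCat.restrictScalars σ.toRingHom).obj M) := h
  exact Module.Flat.trans R S ((ModuleCat.restrictScalars σ.toRingHom).obj M)

/-- `AllAmp` only depends on the ring up to isomorphism. -/
lemma allAmp_of_ringEquiv {R S : Type u} [CommRing R] [CommRing S] (σ : R ≃+* S) (h : AllAmp R) :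
    AllAmp S := fun M => by
  let G := ModuleCat.restrictScalars.{u} σ.toRingHom
  let G' := ModuleCat.restrictScalars.{u} σ.symm.toRingHom
  obtain ⟨a, b, hb⟩ := h (G.obj M)
  let e₀ : (G'.obj (G.obj M) : Type u) ≃ₗ[S] (M : Type u) :=
    { toFun := fun m => m
      invFun := fun m => m
      map_add' := fun _ _ => rfl
      map_smul' := fun s m => by
        change σ (σ.symm s) • (show M from m) = s • (show M from m)
        rw [σ.apply_symm_apply]
      left_inv := fun _ => rfl
      right_inv := fun _ => rfl }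
  let e : G'.obj (G.obj M) ≅ M := e₀.toModuleIso
  exact ⟨a, b, ((ExactPush.bdd_map G' (fun N hN => flat_restrictScalars σ.symm N hN) hb).of_iso
    (ExactPush.mapSingle G' (G.obj M) 0 ≪≫ (DerivedCategory.singleFunctor _ 0).mapIso e))⟩

/-- Bounded objects have finite amplitude. -/
lemma exists_amp {A : Type u} [CommRing A] (h : AllAmp A) (K : Dual.D A) (c d : ℤ) (hc : K.IsGE c)
    (hd : K.IsLE d) : ∃ a b : ℤ, Bdd (flat A) a b K := by
  refine DR.Perfect.homology_induction (fun K => ∃ a b : ℤ, Bdd (flat A) a b K)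
    (fun e ⟨a, b, hb⟩ => ⟨a, b, hb.of_iso e⟩) (fun hz => ⟨0, 0, bdd_zero good_flat hz 0 0⟩)
    (fun T hT ⟨a, b, h₁⟩ ⟨a', b', h₃⟩ => ⟨min a a', max b b', TorAmp.bdd_flat_ext T hT
      (h₁.mono (min_le_left _ _) (le_max_left _ _)) (h₃.mono (min_le_right _ _) (le_max_right _ _))⟩)
    K c d hc hd fun i _ _ => ?_
  obtain ⟨a, b, hb⟩ := h ((DerivedCategory.homologyFunctor (ModuleCat.{u} A) i).obj K)
  exact ⟨a - -i, b - -i, (hb.shift good_flat (-i) (a - -i) (b - -i) (by lia) (by lia)).of_iso
    (singleShift _ (-i) i 0 (by lia))⟩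

variable {X : Scheme.{u}}

/-- Bounded pseudo-coherent objects with all stalk modules of finite tor dimension are perfect. -/
theorem isPerfect_of_stalks
    (hX : ∀ (x : X) (M : Type u) [AddCommGroup M] [Module (X.presheaf.stalk x) M],
      DRing.HasFiniteTorDim (X.presheaf.stalk x) M)
    (K : DCoh.D X) (c d : ℤ) [K.IsGE c] [K.IsLE d]
    (hpc : ∀ m : ℤ, DCoh.IsPseudoCoherentD m K) : DCoh.IsPerfect K := by
  refine (Triangle.isPerfect_iff K).2 fun x => ?_
  haveI : PreservesFiniteColimits (Modules.StalkModule.stalkModFunctor X x) :=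
    PreservesColimitsOfSize.preservesFiniteColimits _
  obtain ⟨a, b, hab⟩ := exists_amp (allAmp_of_hasFiniteTorDim fun M _ _ => hX x M)
    ((FlatPerfect.SD x).obj K) c d (ExactPush.isGE_map _ ‹_›) (ExactPush.isLE_map _ ‹_›)
  let a₀ := min a c
  refine FlatPerfect.perfAt_of_stalk (a := a₀) ((iff_forall (a₀ - 1) K).1 (hpc _) x)
    (isGE_mono ‹K.IsGE c› (min_le_right _ _)) fun U j _ y hy => ?_
  subst hy
  haveI : PreservesFiniteColimits (Modules.StalkModule.stalkModFunctor U y) :=
    PreservesColimitsOfSize.preservesFiniteColimits _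
  let σ : X.presheaf.stalk (j y) ≃+* U.presheaf.stalk y :=
    (asIso (j.stalkMap y)).commRingCatIsoToRingEquiv
  let S : ModuleCat.{u} (U.presheaf.stalk y) ⥤ ModuleCat.{u} (X.presheaf.stalk (j y)) :=
    ModuleCat.restrictScalars.{u} σ.toRingHom
  let S' : ModuleCat.{u} (X.presheaf.stalk (j y)) ⥤ ModuleCat.{u} (U.presheaf.stalk y) :=
    ModuleCat.restrictScalars.{u} σ.symm.toRingHom
  obtain ⟨F, hF, ⟨eF⟩⟩ := K.exists_iso_Q_obj_of_isGE c
  let ψ : Modules.StalkModule.stalkModFunctor X (j y) ⋙ S' ≅
      Scheme.Modules.restrictFunctor j ⋙ Modules.StalkModule.stalkModFunctor U y :=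
    NatIso.ofComponents (fun M =>
      let e₀ : (S'.obj ((Modules.StalkModule.stalkModFunctor X (j y)).obj M) : Type u) ≃ₗ[U.presheaf.stalk y]
          (((Scheme.Modules.restrictFunctor j ⋙ Modules.StalkModule.stalkModFunctor U y).obj M) : Type u) :=
        { (Modules.StalkRestrict.restrictStalkAddEquiv j M y).symm with
          map_smul' := fun a v => by
            let e := Modules.StalkRestrict.restrictStalkAddEquiv j M y
            obtain ⟨a, rfl⟩ := σ.surjective a
            apply e.injective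
            change e (e.symm (σ.symm (σ a) • (show M.presheaf.stalk (j y) from v))) =
              e (j.stalkMap y a • e.symm v)
            rw [Modules.StalkRestrict.restrictStalkAddEquiv_smul, σ.symm_apply_apply,
              e.apply_symm_apply, e.apply_symm_apply] }
      e₀.toModuleIso)
      (fun {M N} φ => by
        ext v
        exact ConcreteCategory.congr_hom ((Modules.Local.restrictStalkIso j y).inv.naturality φ) v)
  obtain ⟨a', b', hab'⟩ : ∃ a' b', a₀ ≤ a' ∧ Bdd (flat (U.presheaf.stalk y)) a' b'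
      ((FlatPerfect.SD y).obj ((RD j).obj K)) := by
    refine ⟨a, b, min_le_left _ _, ?_⟩
    refine (ExactPush.bdd_map S' (fun N hN => flat_restrictScalars σ.symm N hN) hab).of_iso ?_
    exact S'.mapDerivedCategory.mapIso ((FlatPerfect.SD (j y)).mapIso eF ≪≫ ExactPush.mapQ _ F) ≪≫
      ExactPush.mapQ S' _ ≪≫
      DerivedCategory.Q.mapIso ((NatIso.mapHomologicalComplex ψ (ComplexShape.up ℤ)).app F) ≪≫
      (ExactPush.mapQ (Modules.StalkModule.stalkModFunctor U y) ((rC j).obj F)).symm ≪≫
      (FlatPerfect.SD y).mapIso ((RDQ j F).symm ≪≫ (RD j).mapIso eF.symm)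
  exact ⟨b', hab'.2.mono hab'.1 le_rfl⟩

end Groth.Agent.Lib.Perfect.StalkTorDim
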